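import Cfsg.Agent.Lib.L34Aut.Frame
import Mathlib.GroupTheory.OrderOfElement

/-!
The action on `E ∩ C(a)` modulo `⟨z, a⟩`: an element of order three moves each class, the group `T` fixes
them, and the squares of `T` lie in `⟨z, a⟩`.
-/

set_option autoImplicit false
set_option linter.style.haveILetI false
set_option linter.unusedSectionVars false
set_option synthInstance.maxHeartbeats 400000
set_option synthInstance.maxSize 4000

namespace Cfsg.Agent.L34Aut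

theorem cube_V : ∀ θ σ : S4, θ ^ 3 = 1 → θ ≠ 1 → InV σ → σ ≠ 1 →
    InV (θ * σ * θ⁻¹) ∧ θ * σ * θ⁻¹ ≠ σ ∧ σ * (θ * σ * θ⁻¹) * (θ * θ * σ * (θ * θ)⁻¹) = 1 := by
  decide +kernel

theorem V_orbit : ∀ θ σ τ : S4, θ ^ 3 = 1 → θ ≠ 1 → InV σ → σ ≠ 1 → InV τ → τ ≠ 1 →
    τ = σ ∨ τ = θ * σ * θ⁻¹ ∨ τ = θ * θ * σ * (θ * θ)⁻¹ := by
  decide +kernel

theorem exists_three : ∃ θ : S4, θ ^ 3 = 1 ∧ θ ≠ 1 :=
  ⟨Equiv.swap 0 1 * Equiv.swap 1 2, by decide +kernel, by decide +kernel⟩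

universe u

variable {G : Type u} [Group G] [Finite G] {z a : G} {E : Subgroup G} {ψ : G → S4}

/-- An element of order three of `C(⟨z, a⟩)`. -/
structure Three (z a : G) (ψ : G → S4) (x : G) : Prop where
  C : InC z a x
  x3 : x ^ 3 = 1
  θ3 : ψ x ^ 3 = 1
  θ1 : ψ x ≠ 1

/-- Elements of `C(⟨z, a⟩)` acting trivially on `E ∩ C(a)` modulo `⟨z, a⟩`. -/
def Triv (z a : G) (E : Subgroup G) (h : G) : Prop :=
  ∀ q, InE1 a E q → InU z a (q⁻¹ * (h * q * h⁻¹))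

namespace Frame

variable (F : Frame z a E ψ)
include F

theorem exists_x : ∃ x, Three z a ψ x := by
  obtain ⟨θ, h3, h1⟩ := exists_three
  obtain ⟨h, hC, hθ⟩ := F.ψ_surjC θ
  have hz := hC.1
  have hψ : ∀ n : ℕ, ψ (h ^ n) = θ ^ n := by
    intro n
    induction n with
    | zero => simp [F.B.ψ_one]
    | succ n ih => rw [pow_succ, pow_succ, F.B.ψ_mul _ _ (F.C_pow hC n).1 hz, ih, hθ]
  have hE : h ^ 3 ∈ E := (F.B.ψ_ker _ (F.C_pow hC 3).1).1 (by rw [hψ, h3])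
  have h4 : (h ^ 3) ^ 4 = 1 := by
    rw [show (h ^ 3) ^ 4 = h ^ 3 * h ^ 3 * (h ^ 3 * h ^ 3) by simp only [← pow_add, ← pow_mul]]
    rcases F.B.sq _ hE with e | e <;> rw [e]
    exacts [one_mul 1, F.B.zz]
  refine ⟨h ^ 4, F.C_pow hC 4, ?_, ?_, ?_⟩
  · rw [← pow_mul, mul_comm, pow_mul, h4]
  all_goals rw [hψ, show θ ^ 4 = θ by rw [pow_succ, h3, one_mul]]
  exacts [h3, h1]

theorem U_conj {h u : G} (hh : InC z a h) (hu : InU z a u) : h * u * h⁻¹ = u :=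
  cj_iff.2 (F.U_comm hu hh)

/-- An element of order three is not trivial modulo `⟨z, a⟩`. -/
theorem not_triv {x : G} (hx : Three z a ψ x) : ¬ Triv z a E x := by
  intro ht
  have fixed : ∀ q r, x * q * x⁻¹ = q * r → x * r * x⁻¹ = r → r * r * r = 1 := by
    intro q r hq hr
    have e3 : x ^ 3 * q * (x ^ 3)⁻¹ = q * (r * r * r) := by
      rw [show x ^ 3 = x * x * x by simp [pow_succ], cj_cj, hq, cj_mul, cj_cj x x q, hq, cj_mul, hq, hr,
        show x * x * r * (x * x)⁻¹ = r by rw [cj_cj, hr, hr]]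
      group
    rw [hx.x3, one_mul, inv_one, mul_one] at e3
    exact mul_left_cancel (e3.symm.trans (mul_one q).symm)
  have hE1 : ∀ q, InE1 a E q → x * q * x⁻¹ = q := by
    intro q hq
    obtain ⟨u, hu, e⟩ : ∃ u, InU z a u ∧ x * q * x⁻¹ = q * u :=
      ⟨_, ht q hq, by group⟩
    have h3 := fixed q u e (F.U_conj hx.C hu)
    rw [F.U_sq hu, one_mul] at h3
    rw [e, h3, mul_one]
  obtain ⟨b, hb, hba⟩ := F.exists_b
  have hk : InE1 a E (b⁻¹ * (x * b * x⁻¹)) := by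
    have hE := E.mul_mem (E.inv_mem hb) (F.B.norm x hx.C.1 b hb)
    refine ⟨hE, cj_iff.1 ?_⟩
    have h1 : b * a * b⁻¹ = a * z := (F.B.conjE hb F.A.mem).resolve_left fun e => hba (cj_iff.1 e)
    have h2 : x * b * x⁻¹ * a * (x * b * x⁻¹)⁻¹ = a * z := by
      rw [cj_cj, cj_cj, show x⁻¹ * a * (x⁻¹)⁻¹ = a from cj_iff.2 (F.C_inv hx.C).2, h1, cj_mul,
        cj_iff.2 hx.C.2, cj_iff.2 hx.C.1]
    rw [cj_cj, h2, ← h1]
    group
  have h3 := fixed b _ (by group : x * b * x⁻¹ = b * (b⁻¹ * (x * b * x⁻¹))) (hE1 _ hk)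
  have hk1 : b⁻¹ * (x * b * x⁻¹) = 1 := by
    set r := b⁻¹ * (x * b * x⁻¹)
    rcases F.B.sq r hk.1 with e | e <;> rw [e] at h3
    · rwa [one_mul] at h3
    · exfalso
      have e' : r = z := (mul_eq_one_iff_eq_inv'.1 h3).trans (inv_sq F.B.zz)
      rw [e', F.B.zz] at e
      exact F.B.z1 e.symm
  have hxb : x * b * x⁻¹ = b := by
    calc x * b * x⁻¹ = b * (b⁻¹ * (x * b * x⁻¹)) := by group
      _ = b := by rw [hk1, mul_one]
  have hall : ∀ q ∈ E, x * q = q * x := by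
    intro q hq
    refine cj_iff.1 ?_
    by_cases hqa : q * a = a * q
    · exact hE1 q ⟨hq, hqa⟩
    · have hbq : InE1 a E (b * q) := by
        refine ⟨E.mul_mem hb hq, cj_iff.1 ?_⟩
        rw [cj_cj, (F.B.conjE hq F.A.mem).resolve_left fun e => hqa (cj_iff.1 e), cj_mul,
          (F.B.conjE hb F.A.mem).resolve_left fun e => hba (cj_iff.1 e), cj_iff.2 (F.B.Ez b hb), F.B.z_mul_z]
      rw [show q = b⁻¹ * (b * q) by group, cj_mul, hE1 _ hbq,
        show x * b⁻¹ * x⁻¹ = (x * b * x⁻¹)⁻¹ by group, hxb]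
  exact hx.θ1 ((F.B.ψ_ker x hx.C.1).2 (F.B.self x hx.C.1 hall))

theorem triv_mul {g h : G} (hg : InC z a g) (hgt : Triv z a E g) (hht : Triv z a E h) (hh : InC z a h) :
    Triv z a E (g * h) := by
  intro q hq
  rw [cj_cj]
  have e : q⁻¹ * (g * (h * q * h⁻¹) * g⁻¹) =
      q⁻¹ * (h * q * h⁻¹) * ((h * q * h⁻¹)⁻¹ * (g * (h * q * h⁻¹) * g⁻¹)) := by group
  rw [e]
  exact F.U_mul (hht q hq) (hgt _ (F.E1_conj hh hq))

theorem U_move {h q r : G} (hh : InC z a h) (e : InU z a (q⁻¹ * r)) :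
    InU z a ((h * q * h⁻¹)⁻¹ * (h * r * h⁻¹)) := by
  rw [show (h * q * h⁻¹)⁻¹ * (h * r * h⁻¹) = h * (q⁻¹ * r) * h⁻¹ by group, F.U_conj hh e]
  exact e

theorem U_trans {p q r : G} (e1 : InU z a (p⁻¹ * q)) (e2 : InU z a (q⁻¹ * r)) : InU z a (p⁻¹ * r) := by
  rw [show p⁻¹ * r = p⁻¹ * q * (q⁻¹ * r) by group]
  exact F.U_mul e1 e2

theorem U_symm {p q : G} (e1 : InU z a (p⁻¹ * q)) : InU z a (q⁻¹ * p) := by
  rw [show q⁻¹ * p = (p⁻¹ * q)⁻¹ by group]
  exact F.U_inv e1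

theorem E_triv {q : G} (hq : InE1 a E q) : Triv z a E q := by
  intro r hr
  rcases F.B.conjE hq.1 hr.1 with e | e <;> rw [e]
  · left; group
  · right; left; group

/-- An element of order three moves every class. -/
theorem x_moves {x i : G} (hx : Three z a ψ x) (hi : InE1 a E i) (hiU : ¬ InU z a i) :
    ¬ InU z a (i⁻¹ * (x * i * x⁻¹)) := by
  intro hfix
  obtain ⟨p, hp, hpn⟩ : ∃ p, InE1 a E p ∧ ¬ InU z a (p⁻¹ * (x * p * x⁻¹)) := by
    have h := F.not_triv hx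
    simp only [Triv, not_forall] at h
    obtain ⟨p, hp, h⟩ := h
    exact ⟨p, hp, h⟩
  have hpU : ¬ InU z a p := fun h => hpn (by rw [F.U_conj hx.C h, inv_mul_cancel]; exact Or.inl rfl)
  have hip : ¬ InU z a (i⁻¹ * p) := fun h =>
    hpn (F.U_trans (F.U_trans (F.U_symm h) hfix) (F.U_move hx.C h))
  have h2 : ∀ q, InE1 a E q → ¬ InU z a q → ¬ InU z a (i⁻¹ * q) → ¬ InU z a (q⁻¹ * p) →
      InU z a ((i * p)⁻¹ * q) := by
    intro q hq q1 q2 q3
    rcases F.cosets hi hp hiU hpU hip hq with h | h | h | h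
    exacts [absurd h q1, absurd h q2, absurd (F.U_symm h) q3, h]
  set r := x * p * x⁻¹
  set s := x * r * x⁻¹
  have hr := F.E1_conj hx.C hp
  have hs := F.E1_conj hx.C hr
  have movU : ∀ q, InE1 a E q → ¬ InU z a q → ¬ InU z a (x * q * x⁻¹) := fun q hq hn h => hn (by
    rw [show q = x⁻¹ * (x * q * x⁻¹) * (x⁻¹)⁻¹ by group, F.U_conj (F.C_inv hx.C) h]
    exact h)
  have movI : ∀ q, InE1 a E q → ¬ InU z a (i⁻¹ * q) → ¬ InU z a (i⁻¹ * (x * q * x⁻¹)) := fun q hq hn h => hn (by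
    have := F.U_move (F.C_inv hx.C) (F.U_trans (F.U_symm hfix) h)
    rwa [show x⁻¹ * (x * i * x⁻¹) * x⁻¹⁻¹ = i by group, show x⁻¹ * (x * q * x⁻¹) * x⁻¹⁻¹ = q by group] at this)
  have hrp : ¬ InU z a (r⁻¹ * p) := fun h => hpn (F.U_symm h)
  have hrU := h2 r hr (movU p hp hpU) (movI p hp hip) hrp
  have hsr : ¬ InU z a (r⁻¹ * s) := fun h => hpn (by
    have := F.U_move (F.C_inv hx.C) h
    rwa [show x⁻¹ * r * x⁻¹⁻¹ = p by simp only [r]; group, show x⁻¹ * s * x⁻¹⁻¹ = r by simp only [s]; group] at this)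
  have hsp : InU z a (s⁻¹ * p) := by
    by_contra hsp
    exact hsr (F.U_trans (F.U_symm hrU)
      (h2 s hs (movU r hr (movU p hp hpU)) (movI r hr (movI p hp hip)) hsp))
  have h3 : x * s * x⁻¹ = p := by
    simp only [s, r]
    rw [← cj_cj, ← cj_cj, show x * x * x = x ^ 3 by simp [pow_succ], hx.x3]
    group
  have := F.U_move hx.C hsp
  rw [h3] at this
  exact hpn this

/-- The three classes. -/
theorem x_cosets {x i q : G} (hx : Three z a ψ x) (hi : InE1 a E i) (hiU : ¬ InU z a i) (hq : InE1 a E q) :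
    InU z a q ∨ InU z a (i⁻¹ * q) ∨ InU z a ((x * i * x⁻¹)⁻¹ * q) ∨
      InU z a ((x * x * i * (x * x)⁻¹)⁻¹ * q) := by
  set j := x * i * x⁻¹
  set k := x * x * i * (x * x)⁻¹
  have hj := F.E1_conj hx.C hi
  have hk := F.E1_conj (F.C_mul hx.C hx.C) hi
  have hjU : ¬ InU z a j := fun h => hiU (by
    rw [show i = x⁻¹ * j * x⁻¹⁻¹ by simp only [j]; group, F.U_conj (F.C_inv hx.C) h]; exact h)
  have hij := F.x_moves hx hi hiU
  have hjk : ¬ InU z a (j⁻¹ * k) := by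
    rw [show k = x * j * x⁻¹ from cj_cj _ _ _]
    exact F.x_moves hx hj hjU
  have hik : ¬ InU z a (i⁻¹ * k) := fun h => by
    have := F.U_move hx.C h
    rw [show x * k * x⁻¹ = i by
      simp only [k]; rw [← cj_cj, show x * (x * x) = x ^ 3 by simp [pow_succ, mul_assoc], hx.x3]; group] at this
    exact hij (F.U_symm this)
  have hkU : ¬ InU z a k := fun h => hiU (by
    rw [show i = (x * x)⁻¹ * k * ((x * x)⁻¹)⁻¹ by simp only [k]; group,
      F.U_conj (F.C_inv (F.C_mul hx.C hx.C)) h]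
    exact h)
  rcases F.cosets hi hj hiU hjU hij hq with h | h | h | h
  · exact Or.inl h
  · exact Or.inr (Or.inl h)
  · exact Or.inr (Or.inr (Or.inl h))
  · refine Or.inr (Or.inr (Or.inr (F.U_trans ?_ h)))
    rcases F.cosets hi hj hiU hjU hij hk with h' | h' | h' | h'
    exacts [absurd h' hkU, absurd h' hik, absurd h' hjk, F.U_symm h']

theorem V_conj {g t : G} (hg : InC z a g) (ht : InT z a ψ t) : InT z a ψ (g * t * g⁻¹) :=
  ⟨F.C_conj hg ht.1, by rw [F.B.ψ_conj hg.1 ht.1.1]; exact inV_conj _ _ ht.2⟩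

theorem T_mul {g h : G} (hg : InT z a ψ g) (hh : InT z a ψ h) : InT z a ψ (g * h) :=
  ⟨F.C_mul hg.1 hh.1, by rw [F.B.ψ_mul _ _ hg.1.1 hh.1.1]; exact inV_mul _ _ hg.2 hh.2⟩

theorem T_inv {g : G} (hg : InT z a ψ g) : InT z a ψ g⁻¹ :=
  ⟨F.C_inv hg.1, by rw [F.B.ψ_inv hg.1.1, inv_sq hg.2.1]; exact hg.2⟩

theorem E1_T {q : G} (hq : InE1 a E q) : InT z a ψ q :=
  ⟨F.E1_C hq, by rw [(F.B.ψ_ker q (F.B.Ez q hq.1)).2 hq.1]; decide⟩

theorem U_T {u : G} (hu : InU z a u) : InT z a ψ u := F.E1_T (F.U_E hu)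

theorem T_sq_E1 {t : G} (ht : InT z a ψ t) : InE1 a E (t * t) :=
  ⟨(F.B.ψ_ker _ (mul_comm' ht.1.1 ht.1.1)).1 (by rw [F.B.ψ_mul _ _ ht.1.1 ht.1.1, ht.2.1]),
    mul_comm' ht.1.2 ht.1.2⟩

/-- `T` acts trivially modulo `⟨z, a⟩`. -/
theorem T_triv {t : G} (ht : InT z a ψ t) : Triv z a E t := by
  obtain ⟨x, hx⟩ := F.exists_x
  obtain ⟨i, hi, hiU⟩ : ∃ i, InE1 a E i ∧ ¬ InU z a i := by
    obtain ⟨i, hi, j, hj, hij⟩ := F.E1_nonabelian
    exact ⟨i, hi, fun h => hij (F.U_comm h (F.E1_C hj)).symm⟩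
  -- fixing one class forces all
  have key : ∀ s, InT z a ψ s → ∀ p, InE1 a E p → ¬ InU z a p → InU z a (p⁻¹ * (s * p * s⁻¹)) →
      Triv z a E s := by
    intro s hs p hp hpU hfix q hq
    set s' := x * s * x⁻¹ with hs'
    have hsT : InT z a ψ s' := F.V_conj hx.C hs
    obtain ⟨e, he, hcomm⟩ : ∃ e, InE1 a E e ∧ s * s' = s' * s * e :=
      ⟨(s' * s)⁻¹ * (s * s'), ⟨(F.B.ψ_ker _ (F.C_mul (F.C_inv (F.C_mul hsT.1 hs.1)) (F.C_mul hs.1 hsT.1)).1).1 (by
        rw [F.B.ψ_mul _ _ (inv_comm' (mul_comm' hsT.1.1 hs.1.1)) (mul_comm' hs.1.1 hsT.1.1),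
          F.B.ψ_inv (mul_comm' hsT.1.1 hs.1.1), F.B.ψ_mul _ _ hsT.1.1 hs.1.1, F.B.ψ_mul _ _ hs.1.1 hsT.1.1,
          inV_comm _ _ hs.2 hsT.2, inv_mul_cancel]),
        (F.C_mul (F.C_inv (F.C_mul hsT.1 hs.1)) (F.C_mul hs.1 hsT.1)).2⟩, by group⟩
    set p1 := x * p * x⁻¹ with hp1
    set p2 := x * x * p * (x * x)⁻¹ with hp2
    have hp1E := F.E1_conj hx.C hp
    have hp2E := F.E1_conj (F.C_mul hx.C hx.C) hp
    have fix1 : InU z a (p1⁻¹ * (s' * p1 * s'⁻¹)) := by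
      have := F.U_move hx.C hfix
      rwa [← cj_cj, show x * s = s' * x by simp only [s']; group, cj_cj] at this
    have m12 : ¬ InU z a (p⁻¹ * p1) := F.x_moves hx hp hpU
    -- the image of `p1`
    have hsp1 : InU z a (p1⁻¹ * (s * p1 * s⁻¹)) := by
      by_contra hn
      have hpU1 : ¬ InU z a p1 := fun h => hpU (by
        rw [show p = x⁻¹ * p1 * x⁻¹⁻¹ by simp only [p1]; group, F.U_conj (F.C_inv hx.C) h]; exact h)
      have hcases := F.x_cosets hx hp hpU (F.E1_conj hs.1 hp1E)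
      have img2 : InU z a (p2⁻¹ * (s * p1 * s⁻¹)) := by
        rcases hcases with h | h | h | h
        · exact absurd (by
            have := h
            rw [show p1 = s⁻¹ * (s * p1 * s⁻¹) * s⁻¹⁻¹ by group, F.U_conj (F.C_inv hs.1) this]
            exact this) hpU1
        · exact absurd (by
            have := F.U_move (F.C_inv hs.1) (F.U_trans (F.U_symm hfix) h)
            rwa [show s⁻¹ * (s * p * s⁻¹) * s⁻¹⁻¹ = p by group,
              show s⁻¹ * (s * p1 * s⁻¹) * s⁻¹⁻¹ = p1 by group] at this) m12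
        · exact absurd h hn
        · exact h
      -- now `s s'` and `s' s` differ on `p1`
      have a1 : InU z a (p2⁻¹ * (s * s' * p1 * (s * s')⁻¹)) := by
        rw [cj_cj]
        exact F.U_trans img2 (F.U_move hs.1 fix1)
      have a2 : InU z a ((s' * p2 * s'⁻¹)⁻¹ * (s * s' * p1 * (s * s')⁻¹)) := by
        rw [hcomm, cj_cj (s' * s), cj_cj s' s]
        have h1 := F.U_move hs.1 (F.E_triv he p1 hp1E)
        exact F.U_move hsT.1 (F.U_trans img2 h1)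
      have hs'2 : InU z a (p2⁻¹ * (s' * p2 * s'⁻¹)) := F.U_trans a1 (F.U_symm a2)
      -- so `s'` fixes two classes, and conjugating back `s` fixes `p1`
      have := F.U_move (F.C_inv hx.C) hs'2
      rw [show x⁻¹ * p2 * x⁻¹⁻¹ = p1 by simp only [p1, p2]; group,
        show x⁻¹ * (s' * p2 * s'⁻¹) * x⁻¹⁻¹ = s * p1 * s⁻¹ by simp only [p1, p2, s']; group] at this
      exact hn this
    have hsp2 : InU z a (p2⁻¹ * (s * p2 * s⁻¹)) := by
      rcases F.x_cosets hx hp hpU (F.E1_conj hs.1 hp2E) with h | h | h | h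
      · exfalso
        have hp2U : InU z a p2 := by
          rw [show p2 = s⁻¹ * (s * p2 * s⁻¹) * s⁻¹⁻¹ by group, F.U_conj (F.C_inv hs.1) h]; exact h
        refine hpU ?_
        rw [show p = (x * x)⁻¹ * p2 * ((x * x)⁻¹)⁻¹ by simp only [p2]; group,
          F.U_conj (F.C_inv (F.C_mul hx.C hx.C)) hp2U]
        exact hp2U
      · exfalso
        have := F.U_move (F.C_inv hs.1) (F.U_trans (F.U_symm hfix) h)
        rw [show s⁻¹ * (s * p * s⁻¹) * s⁻¹⁻¹ = p by group,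
          show s⁻¹ * (s * p2 * s⁻¹) * s⁻¹⁻¹ = p2 by group] at this
        have := F.U_move hx.C this
        rw [show x * p2 * x⁻¹ = p by
          simp only [p2]; rw [← cj_cj, show x * (x * x) = x ^ 3 by simp [pow_succ, mul_assoc], hx.x3]; group] at this
        exact F.x_moves hx hp hpU (F.U_symm this)
      · exfalso
        have := F.U_move (F.C_inv hs.1) (F.U_trans (F.U_symm hsp1) h)
        rw [show s⁻¹ * (s * p1 * s⁻¹) * s⁻¹⁻¹ = p1 by group,
          show s⁻¹ * (s * p2 * s⁻¹) * s⁻¹⁻¹ = p2 by group, show p2 = x * p1 * x⁻¹ from cj_cj _ _ _] at this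
        exact F.x_moves hx hp1E (fun h => hpU (by
          rw [show p = x⁻¹ * p1 * x⁻¹⁻¹ by simp only [p1]; group, F.U_conj (F.C_inv hx.C) h]; exact h)) this
      · exact h
    rcases F.x_cosets hx hp hpU hq with h | h | h | h
    · rw [F.U_conj hs.1 h, inv_mul_cancel]; exact Or.inl rfl
    · exact F.U_trans (F.U_trans (F.U_symm h) hfix) (F.U_move hs.1 h)
    · exact F.U_trans (F.U_trans (F.U_symm h) hsp1) (F.U_move hs.1 h)
    · exact F.U_trans (F.U_trans (F.U_symm h) hsp2) (F.U_move hs.1 h)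
  by_contra hnt
  have hti := F.E1_conj ht.1 hi
  have nfix : ∀ p, InE1 a E p → ¬ InU z a p → ¬ InU z a (p⁻¹ * (t * p * t⁻¹)) := fun p hp hpU h =>
    hnt (key t ht p hp hpU h)
  have twice : ∀ p, InE1 a E p → InU z a (p⁻¹ * (t * (t * p * t⁻¹) * t⁻¹)) := fun p hp => by
    rw [← cj_cj]; exact F.E_triv (F.T_sq_E1 ht) p hp
  -- a fixed class among the three
  set j := x * i * x⁻¹
  set k := x * x * i * (x * x)⁻¹
  have hj := F.E1_conj hx.C hi
  have hk := F.E1_conj (F.C_mul hx.C hx.C) hi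
  have hjU : ¬ InU z a j := fun h => hiU (by
    rw [show i = x⁻¹ * j * x⁻¹⁻¹ by simp only [j]; group, F.U_conj (F.C_inv hx.C) h]; exact h)
  have hkU : ¬ InU z a k := fun h => hiU (by
    rw [show i = (x * x)⁻¹ * k * ((x * x)⁻¹)⁻¹ by simp only [k]; group,
      F.U_conj (F.C_inv (F.C_mul hx.C hx.C)) h]; exact h)
  have back : ∀ p, InE1 a E p → ∀ r, InE1 a E r → InU z a (r⁻¹ * (t * p * t⁻¹)) → InU z a (p⁻¹ * (t * r * t⁻¹)) :=
    fun p hp r _ h => F.U_trans (twice p hp) (F.U_symm (F.U_move ht.1 h))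
  have hi' := F.x_cosets hx hi hiU hti
  rcases hi' with h | h | h | h
  · exact hiU (by rw [show i = t⁻¹ * (t * i * t⁻¹) * t⁻¹⁻¹ by group, F.U_conj (F.C_inv ht.1) h]; exact h)
  · exact nfix i hi hiU h
  · have hb := back i hi j hj h
    rcases F.x_cosets hx hi hiU (F.E1_conj ht.1 hk) with h' | h' | h' | h'
    · exact hkU (by rw [show k = t⁻¹ * (t * k * t⁻¹) * t⁻¹⁻¹ by group, F.U_conj (F.C_inv ht.1) h']; exact h')
    · have hkj := F.U_move (F.C_inv ht.1) (F.U_trans (F.U_symm hb) h')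
      rw [show t⁻¹ * (t * j * t⁻¹) * t⁻¹⁻¹ = j by group, show t⁻¹ * (t * k * t⁻¹) * t⁻¹⁻¹ = k by group,
        show k = x * j * x⁻¹ from cj_cj _ _ _] at hkj
      exact F.x_moves hx hj hjU hkj
    · have hki := F.U_move (F.C_inv ht.1) (F.U_trans (F.U_symm h) h')
      rw [show t⁻¹ * (t * i * t⁻¹) * t⁻¹⁻¹ = i by group, show t⁻¹ * (t * k * t⁻¹) * t⁻¹⁻¹ = k by group] at hki
      have := F.U_move hx.C hki
      rw [show x * k * x⁻¹ = i by
        simp only [k]; rw [← cj_cj, show x * (x * x) = x ^ 3 by simp [pow_succ, mul_assoc], hx.x3]; group] at this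
      exact F.x_moves hx hi hiU (F.U_symm this)
    · exact nfix k hk hkU h'
  · have hb := back i hi k hk h
    rcases F.x_cosets hx hi hiU (F.E1_conj ht.1 hj) with h' | h' | h' | h'
    · exact hjU (by rw [show j = t⁻¹ * (t * j * t⁻¹) * t⁻¹⁻¹ by group, F.U_conj (F.C_inv ht.1) h']; exact h')
    · have hjk := F.U_move (F.C_inv ht.1) (F.U_trans (F.U_symm h') hb)
      rw [show t⁻¹ * (t * j * t⁻¹) * t⁻¹⁻¹ = j by group, show t⁻¹ * (t * k * t⁻¹) * t⁻¹⁻¹ = k by group,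
        show k = x * j * x⁻¹ from cj_cj _ _ _] at hjk
      exact F.x_moves hx hj hjU hjk
    · exact nfix j hj hjU h'
    · have hij := F.U_move (F.C_inv ht.1) (F.U_trans (F.U_symm h) h')
      rw [show t⁻¹ * (t * i * t⁻¹) * t⁻¹⁻¹ = i by group,
        show t⁻¹ * (t * j * t⁻¹) * t⁻¹⁻¹ = j by group] at hij
      exact F.x_moves hx hi hiU hij

/-- The squares of `T` lie in `⟨z, a⟩`. -/
theorem T_sq {t : G} (ht : InT z a ψ t) : InU z a (t * t) := by
  refine F.E1_center (F.T_sq_E1 ht) fun q hq => cj_iff.1 ?_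
  obtain ⟨u, hu, e⟩ : ∃ u, InU z a u ∧ t * q * t⁻¹ = q * u := ⟨_, F.T_triv ht q hq, by group⟩
  rw [cj_cj, e, cj_mul, e, F.U_conj ht.1 hu, mul_assoc, F.U_sq hu, mul_one]

end Frame

end Cfsg.Agent.L34Aut
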