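import Cfsg.Agent.Lib.L34Aut.Lone

/-!
The elementary subgroup of order 16 as a subgroup, and subgroups containing `x` and `z`.
-/

set_option autoImplicit false
set_option linter.style.haveILetI false
set_option linter.unusedSectionVars false
set_option linter.unusedVariables false
set_option synthInstance.maxHeartbeats 400000
set_option synthInstance.maxSize 4000

namespace Cfsg.Agent.L34Aut

universe u

variable {G : Type u} [Group G] [Finite G] {z a x m l₀ l₁ y g : G} {E : Subgroup G} {ψ : G → S4}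

namespace Frame

variable (F : Frame z a E ψ) (D : TData z a E ψ x m l₀ l₁)
include F D

/-- The subgroup `T`. -/
theorem exists_T : ∃ T : Subgroup G, Nat.card T = 64 ∧ ∀ h, h ∈ T ↔ InT z a ψ h := by
  classical
  haveI := Fintype.ofFinite G
  let T : Subgroup G :=
    { carrier := {h | InT z a ψ h}
      one_mem' := F.U_T (Or.inl rfl)
      mul_mem' := fun hp hq => F.T_mul hp hq
      inv_mem' := fun hp => F.T_inv hp }
  refine ⟨T, ?_, fun h => Iff.rfl⟩
  let f : T →* S4 :=
    { toFun := fun h => ψ (h : G)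
      map_one' := F.B.ψ_one
      map_mul' := fun p q => F.B.ψ_mul _ _ p.2.1.1 q.2.1.1 }
  have hker : Nat.card f.ker = 16 := by
    rw [← F.card_E1]
    refine Nat.card_congr
      { toFun := fun h => ⟨(h : T), (F.B.ψ_ker _ h.1.2.1.1).1 h.2, h.1.2.1.2⟩
        invFun := fun q => ⟨⟨q.1, F.E1_T q.2⟩, (F.B.ψ_ker q.1 (F.B.Ez q.1 q.2.1)).2 q.2.1⟩
        left_inv := fun _ => rfl
        right_inv := fun _ => rfl }
  have hr : Nat.card f.range = 4 := by
    refine Eq.trans ?_ card_inV
    rw [Nat.card_eq_fintype_card, Fintype.card_subtype]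
    congr 1
    ext σ
    simp only [Finset.mem_filter, Finset.mem_univ, true_and, MonoidHom.mem_range]
    constructor
    · rintro ⟨h, rfl⟩; exact h.2.2
    · intro hσ
      obtain ⟨h, hh, rfl⟩ := F.ψ_surjC σ
      exact ⟨⟨h, hh, hσ⟩, rfl⟩
  rw [← f.ker.card_mul_index, Subgroup.index_ker, hker, hr]

/-- The elementary subgroup of order 16. -/
theorem exists_A (hm : m * m = a * z) :
    ∃ A : Subgroup G, Nat.card A = 16 ∧ ∀ w, w ∈ A ↔ InA z a x (m * l₁) w := by
  classical
  obtain ⟨hvT, hv2, hvE⟩ := F.v_facts D hm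
  set v := m * l₁ with hv
  let A : Subgroup G :=
    { carrier := {w | InT z a ψ w ∧ w * w = 1 ∧ w * v = v * w}
      one_mem' := ⟨F.U_T (Or.inl rfl), one_mul 1, by simp⟩
      mul_mem' := fun {p q} hp hq => by
        have hpA := F.mem_A_of_comm D hm hp.1 hp.2.1 hp.2.2
        have hqA := F.mem_A_of_comm D hm hq.1 hq.2.1 hq.2.2
        refine ⟨F.T_mul hp.1 hq.1, ?_, mul_comm' hp.2.2 hq.2.2⟩
        -- two elements of the same class commute
        have hc : ∀ y, InY x y → ∀ w, InA z a x v w → w * (y * v * y⁻¹) = y * v * y⁻¹ * w := by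
          intro y hy w hw
          have hyC := F.Y_C D hy
          obtain ⟨hwT, hw2, hwv⟩ := F.InA_T D hm hw
          have hw' : InT z a ψ (y⁻¹ * w * y) := by
            have := F.V_conj (F.C_inv hyC) hwT; rwa [inv_inv] at this
          have h2' : y⁻¹ * w * y * (y⁻¹ * w * y) = 1 := by
            rw [show y⁻¹ * w * y * (y⁻¹ * w * y) = y⁻¹ * (w * w) * y by group, hw2]; group
          by_cases hU : InU z a w
          · exact (F.U_comm hU (F.C_conj hyC hvT.1)).symm
          by_contra hne
          -- otherwise `y⁻¹ w y` is in the other family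
          obtain ⟨-, y', hy', w', hw'', u, hu, e⟩ := F.invol_cases D hwT hw2 hU
          rcases hw'' with rfl | rfl
          · apply hne
            have hy'C := F.Y_C D hy'
            have comm : ∀ p q, InY x p → InY x q → p * v * p⁻¹ * (q * v * q⁻¹) = q * v * q⁻¹ * (p * v * p⁻¹) := by
              have hxC := D.X.C
              have hxx := F.C_mul hxC hxC
              have i1 : InA z a x v (x * v * x⁻¹) := Or.inr (Or.inr (Or.inl (by rw [inv_mul_cancel]; exact Or.inl rfl)))
              have i2 : InA z a x v (x * x * v * (x * x)⁻¹) :=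
                Or.inr (Or.inr (Or.inr (by rw [inv_mul_cancel]; exact Or.inl rfl)))
              have c01 := (F.InA_T D hm i1).2.2
              have c02 := (F.InA_T D hm i2).2.2
              have c12 : x * v * x⁻¹ * (x * x * v * (x * x)⁻¹) = x * x * v * (x * x)⁻¹ * (x * v * x⁻¹) := by
                rw [cj_cj x x v, ← cj_mul, ← cj_mul, ← c01]
              rintro p q (rfl | rfl | rfl) (rfl | rfl | rfl) <;> (try simp only [one_mul, inv_one, mul_one])
              exacts [c01.symm, c02.symm, c01, c12, c02, c12.symm]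
            rw [e, cj_mul y', F.U_conj hy'C hu]
            exact mul_comm' (comm y' y hy' hy) (F.U_comm hu (F.C_conj hyC hvT.1)).symm
          · exfalso
            rcases F.mem_A_of_comm D hm hwT hw2 hwv with h | h | h | h
            · exact hU h
            all_goals
              have hgo : ∀ p, InY x p → InU z a ((p * v * p⁻¹)⁻¹ * w) → False := by
                intro p hp hpu
                rw [e] at hpu
                have hψ : ψ p * ψ v * (ψ p)⁻¹ = ψ y' * ψ v * (ψ y')⁻¹ := by
                  have hpC := F.Y_C D hp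
                  have hy'C := F.Y_C D hy'
                  have h1 := (F.B.ψ_ker _ (mul_comm' (inv_comm' (F.C_conj hpC hvT.1).1) (e ▸ hwT.1.1))).2 (F.U_E hpu).1
                  have hE0 : ∀ q, q ∈ E → ψ q = 1 := fun q hq => (F.B.ψ_ker q (F.B.Ez q hq)).2 hq
                  have hwu : (l₀ * l₁) * u ∈ E := E.mul_mem (E.mul_mem D.h₀.1 D.h₁.1) (F.U_E hu).1
                  rw [F.B.ψ_mul _ _ (inv_comm' (F.C_conj hpC hvT.1).1) (e ▸ hwT.1.1),
                    F.B.ψ_inv (F.C_conj hpC hvT.1).1, inv_mul_eq_one, F.B.ψ_conj hpC.1 hvT.1.1,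
                    mul_assoc m (l₀ * l₁) u, F.B.ψ_conj hy'C.1 (mul_comm' D.m_T.1.1 (F.B.Ez _ hwu)),
                    F.B.ψ_mul _ _ D.m_T.1.1 (F.B.Ez _ hwu), hE0 _ hwu, mul_one] at h1
                  rw [h1, hv, F.B.ψ_mul _ _ D.m_T.1.1 (F.B.Ez _ D.h₁.1), hE0 _ D.h₁.1, mul_one]
                have hpy : p = y' := by
                  have hψv : ψ v ≠ 1 := fun h => hvE ((F.B.ψ_ker v hvT.1.1).1 h)
                  obtain ⟨-, c12, -⟩ := cube_V _ _ D.X.θ3 D.X.θ1 hvT.2 hψv
                  have h3 : ψ x * (ψ x * ψ x) = 1 := by rw [← D.X.θ3]; simp [pow_succ, mul_assoc]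
                  have n3 : ψ x * ψ x * ψ v * (ψ x * ψ x)⁻¹ ≠ ψ v := fun h => c12 (by
                    calc ψ x * ψ v * (ψ x)⁻¹ = ψ x * (ψ x * ψ x * ψ v * (ψ x * ψ x)⁻¹) * (ψ x)⁻¹ := by rw [h]
                      _ = (ψ x * (ψ x * ψ x)) * ψ v * (ψ x * (ψ x * ψ x))⁻¹ := by group
                      _ = ψ v := by rw [h3]; group)
                  have n4 : ψ x * ψ x * ψ v * (ψ x * ψ x)⁻¹ ≠ ψ x * ψ v * (ψ x)⁻¹ := fun h => c12 (by
                    refine cj_inj (a := ψ x) ?_
                    rw [← cj_cj]; exact h)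
                  rcases hp with rfl | rfl | rfl <;> rcases hy' with rfl | rfl | rfl <;>
                    simp only [F.B.ψ_one, F.B.ψ_mul _ _ D.X.C.1 D.X.C.1, one_mul, inv_one, mul_one] at hψ <;> first
                    | rfl
                    | exact absurd hψ c12
                    | exact absurd hψ.symm c12
                    | exact absurd hψ n3
                    | exact absurd hψ.symm n3
                    | exact absurd hψ n4
                    | exact absurd hψ.symm n4
                subst hpy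
                have hpC := F.Y_C D hp
                rw [show (p * v * p⁻¹)⁻¹ * (p * (m * (l₀ * l₁) * u) * p⁻¹) =
                  p * (v⁻¹ * (m * (l₀ * l₁) * u)) * p⁻¹ by group] at hpu
                have := F.U_conj (F.C_inv hpC) hpu
                rw [show p⁻¹ * (p * (v⁻¹ * (m * (l₀ * l₁) * u)) * p⁻¹) * p⁻¹⁻¹ = v⁻¹ * (m * (l₀ * l₁) * u) by group] at this
                have h9 : InU z a (v⁻¹ * (m * (l₀ * l₁) * u)) := by rw [this]; exact hpu
                rw [show v⁻¹ * (m * (l₀ * l₁) * u) = l₁⁻¹ * (l₀ * l₁) * u by simp only [v]; group] at h9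
                have h10 := F.U_mul h9 (F.U_inv hu)
                rw [mul_inv_cancel_right] at h10
                have h11 := F.U_conj (F.E1_C D.h₁) h10
                refine D.n₀ ?_
                rw [show l₁ * (l₁⁻¹ * (l₀ * l₁)) * l₁⁻¹ = l₀ by group] at h11
                rw [h11]; exact h10
            · exact hgo 1 (Or.inl rfl) (by rw [one_mul, inv_one, mul_one]; exact h)
            · exact hgo x (Or.inr (Or.inl rfl)) h
            · exact hgo (x * x) (Or.inr (Or.inr rfl)) h
        have hpq : p * q = q * p := by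
          rcases hqA with h | h | h | h
          · exact F.U_comm h hp.1.1
          all_goals
            have key : ∀ y, InY x y → InU z a ((y * v * y⁻¹)⁻¹ * q) → p * q = q * p := fun y hy h => by
              rw [show q = y * v * y⁻¹ * ((y * v * y⁻¹)⁻¹ * q) by group]
              exact comm_mul (hc y hy p hpA) (F.U_comm h hp.1.1)
          · exact key 1 (Or.inl rfl) (by rw [one_mul, inv_one, mul_one]; exact h)
          · exact key x (Or.inr (Or.inl rfl)) h
          · exact key (x * x) (Or.inr (Or.inr rfl)) h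
        rw [show p * q * (p * q) = p * (q * p) * q by group, ← hpq,
          show p * (p * q) * q = p * p * (q * q) by group, hp.2.1, hq.2.1, one_mul]
      inv_mem' := fun {p} hp => by rw [inv_sq hp.2.1]; exact hp }
  have hA : ∀ w, w ∈ A ↔ InA z a x v w := fun w =>
    ⟨fun h => F.mem_A_of_comm D hm h.1 h.2.1 h.2.2, fun h => F.InA_T D hm h⟩
  refine ⟨A, ?_, hA⟩
  obtain ⟨T, hT64, hT⟩ := F.exists_T D
  -- image of order four, kernel the four-group
  haveI := Fintype.ofFinite G
  let f : A →* S4 :=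
    { toFun := fun h => ψ (h : G)
      map_one' := F.B.ψ_one
      map_mul' := fun p q => F.B.ψ_mul _ _ p.2.1.1.1 q.2.1.1.1 }
  have hker : Nat.card f.ker = 4 := by
    refine Eq.trans (Nat.card_congr ?_) F.card_U
    refine
      { toFun := fun h => ⟨((h : A) : G), F.B.four_of_comm F.A ((F.B.ψ_ker _ h.1.2.1.1.1).1 h.2) h.1.2.1.1.2
          h.1.2.2.1⟩
        invFun := fun q => ⟨⟨q.1, (hA _).2 (Or.inl q.2)⟩, (F.B.ψ_ker q.1 (F.B.Ez q.1 (F.U_E q.2).1)).2 (F.U_E q.2).1⟩
        left_inv := fun _ => rfl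
        right_inv := fun _ => rfl }
  have hr : Nat.card f.range = 4 := by
    refine Eq.trans ?_ card_inV
    rw [Nat.card_eq_fintype_card, Fintype.card_subtype]
    congr 1
    ext σ
    simp only [Finset.mem_filter, Finset.mem_univ, true_and, MonoidHom.mem_range]
    constructor
    · rintro ⟨h, rfl⟩; exact h.2.1.2
    · intro hσ
      have hψv : ψ v ≠ 1 := fun h => hvE ((F.B.ψ_ker v hvT.1.1).1 h)
      by_cases h1 : σ = 1
      · exact ⟨1, by rw [h1, map_one]⟩
      have hxC := D.X.C
      rcases V_orbit (ψ x) (ψ v) σ D.X.θ3 D.X.θ1 hvT.2 hψv hσ h1 with rfl | rfl | rfl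
      · exact ⟨⟨v, (hA v).2 (Or.inr (Or.inl (by rw [inv_mul_cancel]; exact Or.inl rfl)))⟩, rfl⟩
      · exact ⟨⟨x * v * x⁻¹, (hA _).2 (Or.inr (Or.inr (Or.inl (by rw [inv_mul_cancel]; exact Or.inl rfl))))⟩,
          F.B.ψ_conj hxC.1 hvT.1.1⟩
      · refine ⟨⟨x * x * v * (x * x)⁻¹,
          (hA _).2 (Or.inr (Or.inr (Or.inr (by rw [inv_mul_cancel]; exact Or.inl rfl))))⟩, ?_⟩
        show ψ (x * x * v * (x * x)⁻¹) = _
        rw [F.B.ψ_conj (F.C_mul hxC hxC).1 hvT.1.1, F.B.ψ_mul _ _ hxC.1 hxC.1]
  rw [← f.ker.card_mul_index, Subgroup.index_ker, hker, hr]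

/-- A normal subgroup containing `x` and `z` contains `T`. -/
theorem T_le {N : Subgroup G} (hN : N.Normal) (hza : ∃ k, k * z * k⁻¹ = a) (hxN : x ∈ N) (hzN : z ∈ N)
    {t : G} (ht : InT z a ψ t) : t ∈ N := by
  have haN : a ∈ N := by
    obtain ⟨k, rfl⟩ := hza
    exact hN.conj_mem _ hzN _
  have hU : ∀ u, InU z a u → u ∈ N := by
    rintro u (rfl | rfl | rfl | rfl)
    exacts [N.one_mem, hzN, haN, N.mul_mem haN hzN]
  have hxC := D.X.C
  set s := x⁻¹ * x⁻¹ * t * (x⁻¹ * x⁻¹)⁻¹ with hs
  have hsT : InT z a ψ s := F.V_conj (F.C_mul (F.C_inv hxC) (F.C_inv hxC)) ht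
  -- `t` is congruent to a commutator with `x`
  have htri := F.triple D hsT
  have e2 : x * x * s * (x * x)⁻¹ = t := by simp only [s]; group
  rw [e2] at htri
  have hc : s⁻¹ * (x * s * x⁻¹) ∈ N := by
    have : s⁻¹ * (x * s * x⁻¹) = (s⁻¹ * x * s⁻¹⁻¹) * x⁻¹ := by group
    rw [this]
    exact N.mul_mem (hN.conj_mem _ hxN _) (N.inv_mem hxN)
  have e : t = (s⁻¹ * (x * s * x⁻¹))⁻¹ * ((s * s)⁻¹ * (s * (x * s * x⁻¹) * t)) := by group
  rw [e]
  exact N.mul_mem (N.inv_mem hc) (N.mul_mem (N.inv_mem (hU _ (F.T_sq hsT))) (hU _ htri))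

end Frame

end Cfsg.Agent.L34Aut
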