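import Cfsg.Agent.Lib.L34Aut.Fusion

/-!
If `z` is conjugate to another element of its centraliser then it is conjugate to `a` by an element
normalising `⟨z, a⟩`, and `T` has involutions outside `⟨z, a⟩`.
-/

set_option autoImplicit false
set_option linter.style.haveILetI false
set_option linter.unusedSectionVars false
set_option linter.unusedVariables false
set_option synthInstance.maxHeartbeats 400000
set_option synthInstance.maxSize 4000

namespace Cfsg.Agent.L34Aut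

theorem three_no_comm : ∀ σ τ : S4, σ ^ 3 = 1 → InV τ → τ ≠ 1 → σ * τ = τ * σ → σ = 1 := by decide +kernel

theorem cent_two : ∀ θ σ ρ : S4, θ ^ 3 = 1 → θ ≠ 1 → InV σ → σ ≠ 1 → ρ * σ = σ * ρ →
    ρ * (θ * σ * θ⁻¹) = θ * σ * θ⁻¹ * ρ → InV ρ := by decide +kernel

theorem comm_odd : ∀ θ σ ρ : S4, θ ^ 3 = 1 → θ ≠ 1 → InV σ → σ ≠ 1 → ρ * σ * ρ⁻¹ = σ → ¬ InV ρ →
    InV (θ * (ρ * θ * ρ⁻¹)) := by decide +kernel

theorem inV_of_pow : ∀ σ : S4, σ ^ 8 = 1 → (∀ τ : S4, (σ * (τ * σ * τ⁻¹)) ^ 8 = 1) → InV σ := by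
  decide +kernel

universe u

variable {G : Type u} [Group G] [Finite G] {z a x m l₀ l₁ : G} {E : Subgroup G} {ψ : G → S4}

/-- The elementary subgroup of order 16 containing `m l₁`. -/
def InA (z a x v : G) (w : G) : Prop :=
  InU z a w ∨ InU z a (v⁻¹ * w) ∨ InU z a ((x * v * x⁻¹)⁻¹ * w) ∨ InU z a ((x * x * v * (x * x)⁻¹)⁻¹ * w)

namespace Frame

variable (F : Frame z a E ψ)
include F

theorem ψ_pow {h : G} (hh : h * z = z * h) (n : ℕ) : ψ (h ^ n) = ψ h ^ n := by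
  induction n with
  | zero => simp [F.B.ψ_one]
  | succ n ih =>
    rw [pow_succ, pow_succ, F.B.ψ_mul _ _ ((show Commute h z from hh).pow_left n).eq hh, ih]

/-- `T` inside `C`, by element orders alone. -/
theorem T_iff {t : G} (ht : InC z a t) :
    InT z a ψ t ↔ t ^ 8 = 1 ∧ ∀ c, InC z a c → (t * (c * t * c⁻¹)) ^ 8 = 1 := by
  have hexp : ∀ s, InT z a ψ s → s ^ 8 = 1 := fun s hs => by
    rw [show s ^ 8 = (s * s) * (s * s) * ((s * s) * (s * s)) by simp [pow_succ, mul_assoc],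
      F.U_sq (F.T_sq hs), one_mul]
  constructor
  · exact fun h => ⟨hexp t h, fun c hc => hexp _ (F.T_mul h (F.V_conj hc h))⟩
  · rintro ⟨h8, hc⟩
    refine ⟨ht, inV_of_pow _ (by rw [← F.ψ_pow ht.1, h8, F.B.ψ_one]) fun τ => ?_⟩
    obtain ⟨c, hcC, rfl⟩ := F.ψ_surjC τ
    have hC := F.C_conj hcC ht
    rw [← F.B.ψ_conj hcC.1 ht.1, ← F.B.ψ_mul _ _ ht.1 hC.1, ← F.ψ_pow (F.C_mul ht hC).1, hc c hcC, F.B.ψ_one]

theorem exists_conj_az : ∃ b, b * z = z * b ∧ b * a * b⁻¹ = a * z := by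
  obtain ⟨b, hb, hba⟩ := F.exists_b
  exact ⟨b, F.B.Ez b hb, (F.B.conjE hb F.A.mem).resolve_left fun e => hba (cj_iff.1 e)⟩

/-- Commutators in `T` lie in `⟨z, a⟩`. -/
theorem T_comm {p q : G} (hp : InT z a ψ p) (hq : InT z a ψ q) : ∃ c, InU z a c ∧ p * q = q * p * c := by
  refine ⟨(p * p)⁻¹ * (p * q⁻¹ * (p * q⁻¹)) * (q * q), ?_, by group⟩
  exact F.U_mul (F.U_mul (F.U_inv (F.T_sq hp)) (F.T_sq (F.T_mul hp (F.T_inv hq)))) (F.T_sq hq)

variable (D : TData z a E ψ x m l₀ l₁)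
include D

/-- The product of the three translates of an element of `T` lies in `⟨z, a⟩`. -/
theorem triple {t : G} (ht : InT z a ψ t) :
    InU z a (t * (x * t * x⁻¹) * (x * x * t * (x * x)⁻¹)) := by
  have hxC := D.X.C
  have hxx := F.C_mul hxC hxC
  have h1 := F.V_conj hxC ht
  have h2 := F.V_conj hxx ht
  set r := t * (x * t * x⁻¹) * (x * x * t * (x * x)⁻¹)
  have hrT := F.T_mul (F.T_mul ht h1) h2
  have hr : InE1 a E r := by
    refine ⟨(F.B.ψ_ker r hrT.1.1).1 ?_, hrT.1.2⟩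
    rw [F.B.ψ_mul _ _ (F.T_mul ht h1).1.1 h2.1.1, F.B.ψ_mul _ _ ht.1.1 h1.1.1, F.B.ψ_conj hxC.1 ht.1.1,
      F.B.ψ_conj hxx.1 ht.1.1, F.B.ψ_mul _ _ hxC.1 hxC.1]
    by_cases h : ψ t = 1
    · rw [h]; group
    · exact (cube_V (ψ x) (ψ t) D.X.θ3 D.X.θ1 ht.2 h).2.2
  by_contra hU
  refine F.x_moves D.X hr hU ?_
  have e : x * r * x⁻¹ = t⁻¹ * r * t⁻¹⁻¹ := by
    simp only [r]
    rw [cj_mul, cj_mul, ← cj_cj, ← cj_cj, show x * (x * x) = x ^ 3 by simp [pow_succ, mul_assoc], D.X.x3]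
    group
  rw [e]
  exact F.T_triv (F.T_inv ht) r hr

theorem v_facts (hm : m * m = a * z) : InT z a ψ (m * l₁) ∧ m * l₁ * (m * l₁) = 1 ∧ m * l₁ ∉ E := by
  refine ⟨F.T_mul D.m_T (F.E1_T D.h₁), ?_, fun h => D.m_E (by simpa using E.mul_mem h (E.inv_mem D.h₁.1))⟩
  rw [F.sq_l1 D, hm, F.U_sq (Or.inr (Or.inr (Or.inr rfl)))]

/-- No element of order three centralises an involution of `T` outside `E`. -/
theorem no_three {p t : G} (hp : p * z = z * p) (hp3 : p ^ 3 = 1) (hp1 : p ≠ 1)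
    (ht : InT z a ψ t) (htE : t ∉ E) (hpt : p * t = t * p) : False := by
  have h3 : ψ p ^ 3 = 1 := by rw [← F.ψ_pow hp, hp3, F.B.ψ_one]
  have hne : ψ t ≠ 1 := fun h => htE ((F.B.ψ_ker t ht.1.1).1 h)
  have hψ := three_no_comm (ψ p) (ψ t) h3 ht.2 hne
    (by rw [← F.B.ψ_mul _ _ hp ht.1.1, hpt, F.B.ψ_mul _ _ ht.1.1 hp])
  have hpE := (F.B.ψ_ker p hp).1 hψ
  rcases F.B.sq p hpE with e | e
  · exact hp1 (by
      calc p = p * p * p := by rw [e, one_mul]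
        _ = 1 := by rw [← hp3]; simp [pow_succ])
  · have e3 : z * p = 1 := by rw [← e, ← hp3]; simp [pow_succ]
    have : p = z := (eq_inv_of_mul_eq_one_right e3).trans (inv_sq F.B.zz)
    rw [this, F.B.zz] at e
    exact F.B.z1 e.symm

theorem x_ne_one : x ≠ 1 := fun h => D.X.θ1 (by rw [h, F.B.ψ_one])

/-- An involution of `T` commuting with `m l₁` lies in its elementary subgroup. -/
theorem mem_A_of_comm (hm : m * m = a * z) {t : G} (ht : InT z a ψ t) (h2 : t * t = 1)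
    (hc : t * (m * l₁) = m * l₁ * t) : InA z a x (m * l₁) t := by
  by_cases hU : InU z a t
  · exact Or.inl hU
  obtain ⟨-, y, hy, w, hw, u, hu, rfl⟩ := F.invol_cases D ht h2 hU
  obtain ⟨hvT, hv2, hvE⟩ := F.v_facts D hm
  have hyC := F.Y_C D hy
  rcases hw with rfl | rfl
  · have e : y * (m * w * u) * y⁻¹ = y * (m * w) * y⁻¹ * u := by rw [cj_mul, F.U_conj hyC hu]
    rw [e]
    rcases hy with rfl | rfl | rfl
    · exact Or.inr (Or.inl (by rw [one_mul, inv_one, mul_one, inv_mul_cancel_left]; exact hu))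
    · exact Or.inr (Or.inr (Or.inl (by rw [inv_mul_cancel_left]; exact hu)))
    · exact Or.inr (Or.inr (Or.inr (by rw [inv_mul_cancel_left]; exact hu)))
  exfalso
  -- the other class: `m l₀ l₁ = v k` with `k` in the class of `l₀`
  set v := m * l₁ with hv
  have hk : m * (l₀ * l₁) * u = v * (l₀ * z * u) := by
    rw [hv, show m * (l₀ * l₁) * u = m * l₁ * (l₁⁻¹ * l₀ * l₁) * u by group,
      show l₁⁻¹ * l₀ * l₁ = l₀ * z by
        skip
        calc l₁⁻¹ * l₀ * l₁ = l₁⁻¹ * (l₀ * z * z) * l₁ := by rw [F.B.z_mul_z]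
          _ = l₁⁻¹ * (l₁ * l₀ * l₁⁻¹ * z) * l₁ := by rw [F.l1_conj_l0 D]
          _ = l₀ * (l₁⁻¹ * z * l₁⁻¹⁻¹) := by group
          _ = l₀ * z := by rw [cj_iff.2 (F.B.Ez _ (E.inv_mem D.h₁.1))]]
    group
  set k := l₀ * z * u with hkdef
  have hkE : InE1 a E k := F.E1_mul (F.E1_mul D.h₀ (F.U_E (Or.inr (Or.inl rfl)))) (F.U_E hu)
  have hkU : ¬ InU z a k := fun h => D.n₀ (by
    have := F.U_mul h (F.U_mul (F.U_inv hu) (Or.inr (Or.inl rfl) : InU z a z))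
    rwa [hkdef, show l₀ * z * u * (u⁻¹ * z) = l₀ * (z * z) by group, F.B.zz, mul_one] at this)
  rw [hk] at hc ht h2 hU
  have hprod : InT z a ψ (y * (v * k) * y⁻¹ * v) := F.T_mul ht hvT
  have hp2 : y * (v * k) * y⁻¹ * v * (y * (v * k) * y⁻¹ * v) = 1 := by
    calc _ = y * (v * k) * y⁻¹ * (v * (y * (v * k) * y⁻¹)) * v := by group
      _ = y * (v * k) * y⁻¹ * (y * (v * k) * y⁻¹) * (v * v) := by rw [← hc]; group
      _ = 1 := by rw [h2, hv2, one_mul]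
  have hxC := D.X.C
  have conjk : ∀ {c}, InC z a c → ¬ InU z a (c * k * c⁻¹) := fun hc h => hkU (by
    have := F.conj_U (inv_comm' hc.1) h; simpa [mul_assoc] using this)
  rcases hy with rfl | hy
  · -- the same class: `l₀` would centralise `v`
    have e : k * v = v * k := by
      have : v * k * v = v * (v * k) := by simpa using hc
      exact mul_left_cancel ((mul_assoc _ _ _).symm.trans this)
    have hlv : l₀ * v = v * l₀ := by
      have hzu := F.U_mul (Or.inr (Or.inl rfl) : InU z a z) hu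
      have ez := F.U_comm hzu hvT.1
      refine mul_right_cancel (b := z * u) ?_
      calc l₀ * v * (z * u) = l₀ * (z * u) * v := by rw [mul_assoc, ez, ← mul_assoc]
        _ = v * (l₀ * (z * u)) := by rw [← mul_assoc l₀]; exact e
        _ = _ := by group
    have : l₀ * (m * l₁) * l₀⁻¹ = m * l₁ * z := by
      rw [cj_mul, show l₀ * m * l₀⁻¹ = m from cj_iff.2 D.c₀.symm, F.l0_conj_l1 D, mul_assoc]
    rw [← hv, cj_iff.2 hlv] at this
    exact F.B.xz_ne this.symm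
  -- the product is an involution of the third class
  have hpU : ¬ InU z a (y * (v * k) * y⁻¹ * v) := fun h => by
    have hψ : ψ (y * (v * k) * y⁻¹ * v) = 1 := (F.B.ψ_ker _ hprod.1.1).2 (F.U_E h).1
    rw [F.B.ψ_mul _ _ ht.1.1 hvT.1.1, F.B.ψ_conj hyC.1 (F.C_mul hvT.1 (F.E1_C hkE)).1,
      F.B.ψ_mul _ _ hvT.1.1 (F.B.Ez k hkE.1), (F.B.ψ_ker k (F.B.Ez k hkE.1)).2 hkE.1, mul_one] at hψ
    have hψv : ψ v ≠ 1 := fun h => hvE ((F.B.ψ_ker v hvT.1.1).1 h)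
    have := eq_inv_of_mul_eq_one_left hψ
    rw [inv_sq hvT.2.1] at this
    rcases hy with rfl | rfl
    · exact (cube_V _ _ D.X.θ3 D.X.θ1 hvT.2 hψv).2.1 this
    · rw [F.B.ψ_mul _ _ hxC.1 hxC.1] at this
      have h3 : ψ x * (ψ x * ψ x) = 1 := by rw [← D.X.θ3]; simp [pow_succ, mul_assoc]
      refine (cube_V _ _ D.X.θ3 D.X.θ1 hvT.2 hψv).2.1 ?_
      calc ψ x * ψ v * (ψ x)⁻¹ = ψ x * (ψ x * ψ x * ψ v * (ψ x * ψ x)⁻¹) * (ψ x)⁻¹ := by rw [this]
        _ = (ψ x * (ψ x * ψ x)) * ψ v * (ψ x * (ψ x * ψ x))⁻¹ := by group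
        _ = ψ v := by rw [h3]; group
  obtain ⟨-, y', hy', w', hw', u', hu', hp⟩ := F.invol_cases D hprod hp2 hpU
  have htri := F.triple D hvT
  set v1 := x * v * x⁻¹ with hv1
  set v2 := x * x * v * (x * x)⁻¹ with hv2d
  have hk' : ∃ k', InE1 a E k' ∧ (InU z a k' ∨ InU z a (l₀⁻¹ * k')) ∧
      y * (v * k) * y⁻¹ * v = y' * (v * k') * y'⁻¹ := by
    rcases hw' with rfl | rfl
    · exact ⟨u', F.U_E hu', Or.inl hu', hp⟩
    · refine ⟨l₀ * z * u', F.E1_mul (F.E1_mul D.h₀ (F.U_E (Or.inr (Or.inl rfl)))) (F.U_E hu'), Or.inr ?_, ?_⟩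
      · rw [show l₀⁻¹ * (l₀ * z * u') = z * u' by group]; exact F.U_mul (Or.inr (Or.inl rfl)) hu'
      · rw [hp, hv, show m * (l₀ * l₁) * u' = m * l₁ * (l₁⁻¹ * l₀ * l₁) * u' by group,
          show l₁⁻¹ * l₀ * l₁ = l₀ * z by
            calc l₁⁻¹ * l₀ * l₁ = l₁⁻¹ * (l₀ * z * z) * l₁ := by rw [F.B.z_mul_z]
              _ = l₁⁻¹ * (l₁ * l₀ * l₁⁻¹ * z) * l₁ := by rw [F.l1_conj_l0 D]
              _ = l₀ * (l₁⁻¹ * z * l₁⁻¹⁻¹) := by group
              _ = l₀ * z := by rw [cj_iff.2 (F.B.Ez _ (E.inv_mem D.h₁.1))]]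
        group
  obtain ⟨k', hk'E, hk'c, hp'⟩ := hk'
  have hψp := congrArg ψ hp'
  have hy'C := F.Y_C D hy'
  rw [F.B.ψ_mul _ _ ht.1.1 hvT.1.1, F.B.ψ_conj hyC.1 (F.C_mul hvT.1 (F.E1_C hkE)).1,
    F.B.ψ_conj hy'C.1 (F.C_mul hvT.1 (F.E1_C hk'E)).1, F.B.ψ_mul _ _ hvT.1.1 (F.B.Ez k hkE.1),
    F.B.ψ_mul _ _ hvT.1.1 (F.B.Ez k' hk'E.1), (F.B.ψ_ker k (F.B.Ez k hkE.1)).2 hkE.1,
    (F.B.ψ_ker k' (F.B.Ez k' hk'E.1)).2 hk'E.1, mul_one] at hψp
  have hψv : ψ v ≠ 1 := fun h => hvE ((F.B.ψ_ker v hvT.1.1).1 h)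
  obtain ⟨-, c12, c123⟩ := cube_V _ _ D.X.θ3 D.X.θ1 hvT.2 hψv
  have h3 : ψ x * (ψ x * ψ x) = 1 := by rw [← D.X.θ3]; simp [pow_succ, mul_assoc]
  have ψxx : ψ (x * x) = ψ x * ψ x := F.B.ψ_mul _ _ hxC.1 hxC.1
  -- the classes on the two sides
  have key : ∀ y' , InY x y' → y' ≠ y → y' ≠ 1 → y' * (v * k') * y'⁻¹ = y * (v * k) * y⁻¹ * v → False := by
    intro y' hy' hne hne1 e
    have hzU : InU z a z := Or.inr (Or.inl rfl)
    -- rewrite as `v · (y v y⁻¹) · (y' v y'⁻¹)` times classes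
    have hy'C := F.Y_C D hy'
    have e1 : InU z a ((y * k * y⁻¹)⁻¹ * (y' * k' * y'⁻¹)) := by
      have hpair : (y = x ∧ y' = x * x) ∨ (y = x * x ∧ y' = x) := by
        rcases hy with rfl | rfl <;> rcases hy' with rfl | rfl | rfl
        all_goals first
          | exact absurd rfl hne1
          | exact absurd rfl hne
          | exact Or.inl ⟨rfl, rfl⟩
          | exact Or.inr ⟨rfl, rfl⟩
      have hYT : InT z a ψ (y * v * y⁻¹) := F.V_conj hyC hvT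
      have hY'T : InT z a ψ (y' * v * y'⁻¹) := F.V_conj hy'C hvT
      have hK := F.E1_conj hyC hkE
      have hK' := F.E1_conj hy'C hk'E
      have hYU : InU z a ((y * v * y⁻¹ * v)⁻¹ * (y' * v * y'⁻¹)) := by
        set Y := y * v * y⁻¹
        set Y' := y' * v * y'⁻¹
        have c1 : ∀ {p q}, InT z a ψ p → InT z a ψ q → ∃ c, InU z a c ∧ p * q = q * p * c :=
          fun {p q} hp hq => F.T_comm hp hq
        rcases hpair with ⟨rfl, rfl⟩ | ⟨rfl, rfl⟩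
        · obtain ⟨c, hc, ec⟩ := c1 hYT hvT
          have hinv : (v * Y * Y')⁻¹ = Y'⁻¹ * (v * Y)⁻¹ := mul_inv_rev _ _
          rw [show (Y * v)⁻¹ * Y' = c⁻¹ * ((v * Y)⁻¹ * Y') by rw [ec]; group]
          refine F.U_mul (F.U_inv hc) ?_
          have e' : (v * Y)⁻¹ * Y' = (Y' * (v * Y * Y')⁻¹ * Y'⁻¹) * (Y' * Y') := by group
          rw [e']
          exact F.U_mul (by rw [F.U_conj hY'T.1 (F.U_inv htri)]; exact F.U_inv htri) (F.T_sq hY'T)
        · obtain ⟨c, hc, ec⟩ := c1 hYT hvT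
          obtain ⟨c', hc', ec'⟩ := c1 hY'T hYT
          rw [show (Y * v)⁻¹ * Y' = c⁻¹ * ((v * Y)⁻¹ * Y') by rw [ec]; group]
          refine F.U_mul (F.U_inv hc) ?_
          have htri' : InU z a (v * Y * Y') := by
            have : v * Y * Y' = v * Y' * Y * c'⁻¹ := by
              rw [mul_assoc v Y', ec']; group
            rw [this]
            exact F.U_mul htri (F.U_inv hc')
          have e' : (v * Y)⁻¹ * Y' = (Y' * (v * Y * Y')⁻¹ * Y'⁻¹) * (Y' * Y') := by group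
          rw [e']
          exact F.U_mul (by rw [F.U_conj hY'T.1 (F.U_inv htri')]; exact F.U_inv htri') (F.T_sq hY'T)
      have e' : y' * v * y'⁻¹ * (y' * k' * y'⁻¹) = y * v * y⁻¹ * (y * k * y⁻¹) * v := by
        rw [← cj_mul, ← cj_mul]; exact e
      have hKv : InU z a ((y * k * y⁻¹)⁻¹ * (v⁻¹ * (y * k * y⁻¹) * v⁻¹⁻¹)) := F.T_triv (F.T_inv hvT) _ hK
      have e3 : v⁻¹ * (y * k * y⁻¹) * v⁻¹⁻¹ = (y * v * y⁻¹ * v)⁻¹ * (y' * v * y'⁻¹) * (y' * k' * y'⁻¹) := by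
        rw [mul_assoc _ (y' * v * y'⁻¹), e']; group
      rw [e3] at hKv
      have h4 := F.U_comm hYU (F.E1_C hK')
      have e4 : (y * k * y⁻¹)⁻¹ * (y' * k' * y'⁻¹) = (y * k * y⁻¹)⁻¹ *
          ((y * v * y⁻¹ * v)⁻¹ * (y' * v * y'⁻¹) * (y' * k' * y'⁻¹)) * ((y * v * y⁻¹ * v)⁻¹ * (y' * v * y'⁻¹))⁻¹ := by
        rw [← h4]; group
      rw [e4]
      exact F.U_mul hKv (F.U_inv hYU)
    rcases hk'c with h | h
    · have h' : InU z a (y' * k' * y'⁻¹) := by rw [F.U_conj hy'C h]; exact h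
      have := F.U_mul h' (F.U_inv e1)
      rw [show y' * k' * y'⁻¹ * ((y * k * y⁻¹)⁻¹ * (y' * k' * y'⁻¹))⁻¹ = y * k * y⁻¹ by group] at this
      exact conjk hyC this
    · have a1 : InU z a (k⁻¹ * k') := by
        refine F.U_trans (q := l₀) ?_ h
        rw [hkdef, show (l₀ * z * u)⁻¹ * l₀ = (z * u)⁻¹ by group]
        exact F.U_inv (F.U_mul hzU hu)
      have a2 : InU z a ((y * k * y⁻¹)⁻¹ * (y' * k * y'⁻¹)) := F.U_trans e1 (F.U_symm (F.U_move hy'C a1))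
      have hpair : (y = x ∧ y' = x * x) ∨ (y = x * x ∧ y' = x) := by
        rcases hy with rfl | rfl <;> rcases hy' with rfl | rfl | rfl
        all_goals first
          | exact absurd rfl hne1
          | exact absurd rfl hne
          | exact Or.inl ⟨rfl, rfl⟩
          | exact Or.inr ⟨rfl, rfl⟩
      rcases hpair with ⟨rfl, rfl⟩ | ⟨rfl, rfl⟩
      · rw [cj_cj y y k] at a2
        exact F.x_moves D.X (F.E1_conj hxC hkE) (conjk hxC) a2
      · rw [cj_cj y' y' k] at a2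
        exact F.x_moves D.X (F.E1_conj hxC hkE) (conjk hxC) (F.U_symm a2)
  refine key y' hy' (fun h => ?_) (fun h => ?_) hp'.symm
  · subst h
    exact hψv (mul_eq_left.1 hψp)
  · subst h
    rw [F.B.ψ_one, one_mul, inv_one, mul_one] at hψp
    have hY1 : ψ y * ψ v * (ψ y)⁻¹ = 1 := by
      calc ψ y * ψ v * (ψ y)⁻¹ = ψ y * ψ v * (ψ y)⁻¹ * ψ v * ψ v := by rw [mul_assoc (ψ y * ψ v * (ψ y)⁻¹), hvT.2.1, mul_one]
        _ = 1 := by rw [hψp, hvT.2.1]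
    exact hψv (conj_eq_one_iff.1 hY1)

end Frame

end Cfsg.Agent.L34Aut
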