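import Cfsg.Agent.Lib.L34Aut.Cases

/-!
`z` is conjugate to `a` by an element normalising `⟨z, a⟩`, and `m * m = a * z`.
-/

set_option autoImplicit false
set_option linter.style.haveILetI false
set_option linter.unusedSectionVars false
set_option linter.unusedVariables false
set_option synthInstance.maxHeartbeats 400000
set_option synthInstance.maxSize 4000

namespace Cfsg.Agent.L34Aut

universe u

variable {G : Type u} [Group G] [Finite G] {z a x m l₀ l₁ : G} {E : Subgroup G} {ψ : G → S4}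

namespace Frame

variable (F : Frame z a E ψ) (D : TData z a E ψ x m l₀ l₁)
include F D

theorem InA_T (hm : m * m = a * z) {w : G} (hw : InA z a x (m * l₁) w) :
    InT z a ψ w ∧ w * w = 1 ∧ w * (m * l₁) = m * l₁ * w := by
  obtain ⟨hvT, hv2, hvE⟩ := F.v_facts D hm
  have hxC := D.X.C
  have hxx := F.C_mul hxC hxC
  set v := m * l₁
  set v1 := x * v * x⁻¹ with hv1
  set v2 := x * x * v * (x * x)⁻¹ with hv2d
  have h1T : InT z a ψ v1 := F.V_conj hxC hvT
  have h2T : InT z a ψ v2 := F.V_conj hxx hvT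
  have h11 : v1 * v1 = 1 := by rw [hv1, ← cj_mul, hv2]; group
  have h22 : v2 * v2 = 1 := by rw [hv2d, ← cj_mul, hv2]; group
  have htri : InU z a (v * v1 * v2) := F.triple D hvT
  have c1 : v1 * v = v * v1 := by
    set r := v * v1 * v2
    have hr : v * v1 = r * v2 := by simp only [r]; rw [mul_assoc _ v2, h22, mul_one]
    have hsq : v * v1 * (v * v1) = 1 := by
      rw [hr, show r * v2 * (r * v2) = r * (v2 * r) * v2 by group, F.U_comm htri h2T.1,
        show r * (r * v2) * v2 = r * r * (v2 * v2) by group, F.U_sq htri, h22, mul_one]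
    have := inv_sq hsq
    rwa [mul_inv_rev, inv_sq hv2, inv_sq h11] at this
  have c2 : v2 * v = v * v2 := by
    set r := v * v1 * v2
    have e : v2 = v1 * v * r := by
      simp only [r]
      rw [show v1 * v * (v * v1 * v2) = v1 * (v * v) * v1 * v2 by group, hv2, mul_one, h11, one_mul]
    rw [e, mul_assoc (v1 * v) r v, ← F.U_comm htri hvT.1, ← mul_assoc (v1 * v), c1,
      show v * v1 * v * r = v * (v1 * v) * r by group, c1]
    group
  have gen : ∀ c, InT z a ψ c → c * c = 1 → c * v = v * c → InU z a (c⁻¹ * w) →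
      InT z a ψ w ∧ w * w = 1 ∧ w * v = v * w := by
    intro c hc hc2 hcv hu
    have e : w = c * (c⁻¹ * w) := by group
    rw [e]
    refine ⟨F.T_mul hc (F.U_T hu), by rw [F.sq_mul_U D hc.1 hu, hc2], mul_comm' hcv (F.U_comm hu hvT.1).symm⟩
  rcases hw with h | h | h | h
  · exact ⟨F.U_T h, F.U_sq h, (F.U_comm h hvT.1).symm⟩
  · exact gen v hvT hv2 rfl h
  · exact gen v1 h1T h11 c1 h
  · exact gen v2 h2T h22 c2 h

/-- A conjugate of `z` inside `⟨z, a⟩` brings the four-group to itself. -/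
theorem conj_U_of {g : G} (hg : InU z a (g * z * g⁻¹)) (hgz : g * z * g⁻¹ ≠ z) :
    InU z a (g⁻¹ * z * g) := by
  have hu := F.U_E hg
  have hcomm := F.B.Ez _ hu.1
  have hw : g⁻¹ * z * g * z = z * (g⁻¹ * z * g) := by
    calc g⁻¹ * z * g * z = g⁻¹ * (z * (g * z * g⁻¹)) * g := by group
      _ = g⁻¹ * (g * z * g⁻¹ * z) * g := by rw [hcomm]
      _ = _ := by group
  have hT : InT z a ψ (g⁻¹ * z * g) := by
    have := F.fused_T D (g := g⁻¹) (by rw [inv_inv]; exact hw)
    rwa [inv_inv] at this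
  by_contra hU
  have hE : g⁻¹ * z * g ∉ E := fun h => hU (F.B.four_of_comm F.A h hT.1.2 (by
    rw [show g⁻¹ * z * g * (g⁻¹ * z * g) = g⁻¹ * (z * z) * g by group, F.B.zz]; group))
  have hxu : x * (g * z * g⁻¹) = g * z * g⁻¹ * x := F.U_comm hg D.X.C
  refine F.no_three D (p := g⁻¹ * x * g) ?_ ?_ ?_ hT hE ?_
  · calc g⁻¹ * x * g * z = g⁻¹ * (x * (g * z * g⁻¹)) * g := by group
      _ = _ := by rw [hxu]; group
  · rw [show (g⁻¹ * x * g) ^ 3 = g⁻¹ * x ^ 3 * g by simp [pow_succ, mul_assoc], D.X.x3]; group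
  · intro e
    exact F.x_ne_one D (by
      calc x = g * (g⁻¹ * x * g) * g⁻¹ := by group
        _ = 1 := by rw [e]; group)
  · calc g⁻¹ * x * g * (g⁻¹ * z * g) = g⁻¹ * (x * z) * g := by group
      _ = _ := by rw [D.X.C.1]; group

/-- An element mapping `z` to `a` normalises `⟨z, a⟩`. -/
theorem norm_U {g : G} (hg : g * z * g⁻¹ = a) : ∀ u, InU z a u → InU z a (g * u * g⁻¹) := by
  have hw := F.conj_U_of D (g := g) (by rw [hg]; exact Or.inr (Or.inr (Or.inl rfl))) (by rw [hg]; exact F.A.nez)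
  have key : ∃ w, (w = a ∨ w = a * z) ∧ g * w * g⁻¹ = z := by
    rcases hw with h | h | h | h
    · exfalso; exact F.B.z1 (by
        calc z = g * (g⁻¹ * z * g) * g⁻¹ := by group
          _ = 1 := by rw [h]; group)
    · exfalso; exact F.A.nez (by
        rw [← hg]; nth_rewrite 1 [← h]; group)
    · exact ⟨a, Or.inl rfl, by rw [← h]; group⟩
    · exact ⟨a * z, Or.inr rfl, by rw [← h]; group⟩
  obtain ⟨w, hw, e⟩ := key
  have gz : g * (w * z) * g⁻¹ = z * a := by rw [cj_mul, e, hg]
  intro u hu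
  have hza : z * a = a * z := F.az.symm
  rcases hw with rfl | rfl
  · rcases hu with rfl | rfl | rfl | rfl
    · left; group
    · rw [hg]; exact Or.inr (Or.inr (Or.inl rfl))
    · rw [e]; exact Or.inr (Or.inl rfl)
    · rw [gz, hza]; exact Or.inr (Or.inr (Or.inr rfl))
  · rw [F.B.z_mul_z] at gz
    rcases hu with rfl | rfl | rfl | rfl
    · left; group
    · rw [hg]; exact Or.inr (Or.inr (Or.inl rfl))
    · rw [gz, hza]; exact Or.inr (Or.inr (Or.inr rfl))
    · rw [e]; exact Or.inr (Or.inl rfl)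

theorem norm_C {g h : G} (hg : ∀ u, InU z a u → InU z a (g * u * g⁻¹)) (hh : InC z a h) :
    InC z a (g⁻¹ * h * g) := by
  constructor
  · have := F.U_comm (hg z (Or.inr (Or.inl rfl))) hh
    calc g⁻¹ * h * g * z = g⁻¹ * (h * (g * z * g⁻¹)) * g := by group
      _ = _ := by rw [this]; group
  · have := F.U_comm (hg a (Or.inr (Or.inr (Or.inl rfl)))) hh
    calc g⁻¹ * h * g * a = g⁻¹ * (h * (g * a * g⁻¹)) * g := by group
      _ = _ := by rw [this]; group

omit D in
theorem norm_U_inv {g : G} (hg : ∀ u, InU z a u → InU z a (g * u * g⁻¹)) :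
    ∀ u, InU z a u → InU z a (g⁻¹ * u * g) := by
  classical
  haveI : Fintype {u : G // InU z a u} := Fintype.ofFinite _
  let f : {u : G // InU z a u} → {u : G // InU z a u} := fun u => ⟨g * u * g⁻¹, hg u u.2⟩
  have hf : Function.Injective f := fun u v e => Subtype.ext (cj_inj (congrArg Subtype.val e :))
  intro u hu
  obtain ⟨⟨v, hv⟩, e⟩ := (Finite.injective_iff_surjective.1 hf) ⟨u, hu⟩
  have e' : g * v * g⁻¹ = u := congrArg Subtype.val e
  rw [← e', show g⁻¹ * (g * v * g⁻¹) * g = v by group]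
  exact hv

theorem norm_T {g t : G} (hg : ∀ u, InU z a u → InU z a (g * u * g⁻¹)) (ht : InT z a ψ t) :
    InT z a ψ (g * t * g⁻¹) := by
  have hg' : ∀ u, InU z a u → InU z a (g⁻¹ * u * g⁻¹⁻¹) := fun u hu => by
    rw [inv_inv]; exact F.norm_U_inv hg u hu
  have hC : InC z a (g * t * g⁻¹) := by
    have := F.norm_C D hg' ht.1
    rwa [inv_inv] at this
  obtain ⟨h8, hc⟩ := (F.T_iff ht.1).1 ht
  refine (F.T_iff hC).2 ⟨by rw [conj_pow, h8]; group, fun c hcC => ?_⟩
  have := hc _ (F.norm_C D hg hcC)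
  rw [show g * t * g⁻¹ * (c * (g * t * g⁻¹) * c⁻¹) =
    g * (t * (g⁻¹ * c * g * t * (g⁻¹ * c * g)⁻¹)) * g⁻¹ by group, conj_pow, this]
  group

/-- When `z` is conjugate to `m l₁`, it is conjugate to `a`. -/
theorem conj_a_of_v (hm : m * m = a * z) {g : G} (hg : g * z * g⁻¹ = m * l₁) :
    ∃ g', g' * z * g'⁻¹ = a := by
  classical
  obtain ⟨hvT, hv2, hvE⟩ := F.v_facts D hm
  set v := m * l₁ with hv
  have hvz : v * z = z * v := hvT.1.1
  have hvU : ¬ InU z a v := fun h => hvE (F.U_E h).1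
  have hw : g⁻¹ * z * g * z = z * (g⁻¹ * z * g) := by
    calc g⁻¹ * z * g * z = g⁻¹ * (z * (g * z * g⁻¹)) * g := by group
      _ = g⁻¹ * (g * z * g⁻¹ * z) * g := by rw [hg, hvz]
      _ = _ := by group
  have hT : InT z a ψ (g⁻¹ * z * g) := by
    have := F.fused_T D (g := g⁻¹) (by rw [inv_inv]; exact hw)
    rwa [inv_inv] at this
  have hw2 : g⁻¹ * z * g * (g⁻¹ * z * g) = 1 := by
    rw [show g⁻¹ * z * g * (g⁻¹ * z * g) = g⁻¹ * (z * z) * g by group, F.B.zz]; group
  have hwU : ¬ InU z a (g⁻¹ * z * g) := fun h => by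
    have hxw : x * (g⁻¹ * z * g) = g⁻¹ * z * g * x := F.U_comm h D.X.C
    refine F.no_three D (p := g * x * g⁻¹) ?_ ?_ ?_ hvT hvE ?_
    · calc g * x * g⁻¹ * z = g * (x * (g⁻¹ * z * g)) * g⁻¹ := by group
        _ = _ := by rw [hxw]; group
    · rw [conj_pow, D.X.x3]; group
    · intro e; exact F.x_ne_one D (conj_eq_one_iff.1 e)
    · rw [← hg]
      calc g * x * g⁻¹ * (g * z * g⁻¹) = g * (x * z) * g⁻¹ := by group
        _ = _ := by rw [D.X.C.1]; group
  obtain ⟨c, hc, hce⟩ := F.invol_conj D hT hw2 hwU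
  set n := g * c with hn
  have hnz : n * z * n⁻¹ = v := by rw [hn, cj_cj, cj_iff.2 hc.1, hg]
  have hnv : n * v * n⁻¹ = z := by rw [hn, cj_cj, hce]; group
  have memA : ∀ t, InT z a ψ t → t * t = 1 → ¬ InU z a t → ∃ c, InC z a c ∧ c * v * c⁻¹ = t :=
    fun t ht h2 hU => F.invol_conj D ht h2 hU
  -- the image of the elementary subgroup
  let S : Finset G := ({1, z, a, a * z} : Finset G)
  have hS : ∀ u, u ∈ S ↔ InU z a u := fun u => by simp [S, InU]
  have hxC := D.X.C
  have hxx := F.C_mul hxC hxC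
  have cpair : ∀ p q, InA z a x v p → InA z a x v q → p * q = q * p := by
    intro p q hp hq
    obtain ⟨hpT, hp2, hpv⟩ := F.InA_T D hm hp
    obtain ⟨hqT, hq2, hqv⟩ := F.InA_T D hm hq
    have conjA : ∀ {y}, InY x y → ∀ {w}, InA z a x v w → w * (y * v * y⁻¹) = y * v * y⁻¹ * w := by
      intro y hy w hw
      have hyC := F.Y_C D hy
      have hwy : InA z a x v (y⁻¹ * w * y) := by
        have hUc : ∀ {r}, InU z a r → InU z a (y⁻¹ * r * y) := fun h => by
          have := F.U_conj (F.C_inv hyC) h; rw [inv_inv] at this; rw [this]; exact h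
        have hx3 : x * x * x = 1 := by rw [← D.X.x3]; simp [pow_succ, mul_assoc]
        have hxi : x⁻¹ = x * x := inv_eq_of_mul_eq_one_left hx3
        rcases hy with e | e | e <;> subst y
        · simpa using hw
        · rcases hw with h | h | h | h
          · exact Or.inl (hUc h)
          · refine Or.inr (Or.inr (Or.inr ?_))
            have := hUc h
            rwa [← hxi, show (x⁻¹ * v * x⁻¹⁻¹)⁻¹ * (x⁻¹ * w * x) = x⁻¹ * (v⁻¹ * w) * x by group]
          · refine Or.inr (Or.inl ?_)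
            rw [show v⁻¹ * (x⁻¹ * w * x) = x⁻¹ * ((x * v * x⁻¹)⁻¹ * w) * x by group]
            exact hUc h
          · refine Or.inr (Or.inr (Or.inl ?_))
            rw [show (x * v * x⁻¹)⁻¹ * (x⁻¹ * w * x) = x⁻¹ * ((x * x * v * (x * x)⁻¹)⁻¹ * w) * x by group]
            exact hUc h
        · have hxx' : (x * x)⁻¹ = x := by rw [← hxi, inv_inv]
          rcases hw with h | h | h | h
          · exact Or.inl (hUc h)
          · refine Or.inr (Or.inr (Or.inl ?_))
            have := hUc h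
            rwa [show x * v * x⁻¹ = (x * x)⁻¹ * v * ((x * x)⁻¹)⁻¹ by rw [hxx'],
              show ((x * x)⁻¹ * v * ((x * x)⁻¹)⁻¹)⁻¹ * ((x * x)⁻¹ * w * (x * x)) =
                (x * x)⁻¹ * (v⁻¹ * w) * (x * x) by group]
          · refine Or.inr (Or.inr (Or.inr ?_))
            have := hUc h
            rw [show x * x * v * (x * x)⁻¹ = (x * x)⁻¹ * (x * v * x⁻¹) * ((x * x)⁻¹)⁻¹ by
              rw [show (x * x)⁻¹ * (x * v * x⁻¹) * ((x * x)⁻¹)⁻¹ = x * (x * v * x⁻¹) * x⁻¹ by rw [hxx']]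
              group]
            rwa [show ((x * x)⁻¹ * (x * v * x⁻¹) * ((x * x)⁻¹)⁻¹)⁻¹ * ((x * x)⁻¹ * w * (x * x)) =
              (x * x)⁻¹ * ((x * v * x⁻¹)⁻¹ * w) * (x * x) by group]
          · refine Or.inr (Or.inl ?_)
            rw [show v⁻¹ * ((x * x)⁻¹ * w * (x * x)) = (x * x)⁻¹ * ((x * x * v * (x * x)⁻¹)⁻¹ * w) * (x * x) by group]
            exact hUc h
      have := (F.InA_T D hm hwy).2.2
      rw [← hv] at this
      calc w * (y * v * y⁻¹) = y * ((y⁻¹ * w * y) * v) * y⁻¹ := by group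
        _ = _ := by rw [this]; group
    have step : ∀ y, InY x y → InU z a ((y * v * y⁻¹)⁻¹ * q) → p * q = q * p := fun y hy h => by
      rw [show q = y * v * y⁻¹ * ((y * v * y⁻¹)⁻¹ * q) by group]
      exact comm_mul (conjA hy hp) (F.U_comm h hpT.1)
    rcases hq with h | h | h | h
    · exact F.U_comm h hpT.1
    · exact step 1 (Or.inl rfl) (by simpa using h)
    · exact step x (Or.inr (Or.inl rfl)) h
    · exact step (x * x) (Or.inr (Or.inr rfl)) h
  have hcardA : Nat.card {w : G // InA z a x v w} = 16 := by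
    have hψv : ψ v ≠ 1 := fun h => hvE ((F.B.ψ_ker v hvT.1.1).1 h)
    let c : Fin 4 → G := ![1, v, x * v * x⁻¹, x * x * v * (x * x)⁻¹]
    have hdiff : Function.Injective fun i => ψ (c i) := by
      have e1 : ψ (x * v * x⁻¹) = ψ x * ψ v * (ψ x)⁻¹ := F.B.ψ_conj hxC.1 hvz
      have e2 : ψ (x * x * v * (x * x)⁻¹) = ψ x * ψ x * ψ v * (ψ x * ψ x)⁻¹ := by
        rw [F.B.ψ_conj hxx.1 hvz, F.B.ψ_mul _ _ hxC.1 hxC.1]
      obtain ⟨-, c12, c123⟩ := cube_V _ _ D.X.θ3 D.X.θ1 hvT.2 hψv
      intro i j e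
      revert e
      have h3 : ψ x * (ψ x * ψ x) = 1 := by rw [← D.X.θ3]; simp [pow_succ, mul_assoc]
      have n1 : ψ x * ψ v * (ψ x)⁻¹ ≠ 1 := fun h => hψv (conj_eq_one_iff.1 h)
      have n2 : ψ x * ψ x * ψ v * (ψ x * ψ x)⁻¹ ≠ 1 := fun h => hψv (conj_eq_one_iff.1 h)
      have n3 : ψ x * ψ x * ψ v * (ψ x * ψ x)⁻¹ ≠ ψ v := fun h => c12 (by
        calc ψ x * ψ v * (ψ x)⁻¹ = ψ x * (ψ x * ψ x * ψ v * (ψ x * ψ x)⁻¹) * (ψ x)⁻¹ := by rw [h]
          _ = (ψ x * (ψ x * ψ x)) * ψ v * (ψ x * (ψ x * ψ x))⁻¹ := by group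
          _ = ψ v := by rw [h3]; group)
      have n4 : ψ x * ψ x * ψ v * (ψ x * ψ x)⁻¹ ≠ ψ x * ψ v * (ψ x)⁻¹ := fun h => c12 (by
        refine cj_inj (a := ψ x) ?_
        rw [← cj_cj]; exact h)
      fin_cases i <;> fin_cases j <;> intro e <;> first
        | rfl
        | (dsimp [c] at e; simp only [e1, e2, F.B.ψ_one] at e; first
          | exact absurd e hψv
          | exact absurd e.symm hψv
          | exact absurd e n1
          | exact absurd e.symm n1
          | exact absurd e n2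
          | exact absurd e.symm n2
          | exact absurd e c12
          | exact absurd e.symm c12
          | exact absurd e n3
          | exact absurd e.symm n3
          | exact absurd e n4
          | exact absurd e.symm n4)
    let f : Fin 4 × {u : G // InU z a u} → {w : G // InA z a x v w} := fun p => ⟨c p.1 * p.2, by
      obtain ⟨i, u, hu⟩ := p
      fin_cases i
      · exact Or.inl (by simpa [c] using hu)
      · exact Or.inr (Or.inl (by simpa [c] using hu))
      · exact Or.inr (Or.inr (Or.inl (by dsimp [c]; rw [inv_mul_cancel_left]; exact hu)))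
      · exact Or.inr (Or.inr (Or.inr (by dsimp [c]; rw [inv_mul_cancel_left]; exact hu)))⟩
    have hf : Function.Bijective f := by
      constructor
      · rintro ⟨i, u, hu⟩ ⟨j, w, hw⟩ e
        have e' : c i * u = c j * w := congrArg Subtype.val e
        have hcz : ∀ i, c i * z = z * c i := by
          intro i; fin_cases i
          exacts [by simp [c], hvz, (F.C_conj hxC hvT.1).1, (F.C_conj hxx hvT.1).1]
        have : i = j := hdiff (by
          have h := congrArg ψ e'
          rw [F.B.ψ_mul _ _ (hcz i) (F.B.Ez u (F.U_E hu).1), F.B.ψ_mul _ _ (hcz j) (F.B.Ez w (F.U_E hw).1),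
            (F.B.ψ_ker u (F.B.Ez u (F.U_E hu).1)).2 (F.U_E hu).1,
            (F.B.ψ_ker w (F.B.Ez w (F.U_E hw).1)).2 (F.U_E hw).1, mul_one, mul_one] at h
          exact h)
        subst this
        exact Prod.ext rfl (Subtype.ext (mul_left_cancel e'))
      · rintro ⟨w, h | h | h | h⟩
        · exact ⟨(0, ⟨w, h⟩), Subtype.ext (by simp [f, c])⟩
        · exact ⟨(1, ⟨_, h⟩), Subtype.ext (by simp [f, c])⟩
        · exact ⟨(2, ⟨_, h⟩), Subtype.ext (by simp only [f, c, Matrix.cons_val, mul_inv_cancel_left])⟩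
        · exact ⟨(3, ⟨_, h⟩), Subtype.ext (by simp only [f, c, Matrix.cons_val, mul_inv_cancel_left])⟩
    rw [← Nat.card_congr (Equiv.ofBijective f hf), Nat.card_prod, Nat.card_fin, F.card_U]
  -- `R` is the image
  let R : G → Prop := fun r => InA z a x v (n⁻¹ * r * n)
  have Rmul : ∀ p q, R p → R q → p * q = q * p := fun p q hp hq => by
    calc p * q = n * ((n⁻¹ * p * n) * (n⁻¹ * q * n)) * n⁻¹ := by group
      _ = _ := by rw [cpair _ _ hp hq]; group
  have hzA : InA z a x v z := Or.inl (Or.inr (Or.inl rfl))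
  have hvA : InA z a x v v := Or.inr (Or.inl (by rw [inv_mul_cancel]; exact Or.inl rfl))
  have Rz : R z := by
    show InA z a x v (n⁻¹ * z * n)
    rw [show n⁻¹ * z * n = v by rw [← hnv]; group]; exact hvA
  have Rv : R v := by
    show InA z a x v (n⁻¹ * v * n)
    rw [show n⁻¹ * v * n = z by rw [← hnz]; group]; exact hzA
  have hcardR : Nat.card {r : G // R r} = 16 := by
    rw [← hcardA]
    exact Nat.card_congr
      { toFun := fun r => ⟨n⁻¹ * r * n, r.2⟩
        invFun := fun w => ⟨n * w * n⁻¹, by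
          show InA z a x v (n⁻¹ * (n * w * n⁻¹) * n)
          rw [show n⁻¹ * (n * w * n⁻¹) * n = w by group]; exact w.2⟩
        left_inv := fun r => Subtype.ext (by group)
        right_inv := fun w => Subtype.ext (by group) }
  have R2 : ∀ r, R r → r * r = 1 := fun r hr => by
    calc r * r = n * ((n⁻¹ * r * n) * (n⁻¹ * r * n)) * n⁻¹ := by group
      _ = 1 := by rw [(F.InA_T D hm hr).2.1]; group
  have inC : ∀ r, R r → r * a = a * r → InA z a x v r := by
    intro r hr hra
    have hrz := Rmul r z hr Rz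
    have hrv := Rmul r v hr Rv
    by_cases hV : InV (ψ r)
    · exact F.mem_A_of_comm D hm ⟨⟨hrz, hra⟩, hV⟩ (R2 r hr) hrv
    exfalso
    have hψ : ψ r * ψ m * (ψ r)⁻¹ = ψ m := by
      have hm1 : ψ v = ψ m := by
        rw [hv, F.B.ψ_mul _ _ D.m_T.1.1 (F.B.Ez _ D.h₁.1), (F.B.ψ_ker _ (F.B.Ez _ D.h₁.1)).2 D.h₁.1, mul_one]
      rw [← hm1, ← F.B.ψ_mul _ _ hrz hvz, hrv, F.B.ψ_mul _ _ hvz hrz, mul_inv_cancel_right]
    have hs := F.swap_classes D (g := r) ⟨hrz, hra⟩
      (comm_odd _ _ _ D.X.θ3 D.X.θ1 (F.ψm D).1 (F.ψm D).2 hψ hV) hψ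
    obtain ⟨h1, -, h3⟩ := hs
    have e : r * v * r⁻¹ = v := cj_iff.2 hrv
    have h4 : InU z a ((l₀ * l₁)⁻¹ * l₁) := by
      have hcomm : (m⁻¹ * (r * m * r⁻¹)) * (r * l₁ * r⁻¹) = (r * l₁ * r⁻¹) * (m⁻¹ * (r * m * r⁻¹)) :=
        (F.U_comm h1 (F.C_conj ⟨hrz, hra⟩ (F.E1_C D.h₁))).symm
      have : l₁ = m⁻¹ * (r * m * r⁻¹) * (r * l₁ * r⁻¹) := by
        rw [mul_assoc, ← cj_mul, ← hv, e, hv]; group
      rw [hcomm] at this
      have h' := F.U_mul h3 h1
      rw [mul_assoc] at h'
      rwa [← this] at h'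
    refine D.n₀ ?_
    have h5 := F.U_inv h4
    rw [show ((l₀ * l₁)⁻¹ * l₁)⁻¹ = l₁⁻¹ * l₀ * l₁ by group] at h5
    have h6 := F.U_conj (F.E1_C D.h₁) h5
    rw [show l₁ * (l₁⁻¹ * l₀ * l₁) * l₁⁻¹ = l₀ by group] at h6
    rwa [h6]
  have allC : ∀ r, R r → r * a = a * r := by
    intro r hr
    by_contra hra
    have hrz := Rmul r z hr Rz
    have hr2 := R2 r hr
    have hra' := (F.fix r hrz).resolve_left fun e => hra (cj_iff.1 e)
    -- elements of the image inside `C` fixed by `r`
    let K := {w : G // R w ∧ w * a = a * w}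
    have hK : 8 ≤ Nat.card K := by
      let f : {w : G // R w} → K ⊕ K := fun w =>
        if h : (w : G) * a = a * w then Sum.inl ⟨w, w.2, h⟩
        else Sum.inr ⟨r * w, by
          show InA z a x v (n⁻¹ * (r * w) * n)
          have h1 := F.InA_T D hm hr
          have h2 := F.InA_T D hm w.2
          rw [show n⁻¹ * (r * (w : G)) * n = (n⁻¹ * r * n) * (n⁻¹ * w * n) by group]
          exact F.mem_A_of_comm D hm (F.T_mul h1.1 h2.1) (by
            rw [show n⁻¹ * r * n * (n⁻¹ * (w : G) * n) * (n⁻¹ * r * n * (n⁻¹ * w * n)) =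
              n⁻¹ * (r * (w * r) * w) * n by group, Rmul _ r w.2 hr,
              show r * (r * (w : G)) * w = r * r * (w * w) by group, hr2, R2 _ w.2]
            group) (mul_comm' h1.2.2 h2.2.2), by
          have hwz := Rmul _ z w.2 Rz
          have hwa' := (F.fix (w : G) hwz).resolve_left fun e => h (cj_iff.1 e)
          refine cj_iff.1 ?_
          rw [cj_cj, hwa', cj_mul, hra', cj_iff.2 hrz, F.B.z_mul_z]⟩
      have hf : Function.Injective f := by
        intro p q e
        simp only [f] at e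
        split_ifs at e with h1 h2 h3
        · exact Subtype.ext (congrArg Subtype.val (Sum.inl.inj e) :)
        · exact Subtype.ext (mul_left_cancel (congrArg Subtype.val (Sum.inr.inj e) :))
      have := Nat.card_le_card_of_injective f hf
      rw [hcardR, Nat.card_sum] at this
      omega
    have hψv : ψ v ≠ 1 := fun h => hvE ((F.B.ψ_ker v hvT.1.1).1 h)
    have hex : ∃ y, (y = x ∨ y = x * x) ∧ ∃ u, InU z a u ∧ R (y * v * y⁻¹ * u) := by
      by_contra hc
      push Not at hc
      let f : K → Bool × Bool := fun w =>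
        (decide (InU z a (w : G)), decide ((w : G) * (v⁻¹) = 1 ∨ (w : G) = 1))
      have hU2 : ∀ u, InU z a u → R u → u = 1 ∨ u = z := by
        intro u hu hRu
        have hh := cj_iff.2 (Rmul r u hr hRu)
        rcases hu with rfl | rfl | rfl | rfl
        · exact Or.inl rfl
        · exact Or.inr rfl
        · exact absurd (cj_iff.1 hh) hra
        · exfalso
          rw [cj_mul, hra', cj_iff.2 hrz, F.B.z_mul_z] at hh
          exact F.B.xz_ne hh.symm
      have hf : Function.Injective f := by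
        have cls : ∀ w : K, InU z a (w : G) ∨ InU z a (v⁻¹ * w) := by
          intro w
          rcases inC w w.2.1 w.2.2 with h | h | h | h
          · exact Or.inl h
          · exact Or.inr h
          · exact absurd (by rw [mul_inv_cancel_left]; exact w.2.1) (hc x (Or.inl rfl) _ h)
          · exact absurd (by rw [mul_inv_cancel_left]; exact w.2.1) (hc (x * x) (Or.inr rfl) _ h)
        have vals : ∀ w : K, (w : G) = 1 ∨ (w : G) = z ∨ (w : G) = v ∨ (w : G) = v * z := by
          intro w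
          rcases cls w with h | h
          · rcases hU2 _ h w.2.1 with e | e
            exacts [Or.inl e, Or.inr (Or.inl e)]
          · have hR : R (v⁻¹ * w) := by
              have hRv := Rv
              show InA z a x v (n⁻¹ * (v⁻¹ * w) * n)
              have h1 := F.InA_T D hm hRv
              have h2 := F.InA_T D hm w.2.1
              rw [inv_sq hv2, show n⁻¹ * (v * (w : G)) * n = (n⁻¹ * v * n) * (n⁻¹ * w * n) by group]
              exact F.mem_A_of_comm D hm (F.T_mul h1.1 h2.1) (by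
                rw [show n⁻¹ * v * n * (n⁻¹ * (w : G) * n) * (n⁻¹ * v * n * (n⁻¹ * w * n)) =
                  n⁻¹ * (v * (w * v) * w) * n by group, Rmul _ v w.2.1 Rv,
                  show v * (v * (w : G)) * w = v * v * (w * w) by group, hv2, R2 _ w.2.1]
                group) (mul_comm' h1.2.2 h2.2.2)
            rcases hU2 _ h hR with e | e
            · exact Or.inr (Or.inr (Or.inl (by
                calc (w : G) = v * (v⁻¹ * w) := by group
                  _ = v := by rw [e, mul_one])))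
            · exact Or.inr (Or.inr (Or.inr (by
                calc (w : G) = v * (v⁻¹ * w) := by group
                  _ = v * z := by rw [e])))
        have nvz : ¬ InU z a (v * z) := fun h => hvU (by
          have := F.U_mul h (Or.inr (Or.inl rfl) : InU z a z)
          rwa [F.B.z_mul_z] at this)
        have hv1 : v ≠ 1 := fun h => hvU (h ▸ Or.inl rfl)
        have hzv : z * v⁻¹ ≠ 1 := fun h => hvU (by
          rw [← mul_inv_eq_one.1 h]; exact Or.inr (Or.inl rfl))
        have hvzv : v * z * v⁻¹ ≠ 1 := fun h => F.B.z1 (conj_eq_one_iff.1 h)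
        have hvz1 : v * z ≠ 1 := fun h => nvz (h ▸ Or.inl rfl)
        intro p q e
        refine Subtype.ext ?_
        simp only [f, Prod.mk.injEq, decide_eq_decide] at e
        have h1U : InU z a (1 : G) := Or.inl rfl
        have hzU : InU z a z := Or.inr (Or.inl rfl)
        rcases vals p with hp | hp | hp | hp <;> rcases vals q with hq | hq | hq | hq <;> rw [hp, hq] at e ⊢ <;>
          simp [h1U, hzU, nvz, hvU, hv1, hzv, hvzv, hvz1, F.B.z1] at e
      have := Nat.card_le_card_of_injective f hf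
      simp at this
      omega
    obtain ⟨y, hy, u, hu, hRu⟩ := hex
    have hyC : InC z a y := by rcases hy with rfl | rfl; exacts [hxC, hxx]
    have hV : InV (ψ r) := by
      have c0 : ψ r * ψ v = ψ v * ψ r := by
        rw [← F.B.ψ_mul _ _ hrz hvz, Rmul r v hr Rv, F.B.ψ_mul _ _ hvz hrz]
      have hyv := F.C_conj hyC hvT.1
      have huE := F.U_E hu
      have eu : ψ (y * v * y⁻¹ * u) = ψ y * ψ v * (ψ y)⁻¹ := by
        rw [F.B.ψ_mul _ _ hyv.1 (F.B.Ez u huE.1), (F.B.ψ_ker u (F.B.Ez u huE.1)).2 huE.1, mul_one,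
          F.B.ψ_conj hyC.1 hvz]
      have hyu := mul_comm' hyv.1 (F.B.Ez u huE.1)
      have c1 : ψ r * (ψ y * ψ v * (ψ y)⁻¹) = ψ y * ψ v * (ψ y)⁻¹ * ψ r := by
        rw [← eu, ← F.B.ψ_mul _ _ hrz hyu, Rmul r _ hr hRu, F.B.ψ_mul _ _ hyu hrz]
      rcases hy with rfl | rfl
      · exact cent_two _ _ _ D.X.θ3 D.X.θ1 hvT.2 hψv c0 c1
      · rw [F.B.ψ_mul _ _ hxC.1 hxC.1] at c1
        refine cent_two _ _ _ ?_ ?_ hvT.2 hψv c0 c1
        · rw [show (ψ x * ψ x) ^ 3 = ψ x ^ 3 * ψ x ^ 3 by simp [pow_succ, mul_assoc], D.X.θ3, one_mul]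
        · intro h
          exact D.X.θ1 (by
            calc ψ x = ψ x * (ψ x * ψ x) := by rw [h, mul_one]
              _ = 1 := by rw [← D.X.θ3]; simp [pow_succ, mul_assoc])
    have hrE := F.outC_E D hrz hr2 hV hra
    refine F.b_moves D hrE hra hvT hvE ?_
    rw [cj_iff.2 (Rmul r v hr Rv), inv_mul_cancel]
    exact Or.inl rfl
  have hRA : ∀ r, R r → InA z a x v r := fun r hr => inC r hr (allC r hr)
  have hAR : ∀ w, InA z a x v w → R w := by
    let f : {r : G // R r} → {w : G // InA z a x v w} := fun r => ⟨r, hRA r r.2⟩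
    have hf : Function.Injective f := fun p q e => Subtype.ext (congrArg Subtype.val e :)
    haveI : Finite {w : G // InA z a x v w} := inferInstance
    have hb := (Nat.bijective_iff_injective_and_card f).2 ⟨hf, by rw [hcardR, hcardA]⟩
    intro w hw
    obtain ⟨r, hr⟩ := hb.2 ⟨w, hw⟩
    have e : (r : G) = w := congrArg Subtype.val hr
    exact e ▸ r.2
  -- the elements not conjugate to `z` would be permuted
  by_contra hno
  push Not at hno
  have conjz : ∀ w, InA z a x v w → w ≠ 1 → (∃ h, h * z * h⁻¹ = w) ∨ w = a ∨ w = a * z := by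
    intro w hw h1
    by_cases hU : InU z a w
    · rcases hU with e | e | e | e
      exacts [absurd e h1, Or.inl ⟨1, by rw [e]; group⟩, Or.inr (Or.inl e), Or.inr (Or.inr e)]
    · obtain ⟨hwT, hw2, -⟩ := F.InA_T D hm hw
      obtain ⟨c, hc, e⟩ := memA w hwT hw2 hU
      exact Or.inl ⟨c * g, by rw [cj_cj, hg, e]⟩
  have move : ∀ p, (p = a ∨ p = a * z) → n⁻¹ * p * n = a ∨ n⁻¹ * p * n = a * z := by
    intro p hp
    have hpA : InA z a x v p := Or.inl (by rcases hp with rfl | rfl; exacts [Or.inr (Or.inr (Or.inl rfl)), Or.inr (Or.inr (Or.inr rfl))])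
    have h1 : n⁻¹ * p * n ≠ 1 := fun e => by
      have : p = 1 := by
        calc p = n * (n⁻¹ * p * n) * n⁻¹ := by group
          _ = 1 := by rw [e]; group
      rcases hp with rfl | rfl
      exacts [F.A.ne1 this, (F.B.nci_mul_z F.A).ne1 this]
    refine (conjz _ (hAR p hpA) h1).resolve_left ?_
    rintro ⟨h, hh⟩
    have e : n * h * z * (n * h)⁻¹ = p := by rw [cj_cj, hh]; group
    rcases hp with rfl | rfl
    · exact hno _ e
    · obtain ⟨b, hb, hba⟩ := F.exists_conj_az
      refine hno (b⁻¹ * (n * h)) ?_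
      rw [cj_cj, e, ← hba]
      group
  have hfixz : n⁻¹ * z * n = z := by
    have hz' : a * (a * z) = z := by rw [← mul_assoc, F.A.sq, one_mul]
    have hz'' : a * z * a = z := by rw [F.az, mul_assoc, F.A.sq, mul_one]
    have e : n⁻¹ * z * n = (n⁻¹ * a * n) * (n⁻¹ * (a * z) * n) := by
      calc n⁻¹ * z * n = n⁻¹ * (a * (a * z)) * n := by rw [hz']
        _ = _ := by group
    have hne : n⁻¹ * a * n ≠ n⁻¹ * (a * z) * n := fun e =>
      F.B.xz_ne (mul_left_cancel (mul_right_cancel e)).symm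
    rw [e]
    rcases move a (Or.inl rfl) with h | h <;> rcases move (a * z) (Or.inr rfl) with h' | h' <;> rw [h, h'] at hne ⊢
    exacts [absurd rfl hne, hz', hz'', absurd rfl hne]
  refine hvE ?_
  have : v = z := by
    calc v = n⁻¹ * z * n := by rw [← hnv]; group
      _ = z := hfixz
  rw [this]
  exact F.B.zE

/-- The fusion of `z`. -/
theorem central_conj (hfus : ∃ g : G, g * z * g⁻¹ * z = z * (g * z * g⁻¹) ∧ g * z * g⁻¹ ≠ z) :
    m * m = a * z ∧ ∃ g, g * z * g⁻¹ = a := by
  obtain ⟨g, hg, hgz⟩ := hfus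
  have hT := F.fused_T D hg
  have hw2 : g * z * g⁻¹ * (g * z * g⁻¹) = 1 := by rw [← cj_mul, F.B.zz]; group
  obtain ⟨b, hbz, hba⟩ := F.exists_conj_az
  have hza : ∃ g, g * z * g⁻¹ = a := by
    by_cases hU : InU z a (g * z * g⁻¹)
    · rcases hU with h | h | h | h
      · exact absurd (conj_eq_one_iff.1 h) F.B.z1
      · exact absurd h hgz
      · exact ⟨g, h⟩
      · exact ⟨b⁻¹ * g, by rw [cj_cj, h, ← hba]; group⟩
    · obtain ⟨hm, -⟩ := F.invol_cases D hT hw2 hU
      obtain ⟨c, hc, e⟩ := F.invol_conj D hT hw2 hU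
      exact F.conj_a_of_v D hm (g := c⁻¹ * g) (by rw [cj_cj, ← e]; group)
  refine ⟨?_, hza⟩
  obtain ⟨g, hg⟩ := hza
  rcases F.m_sq D with hm | hm
  swap; · exact hm
  exfalso
  have hN := F.norm_U D hg
  -- elements squaring to `a` are the translates of the class of `m`
  have forms : ∀ p, InT z a ψ p → p * p = a → ∃ y, InY x y ∧ InU z a ((y * m * y⁻¹)⁻¹ * p) := by
    intro p hp hp2
    have hpE : p ∉ E := fun h => by
      rcases F.B.sq p h with e | e <;> rw [hp2] at e
      exacts [F.A.ne1 e, F.A.nez e]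
    obtain ⟨y, hy, q, hq, rfl⟩ := F.orbit D hp hpE
    obtain ⟨w, hw, hu⟩ := F.E1_forms D hq
    have hyC := F.Y_C D hy
    have hwE : InE1 a E w := by
      rcases hw with rfl | rfl | rfl | rfl
      exacts [⟨E.one_mem, by simp⟩, D.h₀, D.h₁, F.E1_mul D.h₀ D.h₁]
    have hsq : m * w * (m * w) = a := by
      have e : m * q * (m * q) = m * w * (m * w) := by
        rw [show m * q = m * w * (w⁻¹ * q) by group, F.sq_mul_U D (F.C_mul D.m_T.1 (F.E1_C hwE)) hu]
      rw [← e]
      have ha' : y * a * y⁻¹ = a := cj_iff.2 hyC.2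
      rw [← cj_mul] at hp2
      exact cj_inj (a := y) (hp2.trans ha'.symm)
    have hzz : ∀ r : G, r * z = r → False := fun r h => F.B.z1 (mul_eq_left.1 h)
    rcases hw with rfl | rfl | rfl | rfl
    · refine ⟨y, hy, ?_⟩
      rw [show (y * m * y⁻¹)⁻¹ * (y * (m * q) * y⁻¹) = y * q * y⁻¹ by group]
      rw [inv_one, one_mul] at hu
      rw [F.U_conj hyC hu]; exact hu
    · exfalso; rw [F.sq_l0 D, hm] at hsq; exact hzz a hsq
    · exfalso; rw [F.sq_l1 D, hm, ← mul_assoc, F.A.sq, one_mul] at hsq; exact F.A.nez hsq.symm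
    · exfalso; rw [F.sq_l01 D, hm, ← mul_assoc, F.A.sq, one_mul] at hsq; exact F.A.nez hsq.symm
  have closed : ∀ p q, InT z a ψ p → InT z a ψ q → p * p = a → q * q = a →
      InU z a (p * q) ∨ p * q * (p * q) = a := by
    intro p q hp hq hp2 hq2
    obtain ⟨y, hy, hyu⟩ := forms p hp hp2
    obtain ⟨y', hy', hyu'⟩ := forms q hq hq2
    set M := y * m * y⁻¹
    set M' := y' * m * y'⁻¹
    have hM : InT z a ψ M := F.V_conj (F.Y_C D hy) D.m_T
    have hM' : InT z a ψ M' := F.V_conj (F.Y_C D hy') D.m_T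
    have e : p * q = M * M' * (M⁻¹ * p * (M'⁻¹ * q)) := by
      have h1 := F.U_comm hyu hM'.1
      calc p * q = M * (M⁻¹ * p * M') * (M'⁻¹ * q) := by group
        _ = _ := by rw [← h1]; simp only [mul_assoc]
    have hu := F.U_mul hyu hyu'
    have hsq : ∀ {c}, InY x c → c * m * c⁻¹ * (c * m * c⁻¹) = a := fun hc => by
      rw [← cj_mul, hm]; exact cj_iff.2 (F.Y_C D hc).2
    by_cases hyy : y = y'
    · left
      rw [e]
      refine F.U_mul ?_ hu
      simp only [M, M', hyy]
      rw [hsq hy']; exact Or.inr (Or.inr (Or.inl rfl))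
    · right
      rw [e, F.sq_mul_U D (F.C_mul hM.1 hM'.1) hu]
      have htri := F.triple D D.m_T
      set m1 := x * m * x⁻¹
      set m2 := x * x * m * (x * x)⁻¹
      have h0T := D.m_T
      have h1T : InT z a ψ m1 := F.V_conj D.X.C h0T
      have h2T : InT z a ψ m2 := F.V_conj (F.C_mul D.X.C D.X.C) h0T
      have fin : ∀ {P Q R}, InT z a ψ P → InT z a ψ Q → InT z a ψ R → R * R = a →
          InU z a (P * Q * R) → P * Q * (P * Q) = a := by
        intro P Q R hP hQ hR hR2 hr
        have e : P * Q = R⁻¹ * (P * Q * R) := by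
          have := F.U_comm hr (F.C_inv hR.1)
          rw [this]; group
        rw [e, F.sq_mul_U D (F.C_inv hR.1) hr, ← mul_inv_rev, hR2, inv_sq F.A.sq]
      have perm : ∀ {P Q R}, InT z a ψ P → InT z a ψ Q → InT z a ψ R → InU z a (P * Q * R) →
          InU z a (Q * P * R) ∧ InU z a (P * R * Q) := by
        intro P Q R hP hQ hR hr
        obtain ⟨c, hc, ec⟩ := F.T_comm hQ hP
        obtain ⟨c', hc', ec'⟩ := F.T_comm hR hQ
        constructor
        · rw [ec, show P * Q * c * R = P * Q * (c * R) by group, ← F.U_comm hc hR.1, ← mul_assoc]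
          exact F.U_mul hr hc
        · rw [mul_assoc P, ec', ← mul_assoc, ← mul_assoc]
          exact F.U_mul hr hc'
      have s0 : m * m = a := hm
      have s1 : m1 * m1 = a := hsq (Or.inr (Or.inl rfl))
      have s2 : m2 * m2 = a := hsq (Or.inr (Or.inr rfl))
      obtain ⟨p102, p021⟩ := perm h0T h1T h2T htri
      obtain ⟨-, p120⟩ := perm h1T h0T h2T p102
      obtain ⟨p201, -⟩ := perm h0T h2T h1T p021
      obtain ⟨p210, -⟩ := perm h1T h2T h0T p120
      have e0 : (1 : G) * m * (1 : G)⁻¹ = m := by group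
      rcases hy with rfl | rfl | rfl <;> rcases hy' with rfl | rfl | rfl <;> try simp only [M, M', e0]
      all_goals first
        | exact absurd rfl hyy
        | exact fin h0T h1T h2T s2 htri
        | exact fin h0T h2T h1T s1 p021
        | exact fin h1T h0T h2T s2 p102
        | exact fin h1T h2T h0T s0 p120
        | exact fin h2T h0T h1T s1 p201
        | exact fin h2T h1T h0T s0 p210
  -- carried to squares equal to `z`
  have hzsq : ∀ t, t * t = z → g * t * g⁻¹ * (g * t * g⁻¹) = a := fun t ht => by rw [← cj_mul, ht, hg]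
  have hlT := F.E1_T D.h₁
  have hpT := F.T_mul D.m_T hlT
  have hp2 : m * l₁ * (m * l₁) = z := by rw [F.sq_l1 D, hm, ← mul_assoc, F.A.sq, one_mul]
  have e : l₁ * (m * l₁) = m * (z * a) := by
    calc l₁ * (m * l₁) = l₁ * m * l₁ := (mul_assoc _ _ _).symm
      _ = m * l₁ * (a * l₁) := by rw [F.l1_m D]; group
      _ = m * (l₁ * l₁) * a := by rw [← D.h₁.2]; group
      _ = _ := by rw [F.sq_eq_z D.h₁ D.n₁]; group
  have hza : InU z a (z * a) := F.U_mul (Or.inr (Or.inl rfl)) (Or.inr (Or.inr (Or.inl rfl)))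
  rcases closed _ _ (F.norm_T D hN hlT) (F.norm_T D hN hpT) (hzsq _ (F.sq_eq_z D.h₁ D.n₁)) (hzsq _ hp2)
    with h | h
  · rw [← cj_mul] at h
    have h' := F.norm_U_inv hN _ h
    rw [show g⁻¹ * (g * (l₁ * (m * l₁)) * g⁻¹) * g = l₁ * (m * l₁) by group, e] at h'
    have := (F.U_E (F.U_mul h' (F.U_inv hza))).1
    rw [mul_inv_cancel_right] at this
    exact D.m_E this
  · rw [← cj_mul, ← cj_mul, ← hg] at h
    have h' := cj_inj h
    rw [e, F.sq_mul_U D D.m_T.1 hza, hm] at h'
    exact F.A.nez h'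

end Frame

end Cfsg.Agent.L34Aut
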