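import Cfsg.Agent.Lib.L34Aut.Setting
import Mathlib.GroupTheory.GroupAction.FixedPoints

/-!
The centraliser fixes one of the five pairs of non-central involutions of `E`.
-/

set_option autoImplicit false
set_option linter.style.haveILetI false
set_option linter.unusedSectionVars false

namespace Cfsg.Agent.L34Aut

universe u

variable {G : Type u} [Group G] [Finite G] {z : G} {E : Subgroup G} {ψ : G → S4}

/-- The four elements `1, z, a, az`. -/
def InU (z a w : G) : Prop := w = 1 ∨ w = z ∨ w = a ∨ w = a * z

namespace Base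

variable (B : Base z E ψ)
include B

/-- An element fixing every element of `E` up to the centre lies in `E`. -/
theorem mem_of_triv {a h : G} (ha : Nci z E a) (hh : h * z = z * h)
    (hfix : ∀ q ∈ E, h * q * h⁻¹ = q ∨ h * q * h⁻¹ = q * z) : h ∈ E := by
  classical
  have haE := ha.mem
  set E1 := E ⊓ Subgroup.centralizer ({a} : Set G) with hE1
  have h16 : Nat.card E1 = 16 := B.card_cent haE ha.ne1 ha.nez
  have hb : ∃ b ∈ E, b * a ≠ a * b := by
    by_contra hc
    push Not at hc
    rcases B.center a haE (fun y hy => (hc y hy).symm) with e | e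
    exacts [ha.ne1 e, ha.nez e]
  obtain ⟨b, hbE, hba⟩ := hb
  -- two non-commuting elements of `E1`
  obtain ⟨i, hi, j, hj, hij⟩ : ∃ i ∈ E1, ∃ j ∈ E1, i * j ≠ j * i := by
    by_contra hc
    push Not at hc
    exact absurd (B.no16 E1 inf_le_left hc) (by rw [h16]; norm_num)
  have key : ∀ q ∈ E, ∀ h, h * z = z * h → (h * q * h⁻¹ = q ∨ h * q * h⁻¹ = q * z) →
      ∀ w ∈ E, w * q ≠ q * w → ∃ c, (c = 1 ∨ c = w) ∧ h * c * q * (h * c)⁻¹ = q := by
    intro q hq h hh hf w hw hwq
    rcases hf with e | e
    · exact ⟨1, Or.inl rfl, by rw [mul_one, e]⟩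
    · refine ⟨w, Or.inr rfl, ?_⟩
      have h1 : w * q * w⁻¹ = q * z := (B.conjE hw hq).resolve_left fun e => hwq (cj_iff.1 e)
      rw [cj_cj, h1, cj_mul, e, cj_iff.2 hh, B.z_mul_z]
  obtain ⟨c1, hc1, e1⟩ := key a haE h hh (hfix a haE) b hbE hba
  have hc1E : c1 ∈ E := by rcases hc1 with rfl | rfl; exacts [E.one_mem, hbE]
  have fixmul : ∀ h c, h * z = z * h → (∀ q ∈ E, h * q * h⁻¹ = q ∨ h * q * h⁻¹ = q * z) → c ∈ E →
      (h * c) * z = z * (h * c) ∧ ∀ q ∈ E, h * c * q * (h * c)⁻¹ = q ∨ h * c * q * (h * c)⁻¹ = q * z := by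
    intro h c hh hf hc
    refine ⟨mul_comm' hh (B.Ez c hc), fun q hq => ?_⟩
    rw [cj_cj]
    rcases B.conjE hc hq with e | e <;> rw [e]
    · exact hf q hq
    · rw [cj_mul, cj_iff.2 hh]
      rcases hf q hq with e' | e' <;> rw [e']
      · exact Or.inr rfl
      · exact Or.inl B.z_mul_z
  obtain ⟨hz1, hf1⟩ := fixmul h c1 hh hfix hc1E
  obtain ⟨c2, hc2, e2⟩ := key i hi.1 _ hz1 (hf1 i hi.1) j hj.1 (Ne.symm hij)
  have hc2E : c2 ∈ E1 := by rcases hc2 with rfl | rfl; exacts [E1.one_mem, hj]
  obtain ⟨hz2, hf2⟩ := fixmul _ c2 hz1 hf1 hc2E.1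
  obtain ⟨c3, hc3, e3⟩ := key j hj.1 _ hz2 (hf2 j hj.1) i hi.1 hij
  have hc3E : c3 ∈ E1 := by rcases hc3 with rfl | rfl; exacts [E1.one_mem, hi]
  obtain ⟨hz3, hf3⟩ := fixmul _ c3 hz2 hf2 hc3E.1
  set k := h * c1 * c2 * c3 with hk
  have ka : k * a * k⁻¹ = a := by
    rw [hk, cj_cj, cj_iff.2 (mem_cent.1 hc3E.2), cj_cj, cj_iff.2 (mem_cent.1 hc2E.2), e1]
  have ki : k * i * k⁻¹ = i := by
    rw [hk, cj_cj, show c3 * i * c3⁻¹ = i by rcases hc3 with rfl | rfl <;> group, e2]
  -- adjust once more outside `E1`
  obtain ⟨d, hd, hdi, hdj⟩ : ∃ d ∈ E, d * i = i * d ∧ d * j = j * d ∧ d * a ≠ a * d := by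
    rcases B.comm b hbE i hi.1 with bi | bi <;> rcases B.comm b hbE j hj.1 with bj | bj
    · exact ⟨b, hbE, bi, bj, hba⟩
    all_goals
      have hij' : i * j = j * i * z := (B.comm i hi.1 j hj.1).resolve_left hij
      have hji' : j * i = i * j * z := by rw [hij', B.z_mul_z]
    · refine ⟨b * i, E.mul_mem hbE hi.1, mul_comm' bi rfl, ?_, fun e => hba ?_⟩
      · calc b * i * j = b * (i * j) := mul_assoc _ _ _
          _ = b * j * (i * z) := by rw [hij']; group
          _ = j * b * (z * (i * z)) := by rw [bj]; group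
          _ = j * (b * i) := by rw [B.Ez i hi.1, ← mul_assoc z, B.zz, one_mul]; group
      · refine mul_right_cancel (b := i) ?_
        calc b * a * i = b * i * a := by rw [mul_assoc, ← mem_cent.1 hi.2, ← mul_assoc]
          _ = a * b * i := by rw [e]; group
    · refine ⟨b * j, E.mul_mem hbE hj.1, ?_, mul_comm' bj rfl, fun e => hba ?_⟩
      · calc b * j * i = b * (j * i) := mul_assoc _ _ _
          _ = b * i * (j * z) := by rw [hji']; group
          _ = i * b * (z * (j * z)) := by rw [bi]; group
          _ = i * (b * j) := by rw [B.Ez j hj.1, ← mul_assoc z, B.zz, one_mul]; group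
      · refine mul_right_cancel (b := j) ?_
        calc b * a * j = b * j * a := by rw [mul_assoc, ← mem_cent.1 hj.2, ← mul_assoc]
          _ = a * b * j := by rw [e]; group
    · refine ⟨b * i * j, E.mul_mem (E.mul_mem hbE hi.1) hj.1, ?_, ?_, fun e => hba ?_⟩
      · calc b * i * j * i = b * i * (j * i) := mul_assoc _ _ _
          _ = b * i * i * (j * z) := by rw [hji']; group
          _ = i * b * (z * i) * (j * z) := by rw [bi]; group
          _ = i * b * i * (z * j) * z := by rw [← B.Ez i hi.1]; group
          _ = i * b * i * j * (z * z) := by rw [← B.Ez j hj.1]; group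
          _ = i * (b * i * j) := by rw [B.zz]; group
      · calc b * i * j * j = b * (i * j) * j := by group
          _ = b * j * i * (z * j) := by rw [hij']; group
          _ = j * b * (z * i) * (z * j) := by rw [bj]; group
          _ = j * b * i * (z * z) * j := by rw [← B.Ez i hi.1]; group
          _ = j * (b * i * j) := by rw [B.zz]; group
      · refine mul_right_cancel (b := i * j) ?_
        calc b * a * (i * j) = b * (a * i) * j := by group
          _ = b * i * (a * j) := by rw [← mem_cent.1 hi.2]; group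
          _ = b * i * j * a := by rw [← mem_cent.1 hj.2]; group
          _ = a * b * (i * j) := by rw [e]; group
  have hdf := hf3 d hd
  obtain ⟨c4, hc4, e4⟩ := key d hd k hz3 hdf a haE (Ne.symm hdj.2)
  have hc4E : c4 ∈ E := by rcases hc4 with rfl | rfl; exacts [E.one_mem, haE]
  set k' := k * c4 with hk'
  have k'a : k' * a * k'⁻¹ = a := by
    rw [hk', cj_cj, show c4 * a * c4⁻¹ = a by rcases hc4 with rfl | rfl <;> group, ka]
  have c4i : ∀ q ∈ E1, c4 * q * c4⁻¹ = q := by
    intro q hq
    rcases hc4 with rfl | rfl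
    · group
    · exact cj_iff.2 (mem_cent.1 hq.2).symm
  have k'i : k' * i * k'⁻¹ = i := by rw [hk', cj_cj, c4i i hi, ki]
  have k'j : k' * j * k'⁻¹ = j := by
    rw [hk', cj_cj, c4i j hj, hk, e3]
  have hcz : k' * z = z * k' := mul_comm' hz3 (B.Ez c4 hc4E)
  have hall : ∀ x ∈ E, k' * x = x * k' := by
    let D := E ⊓ Subgroup.centralizer ({k'} : Set G)
    have hD : ∀ q ∈ E, k' * q * k'⁻¹ = q → q ∈ D := fun q hq e => ⟨hq, mem_cent.2 (cj_iff.1 e).symm⟩
    have ma := hD a haE k'a
    have mi := hD i hi.1 k'i
    have mj := hD j hj.1 k'j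
    have md := hD d hd e4
    suffices hDE : D = E by
      intro x hx
      rw [← hDE] at hx
      exact (mem_cent.1 hx.2).symm
    refine Subgroup.eq_of_le_of_card_ge inf_le_left ?_
    rw [B.card]
    have mz : z ∈ D := hD z B.zE (cj_iff.2 hcz)
    have haz : a * z = z * a := B.Ez a haE
    let P : Bool × Bool × Bool × Bool × Bool → G := fun v =>
      cond v.1 z 1 * cond v.2.1 a 1 * cond v.2.2.1 i 1 * cond v.2.2.2.1 j 1 * cond v.2.2.2.2 d 1
    have hmem : ∀ v, P v ∈ D := fun v => by
      obtain ⟨p, q, r, s, t⟩ := v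
      refine D.mul_mem (D.mul_mem (D.mul_mem (D.mul_mem ?_ ?_) ?_) ?_) ?_
      · cases p; exacts [D.one_mem, mz]
      · cases q; exacts [D.one_mem, ma]
      · cases r; exacts [D.one_mem, mi]
      · cases s; exacts [D.one_mem, mj]
      · cases t; exacts [D.one_mem, md]
    have hinj : Function.Injective P := by
      -- read the coordinates by commutation
      let cm : G → G → G := fun g x => g * x * g⁻¹ * x⁻¹
      have cm_mul : ∀ g ∈ E, ∀ x ∈ E, ∀ y ∈ E, cm g (x * y) = cm g x * cm g y := by
        intro g hg x hx y hy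
        have e : cm g (x * y) = g * x * g⁻¹ * (cm g y) * x⁻¹ := by simp only [cm]; group
        rw [e]
        have hc : cm g y = 1 ∨ cm g y = z := by
          rcases B.conjE hg hy with h | h <;> simp only [cm, h]
          · exact Or.inl (mul_inv_cancel y)
          · exact Or.inr (by rw [B.Ez y hy]; group)
        rcases hc with h | h <;> rw [h]
        · simp [cm, mul_assoc]
        · rw [mul_assoc _ z, ← inv_comm' (B.Ez x hx)]; simp [cm, mul_assoc]
      have cm1 : ∀ g x, g * x = x * g → cm g x = 1 := fun g x h => by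
        simp only [cm, cj_iff.2 h]; group
      have cmz : ∀ g ∈ E, ∀ x ∈ E, g * x ≠ x * g → cm g x = z := fun g hg x hx h => by
        have e := (B.conjE hg hx).resolve_left fun e => h (cj_iff.1 e)
        simp only [cm, e]
        rw [B.Ez x hx]; group
      have cmo : ∀ g, cm g 1 = 1 := fun g => by simp [cm]
      intro v w e
      obtain ⟨p, q, r, s, t⟩ := v
      obtain ⟨p', q', r', s', t'⟩ := w
      have hP : ∀ p q r s t (g : G), g ∈ E → cm g (P (p, q, r, s, t)) =
          cond p (cm g z) 1 * cond q (cm g a) 1 * cond r (cm g i) 1 * cond s (cm g j) 1 * cond t (cm g d) 1 := by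
        intro p q r s t g hg
        have m : ∀ (c : Bool) {x : G}, x ∈ E → cond c x 1 ∈ E := fun c x hx => by
          cases c; exacts [E.one_mem, hx]
        have hcond : ∀ (c : Bool) (x : G), cm g (cond c x 1) = cond c (cm g x) 1 := fun c x => by
          cases c; exacts [cmo g, rfl]
        simp only [P]
        rw [cm_mul g hg _ (E.mul_mem (E.mul_mem (E.mul_mem (m p B.zE) (m q haE)) (m r hi.1)) (m s hj.1)) _ (m t hd),
          cm_mul g hg _ (E.mul_mem (E.mul_mem (m p B.zE) (m q haE)) (m r hi.1)) _ (m s hj.1),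
          cm_mul g hg _ (E.mul_mem (m p B.zE) (m q haE)) _ (m r hi.1),
          cm_mul g hg _ (m p B.zE) _ (m q haE), hcond, hcond, hcond, hcond, hcond]
      have et : t = t' := by
        have h := congrArg (cm a) e
        rw [hP _ _ _ _ _ a haE, hP _ _ _ _ _ a haE, cm1 a z haz, cm1 a a rfl, cm1 a i (mem_cent.1 hi.2).symm,
          cm1 a j (mem_cent.1 hj.2).symm, cmz a haE d hd (Ne.symm hdj.2)] at h
        revert h; cases t <;> cases t' <;> simp [B.z1, B.z1.symm]
      have es : s = s' := by
        have h := congrArg (cm i) e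
        rw [hP _ _ _ _ _ i hi.1, hP _ _ _ _ _ i hi.1, cm1 i z (B.Ez i hi.1), cm1 i a (mem_cent.1 hi.2), cm1 i i rfl,
          cmz i hi.1 j hj.1 hij, cm1 i d hdi.symm] at h
        revert h; cases s <;> cases s' <;> simp [B.z1, B.z1.symm]
      have er : r = r' := by
        have h := congrArg (cm j) e
        rw [hP _ _ _ _ _ j hj.1, hP _ _ _ _ _ j hj.1, cm1 j z (B.Ez j hj.1), cm1 j a (mem_cent.1 hj.2),
          cmz j hj.1 i hi.1 (Ne.symm hij), cm1 j j rfl, cm1 j d hdj.1.symm] at h
        revert h; cases r <;> cases r' <;> simp [B.z1, B.z1.symm]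
      have eq' : q = q' := by
        have h := congrArg (cm d) e
        rw [hP _ _ _ _ _ d hd, hP _ _ _ _ _ d hd, cm1 d z (B.Ez d hd), cmz d hd a haE hdj.2, cm1 d i hdi,
          cm1 d j hdj.1, cm1 d d rfl] at h
        revert h; cases q <;> cases q' <;> simp [B.z1, B.z1.symm]
      subst et es er eq'
      simp only [P, mul_left_inj] at e
      have : p = p' := by cases p <;> cases p' <;> simp_all [B.z1, B.z1.symm]
      rw [this]
    have := Nat.card_le_card_of_injective (fun v => (⟨P v, hmem v⟩ : D)) fun v w e =>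
      hinj (congrArg Subtype.val e)
    simpa using this
  have hk'E := B.self k' hcz hall
  have : h = k' * c4⁻¹ * c3⁻¹ * c2⁻¹ * c1⁻¹ := by rw [hk', hk]; group
  rw [this]
  exact E.mul_mem (E.mul_mem (E.mul_mem (E.mul_mem hk'E (E.inv_mem hc4E)) (E.inv_mem hc3E.1))
    (E.inv_mem hc2E.1)) (E.inv_mem hc1E)

open Classical in
/-- There are ten non-central involutions. -/
theorem card_nci [Fintype G] : (Finset.univ.filter fun w => Nci z E w).card = 10 := by
  obtain ⟨a, ha⟩ := B.exists_nci
  set SE : Finset G := Finset.univ.filter fun w => w ∈ E with hSE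
  have h32 : SE.card = 32 := by rw [← B.card, Nat.card_eq_fintype_card, Fintype.card_subtype]
  have h16 : (SE.filter fun w => w * a = a * w).card = 16 := by
    rw [← B.card_cent ha.mem ha.ne1 ha.nez, Nat.card_eq_fintype_card, Fintype.card_subtype, hSE, Finset.filter_filter]
    exact congrArg Finset.card (Finset.filter_congr fun w _ => by rw [Subgroup.mem_inf, mem_cent])
  set O : Finset G := SE.filter fun w => ¬ w * a = a * w with hO
  have hO16 : O.card = 16 := by
    have h := Finset.card_filter_add_card_filter_not (s := SE) (fun w => w * a = a * w)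
    rw [hO]; omega
  have hbij : (O.filter fun w => w * w = 1).card = (O.filter fun w => ¬ w * w = 1).card := by
    have mem : ∀ w, w ∈ O → w * a ∈ O ∧ w * a * (w * a) = w * w * z := by
      intro w hw
      simp only [hO, hSE, Finset.mem_filter, Finset.mem_univ, true_and] at hw ⊢
      exact ⟨⟨E.mul_mem hw.1 ha.mem, fun e => hw.2 (mul_right_cancel (b := a) (e.trans (mul_assoc _ _ _).symm))⟩,
        B.flip ha hw.1 hw.2⟩
    refine Finset.card_nbij' (fun w => w * a) (fun w => w * a) ?_ ?_
      (fun w _ => by simp [mul_assoc, ha.sq]) (fun w _ => by simp [mul_assoc, ha.sq])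
    · intro w hw
      rw [Finset.mem_coe, Finset.mem_filter] at hw ⊢
      obtain ⟨h1, h2⟩ := mem w hw.1
      exact ⟨h1, by rw [h2, hw.2, one_mul]; exact B.z1⟩
    · intro w hw
      rw [Finset.mem_coe, Finset.mem_filter] at hw ⊢
      obtain ⟨h1, h2⟩ := mem w hw.1
      have hwE : w ∈ E := by
        have := hw.1
        simp only [hO, hSE, Finset.mem_filter, Finset.mem_univ, true_and] at this
        exact this.1
      exact ⟨h1, by rw [h2, (B.sq w hwE).resolve_left hw.2, B.zz]⟩
  have h8 := Finset.card_filter_add_card_filter_not (s := O) (fun w => w * w = 1)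
  have hset : (Finset.univ.filter fun w => Nci z E w) = (O.filter fun w => w * w = 1) ∪ {a, a * z} := by
    ext w
    simp only [hO, hSE, Finset.mem_union, Finset.mem_filter, Finset.mem_univ, true_and, Finset.mem_insert,
      Finset.mem_singleton]
    constructor
    · intro hw
      by_cases hc : w * a = a * w
      · rcases B.four_of_comm ha hw.mem hc hw.sq with h | h | h | h
        exacts [absurd h hw.ne1, absurd h hw.nez, Or.inr (Or.inl h), Or.inr (Or.inr h)]
      · exact Or.inl ⟨⟨hw.mem, hc⟩, hw.sq⟩
    · rintro (⟨⟨hw, hc⟩, h2⟩ | rfl | rfl)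
      · exact ⟨hw, h2, fun e => hc (by simp [e]), fun e => hc (by rw [e]; exact (B.Ez a ha.mem).symm)⟩
      · exact ha
      · exact B.nci_mul_z ha
  have hd : Disjoint (O.filter fun w => w * w = 1) {a, a * z} := by
    rw [Finset.disjoint_left]
    intro w hw hw'
    simp only [hO, Finset.mem_filter, Finset.mem_insert, Finset.mem_singleton] at hw hw'
    rcases hw' with rfl | rfl
    · exact hw.1.2 rfl
    · exact hw.1.2 (mul_comm' rfl (B.Ez a ha.mem).symm)
  rw [hset, Finset.card_union_of_disjoint hd, Finset.card_pair B.xz_ne.symm]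
  omega

/-- The centraliser fixes a pair of non-central involutions. -/
theorem exists_fixed : ∃ a, Nci z E a ∧
    ∀ h, h * z = z * h → h * a * h⁻¹ = a ∨ h * a * h⁻¹ = a * z := by
  classical
  haveI := Fintype.ofFinite G
  haveI : Fact (Nat.Prime 2) := ⟨Nat.prime_two⟩
  let pr : G → Finset G := fun w => {w, w * z}
  let S := Finset.univ.filter fun w => Nci z E w
  let K : Finset (Finset G) := S.image pr
  have pr_eq : ∀ v w, pr v = pr w → v = w ∨ v = w * z := fun v w e => by
    simpa [pr] using (e ▸ Finset.mem_insert_self v {v * z} : v ∈ pr w)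
  have pr_z : ∀ w, pr (w * z) = pr w := fun w => by
    simp only [pr, B.z_mul_z]; exact Finset.pair_comm _ _
  have hK : K.card = 5 := by
    have hsum := Finset.card_eq_sum_card_image pr S
    have hfib : ∀ p ∈ K, (S.filter fun v => pr v = p).card = 2 := by
      intro p hp
      obtain ⟨w, hw, rfl⟩ := Finset.mem_image.1 hp
      rw [Finset.mem_filter] at hw
      have : (S.filter fun v => pr v = pr w) = {w, w * z} := by
        ext v
        simp only [S, Finset.mem_filter, Finset.mem_univ, true_and, Finset.mem_insert, Finset.mem_singleton]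
        constructor
        · exact fun h => pr_eq _ _ h.2
        · rintro (rfl | rfl)
          exacts [⟨hw.2, rfl⟩, ⟨B.nci_mul_z hw.2, pr_z w⟩]
      rw [this, Finset.card_pair B.xz_ne.symm]
    rw [B.card_nci, Finset.sum_congr rfl hfib, Finset.sum_const, smul_eq_mul] at hsum
    show K.card = 5
    omega
  let H := Subgroup.centralizer ({z} : Set G)
  have conjP : ∀ (h : H) w, (pr w).image (fun x => (h : G) * x * (h : G)⁻¹) = pr ((h : G) * w * (h : G)⁻¹) := by
    intro h w
    simp only [pr, Finset.image_insert, Finset.image_singleton, cj_mul, cj_iff.2 (mem_cent.1 h.2)]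
  have conj_nci : ∀ (h : H) w, Nci z E w → Nci z E ((h : G) * w * (h : G)⁻¹) := by
    intro h w hw
    refine ⟨B.norm _ (mem_cent.1 h.2) w hw.mem, by rw [← cj_mul, hw.sq]; group, fun e => hw.ne1 ?_,
      fun e => hw.nez ?_⟩
    · exact cj_inj (a := (h : G)) (e.trans (by group))
    · exact cj_inj (a := (h : G)) (e.trans (cj_iff.2 (mem_cent.1 h.2)).symm)
  letI act : MulAction ↥H ↥K :=
    { smul := fun h p => ⟨p.1.image (fun x => (h : G) * x * (h : G)⁻¹), by
        obtain ⟨w, hw, e⟩ := Finset.mem_image.1 p.2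
        rw [← e, conjP]
        rw [Finset.mem_filter] at hw
        exact Finset.mem_image.2 ⟨_, Finset.mem_filter.2 ⟨Finset.mem_univ _, conj_nci h w hw.2⟩, rfl⟩⟩
      one_smul := fun p => Subtype.ext (by
        show p.1.image _ = p.1
        simp)
      mul_smul := fun g h p => Subtype.ext (by
        show p.1.image _ = (p.1.image _).image _
        rw [Finset.image_image]
        refine Finset.image_congr fun x _ => ?_
        simp only [Function.comp_apply, Subgroup.coe_mul]
        exact cj_cj _ _ x) }
  let P : Subgroup H :=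
    { carrier := {h | InV (ψ (h : G))}
      one_mem' := by
        show InV (ψ ((1 : H) : G))
        rw [Subgroup.coe_one, B.ψ_one]; decide
      mul_mem' := fun {g h} hg hh => by
        show InV (ψ ((g * h : H) : G))
        rw [Subgroup.coe_mul, B.ψ_mul _ _ (mem_cent.1 g.2) (mem_cent.1 h.2)]
        exact inV_mul _ _ hg hh
      inv_mem' := fun {g} hg => by
        show InV (ψ ((g⁻¹ : H) : G))
        rw [Subgroup.coe_inv, B.ψ_inv (mem_cent.1 g.2), inv_sq hg.1]
        exact hg }
  have hPmem : ∀ h : H, h ∈ P ↔ InV (ψ (h : G)) := fun _ => Iff.rfl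
  have hPcard : Nat.card P = 128 := by
    let f : P →* S4 :=
      { toFun := fun h => ψ ((h : H) : G)
        map_one' := by simp [B.ψ_one]
        map_mul' := fun g h => by
          simp only [Subgroup.coe_mul]
          exact B.ψ_mul _ _ (mem_cent.1 g.1.2) (mem_cent.1 h.1.2) }
    have hker : Nat.card f.ker = 32 := by
      rw [← B.card]
      refine Nat.card_congr
        { toFun := fun h => ⟨((h : P) : H), (B.ψ_ker _ (mem_cent.1 h.1.1.2)).1 h.2⟩
          invFun := fun q => ⟨⟨⟨q.1, mem_cent.2 (B.Ez q.1 q.2)⟩, by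
            rw [hPmem, (B.ψ_ker q.1 (B.Ez q.1 q.2)).2 q.2]; decide⟩, (B.ψ_ker q.1 (B.Ez q.1 q.2)).2 q.2⟩
          left_inv := fun _ => rfl
          right_inv := fun _ => rfl }
    have hr : Nat.card f.range = 4 := by
      refine Eq.trans ?_ card_inV; rw [Nat.card_eq_fintype_card, Fintype.card_subtype]
      congr 1
      ext σ
      simp only [Finset.mem_filter, Finset.mem_univ, true_and, MonoidHom.mem_range]
      constructor
      · rintro ⟨h, rfl⟩; exact h.2
      · intro hσ
        obtain ⟨h, hh, rfl⟩ := B.ψ_surj σ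
        exact ⟨⟨⟨h, mem_cent.2 hh⟩, hσ⟩, rfl⟩
    rw [← f.ker.card_mul_index, Subgroup.index_ker, hker, hr]
  have hmod := (IsPGroup.of_card (G := P) (n := 7) (p := 2) hPcard).card_modEq_card_fixedPoints (α := ↥K)
  rw [Nat.card_eq_finsetCard, hK, Nat.card_eq_fintype_card, Nat.ModEq] at hmod
  set F := MulAction.fixedPoints P ↥K with hF
  have hFinv : ∀ (h : H) (p : ↥K), p ∈ F → h • p ∈ F := by
    intro h p hp g
    have hc : h⁻¹ * (g : H) * h ∈ P := by
      rw [hPmem, show ((h⁻¹ * (g : H) * h : H) : G) = (h : G)⁻¹ * (g : H) * ((h : G)⁻¹)⁻¹ by simp,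
        B.ψ_conj (inv_comm' (mem_cent.1 h.2)) (mem_cent.1 g.1.2)]
      exact inV_conj _ _ g.2
    have e : (h⁻¹ * (g : H) * h) • p = p := hp ⟨_, hc⟩
    show (g : H) • h • p = h • p
    calc (g : H) • h • p = h • ((h⁻¹ * (g : H) * h) • p) := by
          rw [← mul_smul, ← mul_smul]; congr 1; group
      _ = h • p := by rw [e]
  by_cases hone : Fintype.card F = 1
  · obtain ⟨⟨p, hp⟩, huniq⟩ := Fintype.card_eq_one_iff.1 hone
    obtain ⟨w, hw, e⟩ := Finset.mem_image.1 p.2
    rw [Finset.mem_filter] at hw
    refine ⟨w, hw.2, fun h hh => pr_eq _ _ ?_⟩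
    have hfix : (⟨h, mem_cent.2 hh⟩ : H) • p = p := congrArg Subtype.val (huniq ⟨_, hFinv _ p hp⟩)
    have hfix' : p.1.image (fun x => h * x * h⁻¹) = p.1 := congrArg Subtype.val hfix
    rw [← e, conjP ⟨h, mem_cent.2 hh⟩] at hfix'
    exact hfix'
  exfalso
  have hsmall : Fintype.card ↥K - Fintype.card F ≤ 2 := by
    rw [Fintype.card_coe, hK]; omega
  let Fc : Finset ↥K := Finset.univ.filter fun p => p ∉ F
  have hFc : Fc.card ≤ 2 := by
    have h1 := Finset.card_filter_add_card_filter_not (s := (Finset.univ : Finset ↥K)) (fun p => p ∈ F)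
    have h2 : (Finset.univ.filter fun p : ↥K => p ∈ F).card = Fintype.card F := (Fintype.card_subtype _).symm
    rw [Finset.card_univ] at h1
    show (Finset.univ.filter fun p : ↥K => p ∉ F).card ≤ 2
    omega
  have triv : ∀ g : P, (∀ p : ↥K, g • p = p) → ((g : H) : G) ∈ E := by
    intro g hg
    obtain ⟨a, ha⟩ := B.exists_nci
    have gz := mem_cent.1 g.1.2
    refine B.mem_of_triv ha gz fun q hq => ?_
    let D : Subgroup G :=
      { carrier := {q | q ∈ E ∧ (((g : H) : G) * q * ((g : H) : G)⁻¹ = q ∨
          ((g : H) : G) * q * ((g : H) : G)⁻¹ = q * z)}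
        one_mem' := ⟨E.one_mem, Or.inl (by group)⟩
        mul_mem' := fun {x y} hx hy => ⟨E.mul_mem hx.1 hy.1, by
          rw [cj_mul]
          rcases hx.2 with e | e <;> rcases hy.2 with e' | e' <;> rw [e, e']
          · exact Or.inl rfl
          · exact Or.inr (mul_assoc _ _ _).symm
          · exact Or.inr (by rw [mul_assoc x, ← B.Ez y hy.1]; group)
          · exact Or.inl (by rw [mul_assoc x, ← mul_assoc z, ← B.Ez y hy.1, mul_assoc y, B.zz, mul_one])⟩
        inv_mem' := fun {x} hx => ⟨E.inv_mem hx.1, by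
          rcases hx.2 with e | e
          · exact Or.inl (cj_iff.2 ((cj_iff.1 e) |> fun h => (show Commute _ x from h).inv_right.eq))
          · right
            rw [show ((g : H) : G) * x⁻¹ * ((g : H) : G)⁻¹ = (((g : H) : G) * x * ((g : H) : G)⁻¹)⁻¹ by group, e,
              mul_inv_rev, inv_sq B.zz]
            exact ((B.Ez _ (E.inv_mem hx.1))).symm⟩ }
    suffices hDE : D = E from (hDE.symm ▸ hq : q ∈ D).2
    have hDle : D ≤ E := fun x hx => hx.1
    refine Subgroup.eq_of_le_of_card_ge hDle ?_
    have hmem : ∀ w, Nci z E w → w ∈ D := by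
      intro w hw
      refine ⟨hw.mem, pr_eq _ _ ?_⟩
      have h := congrArg Subtype.val (hg ⟨pr w, Finset.mem_image.2 ⟨w, Finset.mem_filter.2
        ⟨Finset.mem_univ _, hw⟩, rfl⟩⟩)
      rw [← conjP (g : H)]
      exact h
    obtain ⟨d, hd, e⟩ := (Nat.dvd_prime_pow Nat.prime_two).1
      (show Nat.card D ∣ 2 ^ 5 from (Subgroup.card_dvd_of_le hDle).trans (B.card ▸ dvd_refl _))
    rw [B.card]
    by_contra hlt
    have h16 : Nat.card D ≤ 16 := by interval_cases d <;> omega
    let T : Finset G := S ∪ ((S.filter fun w => w * a ≠ a * w).image fun w => w * a)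
    have hT : T.card ≤ Nat.card D := by
      rw [← Nat.card_eq_finsetCard]
      refine Nat.card_le_card_of_injective (fun x => ⟨x.1, ?_⟩) fun x y e => Subtype.ext (congrArg Subtype.val e :)
      rcases Finset.mem_union.1 x.2 with h | h
      · exact hmem _ (Finset.mem_filter.1 h).2
      · obtain ⟨w, hw, e⟩ := Finset.mem_image.1 h
        rw [← e]
        exact D.mul_mem (hmem _ (Finset.mem_filter.1 (Finset.mem_filter.1 hw).1).2) (hmem a ha)
    have hdj : Disjoint S ((S.filter fun w => w * a ≠ a * w).image fun w => w * a) := by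
      rw [Finset.disjoint_left]
      intro v hv hv'
      obtain ⟨w, hw, rfl⟩ := Finset.mem_image.1 hv'
      simp only [S, Finset.mem_filter, Finset.mem_univ, true_and] at hw hv
      have := B.flip ha hw.1.mem hw.2
      rw [hv.sq, hw.1.sq, one_mul] at this
      exact B.z1 this.symm
    have h8 : 8 ≤ (S.filter fun w => w * a ≠ a * w).card := by
      have h1 := Finset.card_filter_add_card_filter_not (s := S) (fun w => w * a = a * w)
      have h2 : (S.filter fun w => w * a = a * w).card ≤ 2 := by
        refine le_trans (Finset.card_le_card (t := {a, a * z}) fun w hw => ?_) Finset.card_le_two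
        simp only [S, Finset.mem_filter, Finset.mem_univ, true_and] at hw
        rcases B.four_of_comm ha hw.1.mem hw.2 hw.1.sq with h | h | h | h
        exacts [absurd h hw.1.ne1, absurd h hw.1.nez, by simp [h], by simp [h]]
      rw [B.card_nci] at h1
      simp only [ne_eq]
      omega
    rw [Finset.card_union_of_disjoint hdj, Finset.card_image_of_injective _ (mul_left_injective a),
      B.card_nci] at hT
    omega
  have hle : Nat.card P ≤ 64 := by
    have hstab : ∀ p, p ∈ Fc → Nat.card P ≤ 2 * Nat.card (MulAction.stabilizer P p) := by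
      intro p hp
      rw [← (MulAction.stabilizer P p).card_mul_index, MulAction.index_stabilizer, mul_comm 2]
      refine Nat.mul_le_mul_left _ ?_
      rw [← Nat.card_coe_set_eq]
      refine le_trans (Nat.card_le_card_of_injective (β := Fc) (fun x => ⟨x.1, ?_⟩)
        fun x y e => Subtype.ext (congrArg Subtype.val e :)) (by rw [Nat.card_eq_finsetCard]; exact hFc)
      obtain ⟨g, hg⟩ := x.2
      simp only [Fc, Finset.mem_filter, Finset.mem_univ, true_and] at hp ⊢
      intro hx
      refine hp ?_
      have : g⁻¹ • (x.1) = p := by rw [← hg, inv_smul_smul]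
      rw [← this]
      exact hFinv _ _ hx
    have into : ∀ A : Subgroup P, (∀ g ∈ A, ∀ p : ↥K, g • p = p) → Nat.card A ≤ 32 := fun A hA => by
      rw [← B.card]
      exact Nat.card_le_card_of_injective (fun g => ⟨(((g : P) : H) : G), triv _ (hA _ g.2)⟩)
        fun g g' e => Subtype.ext (Subtype.ext (Subtype.ext (congrArg Subtype.val e :)))
    by_cases hne : Fc.Nonempty
    · obtain ⟨p, hp⟩ := hne
      have := into (MulAction.stabilizer P p) fun g hg q => by
        by_cases hq : q ∈ F
        · exact hq g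
        by_cases hqp : q = p
        · rw [hqp]; exact hg
        -- the only other moved point
        have hgq : g • q ∈ Fc := by
          simp only [Fc, Finset.mem_filter, Finset.mem_univ, true_and]
          intro hx
          refine hq ?_
          rw [← inv_smul_smul g q]
          exact hFinv _ _ hx
        have hqm : q ∈ Fc := by simp [Fc, hq]
        have heq : Fc = {p, q} := (Finset.eq_of_subset_of_card_le (by
          simp [Finset.insert_subset_iff, hp, hqm]) (by rw [Finset.card_pair (Ne.symm hqp)]; exact hFc)).symm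
        rw [heq, Finset.mem_insert, Finset.mem_singleton] at hgq
        refine hgq.resolve_left fun e => hqp ?_
        have : g • q = g • p := e.trans (MulAction.mem_stabilizer_iff.1 hg).symm
        exact MulAction.injective g this
      have := hstab p hp
      omega
    · have := into ⊤ fun g _ p => by
        by_contra hc
        refine hne ⟨p, ?_⟩
        simp only [Fc, Finset.mem_filter, Finset.mem_univ, true_and]
        exact fun hp => hc (hp g)
      rw [Subgroup.card_top] at this
      omega
  omega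

end Base

end Cfsg.Agent.L34Aut
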