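import Cfsg.Agent.Lib.L34Aut.Fixed

/-!
The index two subgroup `C = C(⟨z, a⟩)` of the centraliser, its largest normal `2`-subgroup `T`, and the
action on `E ∩ C` modulo `⟨z, a⟩`.
-/

set_option autoImplicit false
set_option linter.style.haveILetI false
set_option linter.unusedSectionVars false

namespace Cfsg.Agent.L34Aut

universe u

variable {G : Type u} [Group G]

/-- The standing data: the centraliser with its fixed pair. -/
structure Frame (z a : G) (E : Subgroup G) (ψ : G → S4) : Prop where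
  B : Base z E ψ
  A : Nci z E a
  fix : ∀ h, h * z = z * h → h * a * h⁻¹ = a ∨ h * a * h⁻¹ = a * z

/-- Membership of `C(⟨z, a⟩)`. -/
def InC (z a h : G) : Prop := h * z = z * h ∧ h * a = a * h

/-- Membership of the largest normal `2`-subgroup of `C(⟨z, a⟩)`. -/
def InT (z a : G) (ψ : G → S4) (h : G) : Prop := InC z a h ∧ InV (ψ h)

/-- Membership of `E ∩ C(a)`. -/
def InE1 (a : G) (E : Subgroup G) (q : G) : Prop := q ∈ E ∧ q * a = a * q

variable [Finite G] {z a : G} {E : Subgroup G} {ψ : G → S4}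

namespace Frame

variable (F : Frame z a E ψ)
include F

theorem az : a * z = z * a := F.B.Ez a F.A.mem

theorem U_cases {u v : G} (hu : InU z a u) (hv : InU z a v) : InU z a (u * v) ∧ u * v = v * u ∧ u * u = 1 := by
  have haz := F.az
  have e1 : a * z * a = z := by rw [haz, mul_assoc, F.A.sq, mul_one]
  have e2 : z * (a * z) = a := by rw [haz, ← mul_assoc, F.B.zz, one_mul]
  have e3 : a * (a * z) = z := by rw [← mul_assoc, F.A.sq, one_mul]
  have e4 : a * z * (a * z) = 1 := by rw [← mul_assoc, e1, F.B.zz]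
  rcases hu with rfl | rfl | rfl | rfl <;> rcases hv with rfl | rfl | rfl | rfl <;>
    simp [InU, F.B.zz, F.A.sq, F.B.z_mul_z, e1, e2, e3, e4, ← haz]

theorem U_mul {u v : G} (hu : InU z a u) (hv : InU z a v) : InU z a (u * v) := (F.U_cases hu hv).1

theorem U_sq {u : G} (hu : InU z a u) : u * u = 1 := (F.U_cases hu hu).2.2

theorem U_inv {u : G} (hu : InU z a u) : InU z a u⁻¹ := by rw [inv_sq (F.U_sq hu)]; exact hu

theorem U_E {u : G} (hu : InU z a u) : InE1 a E u := by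
  rcases hu with rfl | rfl | rfl | rfl
  exacts [⟨E.one_mem, by simp⟩, ⟨F.B.zE, F.az.symm⟩, ⟨F.A.mem, rfl⟩,
    ⟨E.mul_mem F.A.mem F.B.zE, mul_comm' rfl F.az.symm⟩]

theorem U_comm {u h : G} (hu : InU z a u) (hh : InC z a h) : h * u = u * h := by
  rcases hu with rfl | rfl | rfl | rfl
  exacts [by simp, hh.1, hh.2, comm_mul hh.2 hh.1]

theorem C_mul {g h : G} (hg : InC z a g) (hh : InC z a h) : InC z a (g * h) :=
  ⟨mul_comm' hg.1 hh.1, mul_comm' hg.2 hh.2⟩

theorem C_inv {g : G} (hg : InC z a g) : InC z a g⁻¹ := ⟨inv_comm' hg.1, inv_comm' hg.2⟩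

theorem C_conj {g h : G} (hg : InC z a g) (hh : InC z a h) : InC z a (g * h * g⁻¹) :=
  F.C_mul (F.C_mul hg hh) (F.C_inv hg)

theorem C_pow {g : G} (hg : InC z a g) (n : ℕ) : InC z a (g ^ n) :=
  ⟨((show Commute g z from hg.1).pow_left n).eq, ((show Commute g a from hg.2).pow_left n).eq⟩

theorem E1_C {q : G} (hq : InE1 a E q) : InC z a q := ⟨F.B.Ez q hq.1, hq.2⟩

theorem E1_mul {q r : G} (hq : InE1 a E q) (hr : InE1 a E r) : InE1 a E (q * r) :=
  ⟨E.mul_mem hq.1 hr.1, mul_comm' hq.2 hr.2⟩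

theorem E1_inv {q : G} (hq : InE1 a E q) : InE1 a E q⁻¹ := ⟨E.inv_mem hq.1, inv_comm' hq.2⟩

theorem E1_conj {h q : G} (hh : InC z a h) (hq : InE1 a E q) : InE1 a E (h * q * h⁻¹) :=
  ⟨F.B.norm h hh.1 q hq.1, (F.C_conj hh (F.E1_C hq)).2⟩

theorem exists_b : ∃ b ∈ E, b * a ≠ a * b := by
  by_contra hc
  push Not at hc
  rcases F.B.center a F.A.mem (fun y hy => (hc y hy).symm) with e | e
  exacts [F.A.ne1 e, F.A.nez e]

/-- The centraliser is `E · C`. -/
theorem exists_C {h : G} (hh : h * z = z * h) : ∃ q ∈ E, InC z a (h * q) := by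
  rcases F.fix h hh with e | e
  · exact ⟨1, E.one_mem, by rw [mul_one]; exact ⟨hh, cj_iff.1 e⟩⟩
  · obtain ⟨b, hb, hba⟩ := F.exists_b
    refine ⟨b, hb, mul_comm' hh (F.B.Ez b hb), cj_iff.1 ?_⟩
    rw [cj_cj, (F.B.conjE hb F.A.mem).resolve_left fun e => hba (cj_iff.1 e), cj_mul, e, cj_iff.2 hh,
      F.B.z_mul_z]

theorem ψ_surjC (σ : S4) : ∃ h, InC z a h ∧ ψ h = σ := by
  obtain ⟨h, hh, rfl⟩ := F.B.ψ_surj σ
  obtain ⟨q, hq, hC⟩ := F.exists_C hh
  exact ⟨h * q, hC, by rw [F.B.ψ_mul _ _ hh (F.B.Ez q hq), (F.B.ψ_ker q (F.B.Ez q hq)).2 hq, mul_one]⟩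

theorem card_E1 : Nat.card {q : G // InE1 a E q} = 16 := by
  rw [← F.B.card_cent F.A.mem F.A.ne1 F.A.nez]
  exact Nat.card_congr (Equiv.subtypeEquivRight fun q => by rw [InE1, Subgroup.mem_inf, mem_cent])

theorem card_U : Nat.card {u : G // InU z a u} = 4 := by
  classical
  have e : Nat.card {u : G // InU z a u} = ({1, z, a, a * z} : Finset G).card := by
    rw [← Nat.card_eq_finsetCard]
    exact Nat.card_congr (Equiv.subtypeEquivRight fun u => by simp [InU])
  have h1 : a * z ≠ 1 := (F.B.nci_mul_z F.A).ne1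
  have h2 : a * z ≠ z := (F.B.nci_mul_z F.A).nez
  rw [e, Finset.card_insert_of_notMem (by simp [F.B.z1.symm, F.A.ne1.symm, h1.symm]),
    Finset.card_insert_of_notMem (by simp [F.A.nez.symm, h2.symm]), Finset.card_pair F.B.xz_ne.symm]

theorem sq_eq_z {q : G} (hq : InE1 a E q) (hU : ¬ InU z a q) : q * q = z :=
  (F.B.sq q hq.1).resolve_left fun e => hU (F.B.four_of_comm F.A hq.1 hq.2 e)

/-- Two non-commuting elements. -/
theorem E1_nonabelian : ∃ i, InE1 a E i ∧ ∃ j, InE1 a E j ∧ i * j ≠ j * i := by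
  by_contra hc
  push Not at hc
  have h := F.B.no16 (E ⊓ Subgroup.centralizer ({a} : Set G)) inf_le_left fun x hx y hy =>
    hc x ⟨hx.1, mem_cent.1 hx.2⟩ y ⟨hy.1, mem_cent.1 hy.2⟩
  rw [F.B.card_cent F.A.mem F.A.ne1 F.A.nez] at h
  omega

/-- The four cosets of `⟨z, a⟩` in `E ∩ C(a)`. -/
theorem cosets {i j : G} (hi : InE1 a E i) (hj : InE1 a E j) (hiU : ¬ InU z a i) (hjU : ¬ InU z a j)
    (hij : ¬ InU z a (i⁻¹ * j)) {q : G} (hq : InE1 a E q) :
    InU z a q ∨ InU z a (i⁻¹ * q) ∨ InU z a (j⁻¹ * q) ∨ InU z a ((i * j)⁻¹ * q) := by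
  classical
  by_contra hcon
  push Not at hcon
  obtain ⟨h1, h2, h3, h4⟩ := hcon
  haveI : Fintype {u : G // InU z a u} := Fintype.ofFinite _
  let c : Fin 5 → G := ![1, i, j, i * j, q]
  have hc : ∀ n, InE1 a E (c n) := by
    intro n; fin_cases n
    exacts [⟨E.one_mem, by simp [c]⟩, hi, hj, F.E1_mul hi hj, hq]
  have hiz : i⁻¹ = i * z := inv_eq_of_mul_eq_one_right (by rw [← mul_assoc, F.sq_eq_z hi hiU, F.B.zz])
  have hinv : ∀ {w : G}, InU z a w → InU z a w⁻¹ := fun h => F.U_inv h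
  have hdiff : ∀ n m, n ≠ m → ¬ InU z a ((c n)⁻¹ * c m) := by
    have sym : ∀ n m, ¬ InU z a ((c n)⁻¹ * c m) → ¬ InU z a ((c m)⁻¹ * c n) := fun n m h e =>
      h (by have := hinv e; rwa [mul_inv_rev, inv_inv] at this)
    have d01 : ¬ InU z a ((c 0)⁻¹ * c 1) := by simpa [c] using hiU
    have d02 : ¬ InU z a ((c 0)⁻¹ * c 2) := by simpa [c] using hjU
    have d03 : ¬ InU z a ((c 0)⁻¹ * c 3) := by
      simp only [c, Matrix.cons_val, inv_one, one_mul]
      intro e
      refine hij ?_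
      have := F.U_mul e (Or.inr (Or.inl rfl) : InU z a z)
      rw [hiz, mul_assoc, ← F.B.Ez j hj.1, ← mul_assoc]
      exact this
    have d04 : ¬ InU z a ((c 0)⁻¹ * c 4) := by simpa [c] using h1
    have d12 : ¬ InU z a ((c 1)⁻¹ * c 2) := hij
    have d13 : ¬ InU z a ((c 1)⁻¹ * c 3) := by simpa [c] using hjU
    have d14 : ¬ InU z a ((c 1)⁻¹ * c 4) := h2
    have d23 : ¬ InU z a ((c 2)⁻¹ * c 3) := by
      intro e
      simp only [c, Matrix.cons_val] at e
      have hcomm : j⁻¹ * (i * j) = i ∨ j⁻¹ * (i * j) = i * z := by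
        rcases F.B.comm i hi.1 j hj.1 with h | h <;> rw [h]
        · left; group
        · right; group
      rcases hcomm with h | h <;> rw [h] at e
      · exact hiU e
      · exact hiU (by simpa [F.B.z_mul_z] using F.U_mul e (Or.inr (Or.inl rfl) : InU z a z))
    have d24 : ¬ InU z a ((c 2)⁻¹ * c 4) := h3
    have d34 : ¬ InU z a ((c 3)⁻¹ * c 4) := h4
    intro n m hnm
    fin_cases n <;> fin_cases m
    all_goals first
      | exact absurd rfl hnm
      | assumption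
      | exact sym _ _ (by assumption)
  let f : Fin 5 × {u : G // InU z a u} → {w : G // InE1 a E w} := fun p =>
    ⟨c p.1 * p.2, F.E1_mul (hc p.1) (F.U_E p.2.2)⟩
  have hf : Function.Injective f := by
    rintro ⟨n, u⟩ ⟨m, v⟩ e
    have e' : c n * u = c m * v := congrArg Subtype.val e
    by_cases hnm : n = m
    · subst hnm; exact Prod.ext rfl (Subtype.ext (mul_left_cancel e'))
    · refine absurd ?_ (hdiff n m hnm)
      rw [show (c n)⁻¹ * c m = (c n)⁻¹ * (c m * v) * (v : G)⁻¹ by group, ← e', inv_mul_cancel_left]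
      exact F.U_mul u.2 (F.U_inv v.2)
  have := Nat.card_le_card_of_injective f hf
  rw [Nat.card_prod, Nat.card_fin, F.card_U, F.card_E1] at this
  omega

/-- The centre of `E ∩ C(a)`. -/
theorem E1_center {q : G} (hq : InE1 a E q) (hc : ∀ r, InE1 a E r → q * r = r * q) : InU z a q := by
  by_contra hU
  obtain ⟨i, hi, j, hj, hij⟩ := F.E1_nonabelian
  -- some generator lies outside `⟨U, q⟩`
  have key : ∀ r, InE1 a E r → InU z a r ∨ InU z a (q⁻¹ * r) := by
    intro r hr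
    by_contra hh
    push Not at hh
    refine hh.1 (F.B.four_of_comm F.A hr.1 hr.2 ((F.B.sq r hr.1).resolve_right fun hrr => hh.2 ?_))
    have hqr := F.E1_mul hq hr
    refine (?_ : InU z a (q⁻¹ * r))
    have hs : q * r * (q * r) = 1 := by
      rw [show q * r * (q * r) = q * (r * q) * r by group, ← hc r hr,
        show q * (q * r) * r = q * q * (r * r) by group, F.sq_eq_z hq hU, hrr, F.B.zz]
    have hqU := F.B.four_of_comm F.A hqr.1 hqr.2 hs
    rw [show q⁻¹ = q * z from inv_eq_of_mul_eq_one_right (by rw [← mul_assoc, F.sq_eq_z hq hU, F.B.zz]),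
      mul_assoc, ← F.B.Ez r hr.1, ← mul_assoc]
    exact F.U_mul hqU (Or.inr (Or.inl rfl))
  have hcomm : ∀ r, InE1 a E r → ∀ s, InE1 a E s → (InU z a r ∨ InU z a s) → r * s = s * r := by
    rintro r hr s hs (h | h)
    · exact (F.U_comm h (F.E1_C hs)).symm
    · exact F.U_comm h (F.E1_C hr)
  rcases key i hi with h | h
  · exact hij (hcomm i hi j hj (Or.inl h))
  rcases key j hj with h' | h'
  · exact hij (hcomm i hi j hj (Or.inr h'))
  refine hij ?_
  have hq' := F.E1_C hq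
  have hU1 := F.U_comm h hq'
  calc i * j = q * (q⁻¹ * i) * (q * (q⁻¹ * j)) := by group
    _ = q * q * ((q⁻¹ * i) * (q⁻¹ * j)) := by
        rw [show q * (q⁻¹ * i) * (q * (q⁻¹ * j)) = q * ((q⁻¹ * i) * q) * (q⁻¹ * j) by group, ← hU1]; group
    _ = q * q * ((q⁻¹ * j) * (q⁻¹ * i)) := by rw [(F.U_cases h h').2.1]
    _ = q * (q⁻¹ * j) * (q * (q⁻¹ * i)) := by
        rw [show q * (q⁻¹ * j) * (q * (q⁻¹ * i)) = q * ((q⁻¹ * j) * q) * (q⁻¹ * i) by group,
          ← F.U_comm h' hq']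
        group
    _ = j * i := by group

end Frame

end Cfsg.Agent.L34Aut
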