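import Cfsg.Agent.Lib.L34Aut.Squares

/-!
Every conjugate of `z` in its centraliser, other than `z`, lies in `T`.
-/

set_option autoImplicit false
set_option linter.style.haveILetI false
set_option linter.unusedSectionVars false
set_option linter.unusedVariables false
set_option synthInstance.maxHeartbeats 400000
set_option synthInstance.maxSize 4000

namespace Cfsg.Agent.L34Aut

theorem V_escape : ∀ θ σ : S4, θ ^ 3 = 1 → θ ≠ 1 → ¬ InV σ →
    (σ ^ 3 = 1 ∧ σ ≠ 1) ∨ ((σ * (θ * σ * θ⁻¹)) ^ 3 = 1 ∧ σ * (θ * σ * θ⁻¹) ≠ 1) ∨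
      ((σ * (θ * θ * σ * (θ * θ)⁻¹)) ^ 3 = 1 ∧ σ * (θ * θ * σ * (θ * θ)⁻¹) ≠ 1) := by
  decide +kernel

universe u

variable {G : Type u} [Group G] [Finite G] {z a x m l₀ l₁ : G} {E : Subgroup G} {ψ : G → S4}

namespace Frame

variable (F : Frame z a E ψ)
include F

theorem conj_U {h u : G} (hh : h * z = z * h) (hu : InU z a u) : InU z a (h * u * h⁻¹) := by
  rcases hu with rfl | rfl | rfl | rfl
  · left; group
  · rw [cj_iff.2 hh]; exact Or.inr (Or.inl rfl)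
  · rcases F.fix h hh with e | e <;> rw [e]
    exacts [Or.inr (Or.inr (Or.inl rfl)), Or.inr (Or.inr (Or.inr rfl))]
  · rw [cj_mul, cj_iff.2 hh]
    rcases F.fix h hh with e | e <;> rw [e]
    exacts [Or.inr (Or.inr (Or.inr rfl)), by rw [F.B.z_mul_z]; exact Or.inr (Or.inr (Or.inl rfl))]

theorem conj_InE1 {h q : G} (hh : h * z = z * h) (hq : InE1 a E q) : InE1 a E (h * q * h⁻¹) := by
  have hE := F.B.norm h hh q hq.1
  refine ⟨hE, ?_⟩
  have e : h * q * h⁻¹ * (h * a * h⁻¹) = h * a * h⁻¹ * (h * q * h⁻¹) := by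
    rw [← cj_mul, ← cj_mul, hq.2]
  rcases F.fix h hh with e' | e' <;> rw [e'] at e
  · exact e
  · refine mul_right_cancel (b := z) ?_
    calc h * q * h⁻¹ * a * z = h * q * h⁻¹ * (a * z) := mul_assoc _ _ _
      _ = a * z * (h * q * h⁻¹) := e
      _ = _ := by rw [mul_assoc, ← F.B.Ez _ hE, ← mul_assoc]

/-- An element outside the preimage of the four-group moves a class. -/
theorem exists_moved {w : G} (hw : w * z = z * w) (hV : ¬ InV (ψ w)) :
    ∃ y, InE1 a E y ∧ ¬ InU z a (y⁻¹ * (w * y * w⁻¹)) := by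
  by_contra hc
  push Not at hc
  obtain ⟨q, hq, hqC⟩ := F.exists_C hw
  have hq' : ψ (w * q) = ψ w := by
    rw [F.B.ψ_mul _ _ hw (F.B.Ez q hq), (F.B.ψ_ker q (F.B.Ez q hq)).2 hq, mul_one]
  have hwq : Triv z a E (w * q) := by
    intro p hp
    rw [cj_cj]
    rcases F.B.conjE hq hp.1 with e | e <;> rw [e]
    · exact hc p hp
    · rw [cj_mul, cj_iff.2 hw, ← mul_assoc]
      exact F.U_mul (hc p hp) (Or.inr (Or.inl rfl))
  obtain ⟨x, hx⟩ := F.exists_x
  have conjT : ∀ {y h : G}, InC z a y → InC z a h → Triv z a E h → Triv z a E (y * h * y⁻¹) := by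
    intro y h hy hh ht p hp
    have := F.U_move hy (ht _ (F.E1_conj (F.C_inv hy) hp))
    rwa [show y * (y⁻¹ * p * y⁻¹⁻¹) * y⁻¹ = p by group,
      show y * (h * (y⁻¹ * p * y⁻¹⁻¹) * h⁻¹) * y⁻¹ = y * h * y⁻¹ * p * (y * h * y⁻¹)⁻¹ by group] at this
  have bad : ∀ c, InC z a c → Triv z a E c → ψ c ^ 3 = 1 → ψ c ≠ 1 → False := by
    intro c hC ht h3 h1
    have htp : ∀ n : ℕ, Triv z a E (c ^ n) ∧ ψ (c ^ n) = ψ c ^ n := by
      intro n
      induction n with
      | zero => exact ⟨fun p hp => by left; simp, by simp [F.B.ψ_one]⟩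
      | succ n ih =>
        rw [pow_succ, pow_succ, ← ih.2, F.B.ψ_mul _ _ (F.C_pow hC n).1 hC.1]
        exact ⟨F.triv_mul (F.C_pow hC n) ih.1 ht hC, rfl⟩
    have hE : c ^ 3 ∈ E := (F.B.ψ_ker _ (F.C_pow hC 3).1).1 (by rw [(htp 3).2, h3])
    have h4 : (c ^ 3) ^ 4 = 1 := by
      rw [show (c ^ 3) ^ 4 = c ^ 3 * c ^ 3 * (c ^ 3 * c ^ 3) by simp only [← pow_add, ← pow_mul]]
      rcases F.B.sq _ hE with e | e <;> rw [e]
      exacts [one_mul 1, F.B.zz]
    refine F.not_triv (x := c ^ 4) ⟨F.C_pow hC 4, by rw [← pow_mul, mul_comm, pow_mul, h4], ?_, ?_⟩ (htp 4).1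
    all_goals rw [(htp 4).2, show ψ c ^ 4 = ψ c by rw [pow_succ, h3, one_mul]]
    exacts [h3, h1]
  rcases V_escape (ψ x) (ψ (w * q)) hx.θ3 hx.θ1 (hq' ▸ hV) with ⟨e3, e1⟩ | ⟨e3, e1⟩ | ⟨e3, e1⟩
  · exact bad _ hqC hwq e3 e1
  · have hC' := F.C_conj hx.C hqC
    refine bad _ (F.C_mul hqC hC') (F.triv_mul hqC hwq (conjT hx.C hqC hwq) hC') ?_ ?_ <;>
      rw [F.B.ψ_mul _ _ hqC.1 hC'.1, F.B.ψ_conj hx.C.1 hqC.1]
    exacts [e3, e1]
  · have hxx := F.C_mul hx.C hx.C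
    have hC' := F.C_conj hxx hqC
    refine bad _ (F.C_mul hqC hC') (F.triv_mul hqC hwq (conjT hxx hqC hwq) hC') ?_ ?_ <;>
      rw [F.B.ψ_mul _ _ hqC.1 hC'.1, F.B.ψ_conj hxx.1 hqC.1, F.B.ψ_mul _ _ hx.C.1 hx.C.1]
    exacts [e3, e1]

/-- An involution outside the preimage of the four-group fixes some element of `E` outside `C(a)` (an involution
when it centralises `a`), and centralises two elements whose commutator is `z`. -/
theorem outer_pair {w : G} (hw : w * z = z * w) (h2 : w * w = 1) (hV : ¬ InV (ψ w)) :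
    ∃ e u, e ∈ E ∧ (e * e = 1 ∨ w * a ≠ a * w) ∧ e * a ≠ a * e ∧ w * e = e * w ∧ u ∈ E ∧ w * u = u * w ∧
      u * e = e * u * z := by
  obtain ⟨y, hy, hyU⟩ := F.exists_moved hw hV
  have hwi := inv_sq h2
  set y' := w * y * w⁻¹ with hy'
  have hy'E := F.conj_InE1 hw hy
  set d := y⁻¹ * y' with hd
  have hdE : InE1 a E d := F.E1_mul (F.E1_inv hy) hy'E
  have hyn : ¬ InU z a y := fun h => hyU (F.U_mul (F.U_inv h) (F.conj_U hw h))
  have hy'n : ¬ InU z a y' := fun h => hyn (by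
    have := F.conj_U hw h
    rwa [hy', hwi, show w * (w * y * w) * w = (w * w) * y * (w * w) by group, h2, one_mul, mul_one] at this)
  have hdd := F.sq_eq_z hdE hyU
  have hwy' : w * y' * w⁻¹ = y := by
    rw [hy', hwi, show w * (w * y * w) * w = (w * w) * y * (w * w) by group, h2, one_mul, mul_one]
  have hwd : w * d * w⁻¹ = d * z := by
    have e : w * d * w⁻¹ = d⁻¹ := by
      rw [hd, cj_mul, show w * y⁻¹ * w⁻¹ = y'⁻¹ by simp only [y']; group, hwy']; group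
    rw [e]
    exact inv_eq_of_mul_eq_one_right (by rw [← mul_assoc, hdd, F.B.zz])
  obtain ⟨b, hb, hba⟩ := F.exists_b
  have hbw := F.B.norm w hw b hb
  have nba : ∀ p, InE1 a E p → b * p * a ≠ a * (b * p) := fun p hp e => hba (mul_right_cancel (b := p) (by
    rw [mul_assoc b a p, ← hp.2, ← mul_assoc, e, mul_assoc]))
  have hwa := F.fix w hw
  set k := b⁻¹ * (w * b * w⁻¹) with hk
  have hkE : InE1 a E k := by
    refine ⟨E.mul_mem (E.inv_mem hb) hbw, cj_iff.1 ?_⟩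
    have h1 : b * a * b⁻¹ = a * z := (F.B.conjE hb F.A.mem).resolve_left fun e => hba (cj_iff.1 e)
    have h2' : w * b * w⁻¹ * a * (w * b * w⁻¹)⁻¹ = a * z := by
      have e : w * b * w⁻¹ * (w * a * w⁻¹) * (w * b * w⁻¹)⁻¹ = w * a * w⁻¹ * z := by
        rw [show w * b * w⁻¹ * (w * a * w⁻¹) * (w * b * w⁻¹)⁻¹ = w * (b * a * b⁻¹) * w⁻¹ by group, h1, cj_mul,
          cj_iff.2 hw]
      rcases hwa with e' | e' <;> rw [e'] at e
      · exact e
      · rw [cj_mul (w * b * w⁻¹) a z, cj_iff.2 (F.B.Ez _ hbw)] at e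
        exact mul_right_cancel e
    rw [cj_cj, h2', ← h1]
    group
  -- reach an element fixed modulo `⟨z, a⟩`
  obtain ⟨b', hb', hb'a, hb'U⟩ : ∃ b', b' ∈ E ∧ b' * a ≠ a * b' ∧ InU z a (b'⁻¹ * (w * b' * w⁻¹)) := by
    by_cases hkU : InU z a k
    · exact ⟨b, hb, hba, hkU⟩
    have hwk : InU z a (k⁻¹ * (w * k * w⁻¹)) := by
      have e : w * k * w⁻¹ = k⁻¹ := by
        simp only [k, hwi]
        rw [show w * (b⁻¹ * (w * b * w)) * w = (w * b⁻¹ * w) * b * (w * w) by group, h2, mul_one,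
          show (b⁻¹ * (w * b * w))⁻¹ = w⁻¹ * b⁻¹ * w⁻¹ * b by group, hwi]
      rw [e, show k⁻¹ * k⁻¹ = (k * k)⁻¹ by group, F.sq_eq_z hkE hkU, inv_sq F.B.zz]
      exact Or.inr (Or.inl rfl)
    have hkd : InU z a (d⁻¹ * k) := by
      rcases F.cosets hy hy'E hyn hy'n hyU hkE with h | h | h | h
      · exact absurd h hkU
      · exfalso
        refine hyU ?_
        have := F.conj_U hw h
        rw [cj_mul, show w * y⁻¹ * w⁻¹ = y'⁻¹ by simp only [y']; group] at this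
        exact F.U_trans (F.U_trans h (F.U_symm (F.U_symm hwk))) (F.U_symm this)
      · exfalso
        refine hyU ?_
        have := F.conj_U hw h
        rw [cj_mul, show w * y'⁻¹ * w⁻¹ = (w * y' * w⁻¹)⁻¹ by group, hwy'] at this
        exact F.U_trans (F.U_trans this (F.U_symm hwk)) (F.U_symm h)
      · refine F.U_trans ?_ h
        rw [hd, show (y⁻¹ * y')⁻¹ * (y * y') = y'⁻¹ * (y * y) * y' by group, F.sq_eq_z hy hyn, mul_assoc,
          ← F.B.Ez y' hy'E.1, inv_mul_cancel_left]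
        exact Or.inr (Or.inl rfl)
    refine ⟨b * y, E.mul_mem hb hy.1, nba y hy, ?_⟩
    have e : (b * y)⁻¹ * (w * (b * y) * w⁻¹) = y⁻¹ * k * y' := by simp only [k, y']; group
    rw [e]
    obtain ⟨u, hu, hku⟩ : ∃ u, InU z a u ∧ k = d * u := ⟨_, hkd, by group⟩
    rw [hku]
    rw [show y⁻¹ * (d * u) * y' = y⁻¹ * d * (u * y') by group, ← F.U_comm hu (F.E1_C hy'E),
      show y⁻¹ * d * (y' * u) = y⁻¹ * y⁻¹ * (y' * y') * u by simp only [d]; group,
      show y⁻¹ * y⁻¹ = (y * y)⁻¹ by group, F.sq_eq_z hy hyn, F.sq_eq_z hy'E hy'n, inv_mul_cancel, one_mul]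
    exact hu
  have hwb : w * b' * w⁻¹ = b' ∨ w * b' * w⁻¹ = b' * z := by
    set u := b'⁻¹ * (w * b' * w⁻¹) with hu
    have e : w * b' * w⁻¹ = b' * u := by rw [hu]; group
    have hsq : b' * u * (b' * u) = b' * b' := by
      rw [← e, ← cj_mul]
      rcases F.B.sq b' hb' with h | h <;> rw [h]
      · group
      · exact cj_iff.2 hw
    have hbA := (F.B.comm b' hb' a F.A.mem).resolve_left hb'a
    rw [e]
    rcases hb'U with h | h | h | h <;> rw [h] at hsq ⊢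
    · exact Or.inl (mul_one b')
    · exact Or.inr rfl
    · exfalso
      rw [F.B.flip F.A hb' hb'a] at hsq
      exact F.B.z1 (mul_eq_left.1 hsq)
    · exfalso
      rw [show b' * (a * z) * (b' * (a * z)) = b' * a * z * (b' * a * z) by group,
        F.B.sq_mul_z (E.mul_mem hb' F.A.mem), F.B.flip F.A hb' hb'a] at hsq
      exact F.B.z1 (mul_eq_left.1 hsq)
  obtain ⟨c, hc, hca, hwc⟩ : ∃ c, c ∈ E ∧ c * a ≠ a * c ∧ w * c * w⁻¹ = c := by
    rcases hwb with h | h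
    · exact ⟨b', hb', hb'a, h⟩
    · refine ⟨b' * d, E.mul_mem hb' hdE.1, fun e => hb'a (mul_right_cancel (b := d) ?_), ?_⟩
      · rw [mul_assoc b' a d, ← hdE.2, ← mul_assoc, e, mul_assoc]
      · rw [cj_mul, h, hwd, show b' * z * (d * z) = b' * (z * d) * z by group, ← F.B.Ez d hdE.1,
          ← mul_assoc b', F.B.z_mul_z]
  have hcd : c * d = d * c := by
    rcases F.B.conjE hc hy.1 with h | h
    · have e : c * y' * c⁻¹ = y' := by
        calc c * y' * c⁻¹ = (w * c * w⁻¹) * (w * y * w⁻¹) * (w * c * w⁻¹)⁻¹ := by rw [hwc]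
          _ = w * (c * y * c⁻¹) * w⁻¹ := by group
          _ = y' := by rw [h]
      refine cj_iff.1 ?_
      rw [hd, cj_mul, show c * y⁻¹ * c⁻¹ = (c * y * c⁻¹)⁻¹ by group, h, e]
    · have e : c * y' * c⁻¹ = y' * z := by
        calc c * y' * c⁻¹ = (w * c * w⁻¹) * (w * y * w⁻¹) * (w * c * w⁻¹)⁻¹ := by rw [hwc]
          _ = w * (c * y * c⁻¹) * w⁻¹ := by group
          _ = y' * z := by rw [h, cj_mul, cj_iff.2 hw]
      refine cj_iff.1 ?_
      rw [hd, cj_mul, show c * y⁻¹ * c⁻¹ = (c * y * c⁻¹)⁻¹ by group, h, e, mul_inv_rev, inv_sq F.B.zz,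
        show z * y⁻¹ * (y' * z) = z * (y⁻¹ * y' * z) by group, F.B.Ez _ hdE.1, ← mul_assoc, F.B.zz, one_mul]
  obtain ⟨u, hu, hwu, hua⟩ : ∃ u, InE1 a E u ∧ w * u * w⁻¹ = u ∧ c * u * c⁻¹ = u * z := by
    have hcA : c * a * c⁻¹ = a * z := (F.B.conjE hc F.A.mem).resolve_left fun e => hca (cj_iff.1 e)
    rcases hwa with e | e
    · exact ⟨a, ⟨F.A.mem, rfl⟩, e, hcA⟩
    · refine ⟨a * d, F.E1_mul ⟨F.A.mem, rfl⟩ hdE, ?_, ?_⟩
      · rw [cj_mul, e, hwd, show a * z * (d * z) = a * (z * d) * z by group, ← F.B.Ez d hdE.1,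
          ← mul_assoc a, F.B.z_mul_z]
      · rw [cj_mul, hcA, cj_iff.2 hcd, mul_assoc, ← F.B.Ez d hdE.1, ← mul_assoc]
  have huc : u * c = c * u * z := by
    have e : u * z * c = c * u := by rw [← hua]; group
    rw [← e, mul_assoc u z c, ← F.B.Ez c hc, ← mul_assoc u c z, F.B.z_mul_z]
  rcases F.B.sq c hc with h | h
  · exact ⟨c, u, hc, Or.inl h, hca, cj_iff.1 hwc, hu.1, cj_iff.1 hwu, huc⟩
  · rcases hwa with e | e
    · refine ⟨c * a, u, E.mul_mem hc F.A.mem, Or.inl (by rw [F.B.flip F.A hc hca, h, F.B.zz]), fun e' => hca ?_,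
        cj_iff.1 (by rw [cj_mul, hwc, e]), hu.1, cj_iff.1 hwu, ?_⟩
      · exact mul_right_cancel (b := a) (by rw [e', mul_assoc])
      · calc u * (c * a) = u * c * a := (mul_assoc _ _ _).symm
          _ = c * (u * (a * z)) := by rw [huc, mul_assoc (c * u) z a, ← F.az]; group
          _ = c * (u * a) * z := by group
          _ = c * a * u * z := by rw [hu.2]; group
    · exact ⟨c, u, hc, Or.inr fun e' => F.B.xz_ne (e.symm.trans (cj_iff.2 e')), hca, cj_iff.1 hwc, hu.1,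
        cj_iff.1 hwu, huc⟩

end Frame

namespace Frame

variable (F : Frame z a E ψ) (D : TData z a E ψ x m l₀ l₁)
include F D

/-- An involution outside `C(a)` and over the four-group lies in `E`. -/
theorem outC_E {w : G} (hw : w * z = z * w) (h2 : w * w = 1) (hV : InV (ψ w)) (hwa : w * a ≠ a * w) :
    w ∈ E := by
  by_contra hwE
  obtain ⟨b, hb, hba⟩ := F.exists_b
  have hwa' := (F.fix w hw).resolve_left fun e => hwa (cj_iff.1 e)
  have hba' := (F.B.conjE hb F.A.mem).resolve_left fun e => hba (cj_iff.1 e)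
  have hbz := F.B.Ez b hb
  have htT : InT z a ψ (w * b) := by
    refine ⟨⟨mul_comm' hw hbz, cj_iff.1 ?_⟩, ?_⟩
    · rw [cj_cj, hba', cj_mul, hwa', cj_iff.2 hw, F.B.z_mul_z]
    · rw [F.B.ψ_mul _ _ hw hbz, (F.B.ψ_ker b hbz).2 hb, mul_one]; exact hV
  have htE : w * b ∉ E := fun h => hwE (by simpa using E.mul_mem h (E.inv_mem hb))
  refine F.b_moves D hb hba htT htE ?_
  have ht2 := F.T_sq htT
  rw [show b * (w * b) * b⁻¹ = b * w by group]
  have e2 : (w * b)⁻¹ * (b * w) = b⁻¹ * (w * b * (w * b)) * b⁻¹ := by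
    rw [show b⁻¹ * (w * b * (w * b)) * b⁻¹ = b⁻¹ * w * b * w * (b * b⁻¹) by group, mul_inv_cancel, mul_one,
      mul_inv_rev, inv_sq h2]
    group
  rw [e2, show b⁻¹ * (w * b * (w * b)) * b⁻¹ =
    b⁻¹ * (w * b * (w * b)) * b⁻¹⁻¹ * (b * b)⁻¹ by group]
  refine F.U_mul (F.conj_U (inv_comm' hbz) ht2) (F.U_inv ?_)
  rcases F.B.sq b hb with h | h <;> rw [h]
  exacts [Or.inl rfl, Or.inr (Or.inl rfl)]

/-- `z` is a commutator in the centraliser of every involution. -/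
theorem exists_comm {w : G} (hw : w * z = z * w) (h2 : w * w = 1) :
    ∃ u v, u * z = z * u ∧ v * z = z * v ∧ u * w = w * u ∧ v * w = w * v ∧ u * v = v * u * z := by
  by_cases hwE : w ∈ E
  · -- two non-commuting elements of `E` centralising `w`
    have hb : ∀ K : Subgroup G, K ≤ E → 16 ≤ Nat.card K → ∃ u ∈ K, ∃ v ∈ K, u * v = v * u * z := by
      intro K hK h16
      by_contra hc
      push Not at hc
      have := F.B.no16 K hK fun p hp q hq => (F.B.comm p (hK hp) q (hK hq)).resolve_right (hc p hp q hq)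
      omega
    by_cases hw1 : w = 1 ∨ w = z
    · obtain ⟨u, hu, v, hv, huv⟩ := hb E le_rfl (by rw [F.B.card]; norm_num)
      refine ⟨u, v, F.B.Ez u hu, F.B.Ez v hv, ?_, ?_, huv⟩ <;> rcases hw1 with rfl | rfl
      exacts [by simp, F.B.Ez u hu, by simp, F.B.Ez v hv]
    · push Not at hw1
      obtain ⟨u, hu, v, hv, huv⟩ := hb (E ⊓ Subgroup.centralizer ({w} : Set G)) inf_le_left
        (F.B.card_cent hwE hw1.1 hw1.2).ge
      exact ⟨u, v, F.B.Ez u hu.1, F.B.Ez v hv.1, mem_cent.1 hu.2, mem_cent.1 hv.2, huv⟩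
  by_cases hV : InV (ψ w)
  · obtain ⟨b, hb, hba⟩ := F.exists_b
    by_cases hwa : w * a = a * w
    · -- an involution of `T` outside `E`
      have hwT : InT z a ψ w := ⟨⟨hw, hwa⟩, hV⟩
      have hwU : ¬ InU z a w := fun h => hwE (F.U_E h).1
      obtain ⟨c, hc, e⟩ := F.invol_conj D hwT h2 hwU
      have hbz := F.B.Ez b hb
      have h2' : b * w * b⁻¹ * (b * w * b⁻¹) = 1 := by rw [← cj_mul, h2]; group
      have hwT' : InT z a ψ (b * w * b⁻¹) := by
        refine ⟨⟨F.B.zcj hbz hw, cj_iff.1 ?_⟩, by rw [F.B.ψ_conj hbz hw]; exact inV_conj _ _ hV⟩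
        have hba' := (F.B.conjE hb F.A.mem).resolve_left fun e => hba (cj_iff.1 e)
        have hbia : b⁻¹ * a * b⁻¹⁻¹ = a * z := by
          calc b⁻¹ * a * b⁻¹⁻¹ = b⁻¹ * (a * z * z) * b⁻¹⁻¹ := by rw [F.B.z_mul_z]
            _ = b⁻¹ * (b * a * b⁻¹ * z) * b⁻¹⁻¹ := by rw [hba']
            _ = a * (b⁻¹ * z * b⁻¹⁻¹) := by group
            _ = a * z := by rw [cj_iff.2 (F.B.Ez _ (E.inv_mem hb))]
        rw [cj_cj (b * w) b⁻¹, cj_cj b w, hbia, cj_mul w a z, cj_iff.2 hwa, cj_iff.2 hw, cj_mul b a z, hba',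
          cj_iff.2 hbz, F.B.z_mul_z]
      obtain ⟨c', hc', e'⟩ := F.invol_conj D hwT' h2' fun h => hwU (by
        have := F.conj_U (inv_comm' hbz) h
        rwa [show b⁻¹ * (b * w * b⁻¹) * b⁻¹⁻¹ = w by group] at this)
      refine ⟨c * c'⁻¹ * b, a, mul_comm' (F.C_mul hc (F.C_inv hc')).1 hbz, F.az, cj_iff.1 ?_, hwa.symm, ?_⟩
      · rw [cj_cj (c * c'⁻¹) b, ← e', cj_cj c c'⁻¹,
          show c'⁻¹ * (c' * (m * l₁) * c'⁻¹) * c'⁻¹⁻¹ = m * l₁ by group, e]
      · have hcc := F.C_mul hc (F.C_inv hc')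
        have h1 : b * a = a * b * z := (F.B.comm b hb a F.A.mem).resolve_left hba
        calc c * c'⁻¹ * b * a = c * c'⁻¹ * (a * b * z) := by rw [← h1]; group
          _ = (c * c'⁻¹ * a) * b * z := by group
          _ = _ := by rw [hcc.2]; group
    · exact absurd (F.outC_E D hw h2 hV fun e => hwa e) hwE
  · obtain ⟨e, u, he, -, -, hwe, hu, hwu, hue⟩ := F.outer_pair hw h2 hV
    exact ⟨u, e, F.B.Ez u hu, F.B.Ez e he, hwu.symm, hwe.symm, hue⟩

/-- Conjugates of `z` commuting with it lie in `T`. -/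
theorem fused_T {g : G} (hw : g * z * g⁻¹ * z = z * (g * z * g⁻¹)) : InT z a ψ (g * z * g⁻¹) := by
  have hw' : g⁻¹ * z * g * z = z * (g⁻¹ * z * g) := by
    calc g⁻¹ * z * g * z = g⁻¹ * (z * (g * z * g⁻¹)) * g := by group
      _ = g⁻¹ * (g * z * g⁻¹ * z) * g := by rw [hw]
      _ = _ := by group
  obtain ⟨u, v, hu, hv, hu', hv', huv⟩ := F.exists_comm D hw' (by
    rw [show g⁻¹ * z * g * (g⁻¹ * z * g) = g⁻¹ * (z * z) * g by group, F.B.zz]; group)
  have zc : ∀ p, p * (g⁻¹ * z * g) = g⁻¹ * z * g * p → g * p * g⁻¹ * z = z * (g * p * g⁻¹) := by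
    intro p hp
    calc g * p * g⁻¹ * z = g * (p * (g⁻¹ * z * g)) * g⁻¹ := by group
      _ = _ := by rw [hp]; group
  have hUz := zc u hu'
  have hVz := zc v hv'
  set w := g * z * g⁻¹ with hwd
  set U' := g * u * g⁻¹ with hU'
  set V' := g * v * g⁻¹ with hV'
  have hUV : U' * V' = V' * U' * w := by
    simp only [U', V', w]
    rw [← cj_mul, ← cj_mul, ← cj_mul, huv]
  have hw2 : w * w = 1 := by
    simp only [w]
    rw [← cj_mul, F.B.zz]; group
  have hzw := hw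
  have hC : InC z a w := by
    refine ⟨hzw, cj_iff.1 ?_⟩
    have e : U' * V' * a * (U' * V')⁻¹ = V' * U' * w * a * (V' * U' * w)⁻¹ := by rw [hUV]
    rw [cj_cj U' V', cj_cj (V' * U') w, cj_cj V' U'] at e
    have sU := F.fix U' hUz
    have sV := F.fix V' hVz
    have sw := F.fix w hzw
    refine sw.resolve_right fun sw => ?_
    rw [sw, cj_mul U' a z, cj_iff.2 hUz] at e
    rcases sU with s | s <;> rw [s] at e <;> rcases sV with s' | s' <;> rw [s'] at e
    all_goals simp only [cj_mul, cj_iff.2 hUz, cj_iff.2 hVz, s, s', F.B.z_mul_z] at e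
    all_goals first
      | exact F.B.xz_ne e
      | exact F.B.xz_ne e.symm
  refine ⟨hC, ?_⟩
  have hψ : ψ U' * ψ V' = ψ V' * ψ U' * ψ w := by
    rw [← F.B.ψ_mul _ _ hUz hVz, hUV, F.B.ψ_mul _ _ (mul_comm' hVz hUz) hzw, F.B.ψ_mul _ _ hVz hUz]
  refine ⟨by rw [← F.B.ψ_mul _ _ hzw hzw, hw2, F.B.ψ_one], ?_⟩
  have := congrArg Equiv.Perm.sign hψ
  rw [map_mul, map_mul, map_mul, mul_comm (Equiv.Perm.sign (ψ V'))] at this
  exact mul_eq_left.1 this.symm

end Frame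

end Cfsg.Agent.L34Aut
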