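import Cfsg.Agent.Lib.L34Aut.Central

/-!
An element `y` of order three centralising `x` and permuting `z, a, az`, and an involution `g` of `C(⟨z, a⟩)`
inverting `x`, centralising `y` and fixing only `⟨z, a⟩` in `T`.
-/

set_option autoImplicit false
set_option linter.style.haveILetI false
set_option linter.unusedSectionVars false
set_option linter.unusedVariables false
set_option synthInstance.maxHeartbeats 400000
set_option synthInstance.maxSize 4000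

namespace Cfsg.Agent.L34Aut

theorem three_conj : ∀ θ σ : S4, θ ^ 3 = 1 → θ ≠ 1 → σ ^ 3 = 1 → σ ≠ 1 →
    ∃ γ : S4, γ * σ * γ⁻¹ = θ := by decide +kernel

theorem inv_sq_one : ∀ θ γ : S4, θ ^ 3 = 1 → θ ≠ 1 → γ * θ * γ⁻¹ = θ⁻¹ →
    γ * γ = 1 ∧ ¬ InV γ ∧ Equiv.Perm.sign γ = -1 := by decide +kernel

theorem cent_three : ∀ θ σ : S4, θ ^ 3 = 1 → θ ≠ 1 → σ * θ = θ * σ → σ = 1 ∨ σ = θ ∨ σ = θ * θ := by
  decide +kernel

theorem cent_swap : ∀ θ γ σ : S4, θ ^ 3 = 1 → θ ≠ 1 → γ * θ * γ⁻¹ = θ⁻¹ → σ * γ = γ * σ →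
    InV σ ∨ InV (σ * γ) := by decide +kernel

universe u

variable {G : Type u} [Group G] [Finite G] {z a x m l₀ l₁ : G} {E : Subgroup G} {ψ : G → S4}

/-- An element of order three permuting `z, a, az` cyclically and centralising `x`, and an involution. -/
structure Pair (z a x : G) (ψ : G → S4) (y g : G) : Prop where
  y3 : y ^ 3 = 1
  yx : y * x = x * y
  yz : y * z * y⁻¹ = a
  ya : y * a * y⁻¹ = a * z
  gC : InC z a g
  g2 : g * g = 1
  gx : g * x * g⁻¹ = x⁻¹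
  gy : g * y = y * g
  gT : ∀ t, InT z a ψ t → g * t = t * g → InU z a t
  gψ : ψ g * ψ x * (ψ g)⁻¹ = (ψ x)⁻¹

namespace Frame

variable (F : Frame z a E ψ) (D : TData z a E ψ x m l₀ l₁)
include F D

theorem E1_fixed {q : G} (hq : InE1 a E q) (h : x * q * x⁻¹ = q) : InU z a q := by
  by_contra hU
  exact F.x_moves D.X hq hU (by rw [h, inv_mul_cancel]; exact Or.inl rfl)

theorem E1_order {q : G} (hq : InE1 a E q) (h : q ^ 3 = 1) : q = 1 := by
  have h4 : q ^ 4 = 1 := by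
    rw [show q ^ 4 = q * q * (q * q) by simp [pow_succ, mul_assoc]]
    rcases F.B.sq q hq.1 with e | e <;> rw [e]
    exacts [one_mul 1, F.B.zz]
  rwa [pow_succ, h, one_mul] at h4

/-- Elements of order three over `ψ x` are conjugate to `x` under `E ∩ C(a)`. -/
theorem three_conj_x {p : G} (hp : InC z a p) (h3 : p ^ 3 = 1) (hθ : ψ p = ψ x) :
    ∃ q, InE1 a E q ∧ p = q * x * q⁻¹ := by
  have hxC := D.X.C
  set k := p * x⁻¹ with hk
  have hkC := F.C_mul hp (F.C_inv hxC)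
  have hkE : InE1 a E k := ⟨(F.B.ψ_ker k hkC.1).1 (by
    rw [hk, F.B.ψ_mul _ _ hp.1 (inv_comm' hxC.1), F.B.ψ_inv hxC.1, hθ, mul_inv_cancel]), hkC.2⟩
  set q := x * k * x⁻¹ with hq
  have hqE := F.E1_conj hxC hkE
  -- the commutator of `q` and `x` has the class of `k`
  set c := q * x * q⁻¹ * x⁻¹ with hc
  have hcE : InE1 a E c := by
    have := F.E1_mul hqE (F.E1_conj hxC (F.E1_inv hqE))
    rwa [show q * (x * q⁻¹ * x⁻¹) = c by simp only [c]; group] at this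
  have hcls : InU z a (c⁻¹ * k) := by
    set k1 := x * k * x⁻¹
    set k2 := x * x * k * (x * x)⁻¹
    have htri := F.triple D (F.E1_T hkE)
    have e : c = k1 * k2⁻¹ := by
      simp only [c, q, k1, k2]; group
    have h2 : InE1 a E k2 := F.E1_conj (F.C_mul hxC hxC) hkE
    have h1 : InE1 a E k1 := hqE
    obtain ⟨u, hu, eu⟩ := F.T_comm (F.E1_T h1) (F.E1_T h2)
    obtain ⟨u', hu', eu'⟩ := F.T_comm (F.E1_T hkE) (F.E1_T (F.E1_mul h2 h1))
    have hk1 := F.T_sq (F.E1_T h1)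
    have e2 : k2 * k1 * k = k * k1 * k2 * (u⁻¹ * u'⁻¹) := by
      calc k2 * k1 * k = k * (k2 * k1) * u'⁻¹ := by rw [eu']; group
        _ = k * (k1 * k2 * u⁻¹) * u'⁻¹ := by rw [eu]; group
        _ = _ := by group
    have e3 : k2 * k1⁻¹ * k = k2 * k1 * k * (k1 * k1)⁻¹ := by
      have hc := F.U_comm (F.U_inv hk1) (F.E1_C hkE)
      calc k2 * k1⁻¹ * k = k2 * k1 * ((k1 * k1)⁻¹ * k) := by group
        _ = _ := by rw [← hc]; group
    rw [e, show (k1 * k2⁻¹)⁻¹ * k = k2 * k1⁻¹ * k by group, e3, e2]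
    exact F.U_mul (F.U_mul htri (F.U_mul (F.U_inv hu) (F.U_inv hu'))) (F.U_inv hk1)
  refine ⟨q, hqE, ?_⟩
  set u := c⁻¹ * k
  have hp' : p = q * x * q⁻¹ * u := by
    have hcu := F.U_comm hcls hxC
    calc p = c * u * x := by simp only [c, u, k]; group
      _ = c * (x * u) := by rw [mul_assoc, hcu]
      _ = _ := by simp only [c]; group
  have hC := F.C_conj (F.E1_C hqE) hxC
  have hu1 : u = 1 := by
    have hcu := F.U_comm hcls hC
    have e3 : p ^ 3 = (q * x * q⁻¹) ^ 3 * u ^ 3 := by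
      rw [hp']; exact (show Commute (q * x * q⁻¹) u from hcu).mul_pow 3
    rw [h3, conj_pow, D.X.x3, mul_one, mul_inv_cancel, one_mul,
      show u ^ 3 = u * u * u by simp [pow_succ], F.U_sq hcls, one_mul] at e3
    exact e3.symm
  rw [hp', hu1, mul_one]

/-- Any element normalising `⟨z, a⟩` may be corrected to centralise `x`. -/
theorem cent_x {h : G} (hh : ∀ u, InU z a u → InU z a (h * u * h⁻¹)) :
    ∃ c, InC z a c ∧ (c * h) * x = x * (c * h) := by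
  have hxC := D.X.C
  have hh' : ∀ u, InU z a u → InU z a (h⁻¹ * u * h⁻¹⁻¹) := fun u hu => by
    rw [inv_inv]; exact F.norm_U_inv hh u hu
  set p := h * x * h⁻¹ with hp
  have hpC : InC z a p := by
    have := F.norm_C D hh' hxC
    rwa [inv_inv] at this
  have hp3 : p ^ 3 = 1 := by rw [conj_pow, D.X.x3]; group
  have hσ3 : ψ p ^ 3 = 1 := by rw [← F.ψ_pow hpC.1, hp3, F.B.ψ_one]
  have hσ1 : ψ p ≠ 1 := fun e => F.x_ne_one D (conj_eq_one_iff.1
    (F.E1_order D ⟨(F.B.ψ_ker p hpC.1).1 e, hpC.2⟩ hp3))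
  obtain ⟨γ, hγ⟩ := three_conj (ψ x) (ψ p) D.X.θ3 D.X.θ1 hσ3 hσ1
  obtain ⟨c, hc, rfl⟩ := F.ψ_surjC γ
  obtain ⟨q, hq, e⟩ := F.three_conj_x D (F.C_conj hc hpC) (by rw [conj_pow, hp3]; group)
    (by rw [F.B.ψ_conj hc.1 hpC.1, hγ])
  refine ⟨q⁻¹ * c, F.C_mul (F.C_inv (F.E1_C hq)) hc, cj_iff.1 ?_⟩
  rw [show q⁻¹ * c * h * x * (q⁻¹ * c * h)⁻¹ = q⁻¹ * (c * p * c⁻¹) * q⁻¹⁻¹ by rw [hp]; group, e]
  group

/-- An element exchanging two classes cannot fix the involution `m l₁`. -/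
theorem no_fix_v (hm : m * m = a * z) {r : G} (hr : InC z a r) (hV : ¬ InV (ψ r))
    (hfix : r * (m * l₁) = m * l₁ * r) : False := by
  obtain ⟨hvT, hv2, hvE⟩ := F.v_facts D hm
  set v := m * l₁ with hv
  have hψ : ψ r * ψ m * (ψ r)⁻¹ = ψ m := by
    have hm1 : ψ v = ψ m := by
      rw [hv, F.B.ψ_mul _ _ D.m_T.1.1 (F.B.Ez _ D.h₁.1), (F.B.ψ_ker _ (F.B.Ez _ D.h₁.1)).2 D.h₁.1, mul_one]
    rw [← hm1, ← F.B.ψ_mul _ _ hr.1 hvT.1.1, hfix, F.B.ψ_mul _ _ hvT.1.1 hr.1, mul_inv_cancel_right]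
  obtain ⟨h1, -, h3⟩ := F.swap_classes D (g := r) hr
    (comm_odd _ _ _ D.X.θ3 D.X.θ1 (F.ψm D).1 (F.ψm D).2 hψ hV) hψ
  have e : r * v * r⁻¹ = v := cj_iff.2 hfix
  have h4 : InU z a ((l₀ * l₁)⁻¹ * l₁) := by
    have hcomm : (m⁻¹ * (r * m * r⁻¹)) * (r * l₁ * r⁻¹) = (r * l₁ * r⁻¹) * (m⁻¹ * (r * m * r⁻¹)) :=
      (F.U_comm h1 (F.C_conj hr (F.E1_C D.h₁))).symm
    have : l₁ = m⁻¹ * (r * m * r⁻¹) * (r * l₁ * r⁻¹) := by
      rw [mul_assoc, ← cj_mul, ← hv, e, hv]; group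
    rw [hcomm] at this
    have h' := F.U_mul h3 h1
    rw [mul_assoc] at h'
    rwa [← this] at h'
  refine D.n₀ ?_
  have h5 := F.U_inv h4
  rw [show ((l₀ * l₁)⁻¹ * l₁)⁻¹ = l₁⁻¹ * l₀ * l₁ by group] at h5
  have h6 := F.U_conj (F.E1_C D.h₁) h5
  rw [show l₁ * (l₁⁻¹ * l₀ * l₁) * l₁⁻¹ = l₀ by group] at h6
  rwa [h6]

theorem exists_pair (hm : m * m = a * z) (hza : ∃ g, g * z * g⁻¹ = a) : ∃ y g, Pair z a x ψ y g := by
  have hxC := D.X.C
  obtain ⟨g₀, hg₀⟩ := hza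
  have hN := F.norm_U D hg₀
  have az2 : ∀ w, w * z * w⁻¹ = a → ∀ p, InC z a p → (p * w) * z * (p * w)⁻¹ = a := fun w hw p hp => by
    rw [cj_cj, hw, cj_iff.2 hp.2]
  obtain ⟨c, hc, hcx⟩ := F.cent_x D hN
  set g₂ := c * g₀ with hg₂
  have h2z : g₂ * z * g₂⁻¹ = a := az2 g₀ hg₀ c hc
  have hN2 := F.norm_U D h2z
  -- a cyclic permutation
  obtain ⟨y, hyx, hyz, hya⟩ : ∃ y, y * x = x * y ∧ y * z * y⁻¹ = a ∧ y * a * y⁻¹ = a * z := by
    have hb0 : ∀ h, h * z = z * h → (∀ u, InU z a u → InU z a (h * u * h⁻¹)) := fun h hh u hu => F.conj_U hh hu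
    obtain ⟨b, hbz, hba⟩ := F.exists_conj_az
    rcases hN2 a (Or.inr (Or.inr (Or.inl rfl))) with h | h | h | h
    · exact absurd (conj_eq_one_iff.1 h) F.A.ne1
    · obtain ⟨c', hc', hc'x⟩ := F.cent_x D (hb0 b hbz)
      set b' := c' * b
      have hb'z : b' * z = z * b' := mul_comm' hc'.1 hbz
      have hb'a : b' * a * b'⁻¹ = a * z := by
        rw [cj_cj, hba, cj_mul, cj_iff.2 hc'.2, cj_iff.2 hc'.1]
      -- `g₂` exchanges `z` and `a`
      refine ⟨g₂ * b', mul_comm' hcx hc'x, ?_, ?_⟩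
      · rw [cj_cj, cj_iff.2 hb'z, h2z]
      · rw [cj_cj, hb'a, cj_mul, h, h2z, F.az]
    · exact absurd (cj_inj (a := g₂) (h.trans h2z.symm)) F.A.nez
    · exact ⟨g₂, hcx, h2z, h⟩
  have hazA : y * (a * z) * y⁻¹ = z := by
    rw [cj_mul, hyz, hya, F.az, mul_assoc, F.A.sq, mul_one]
  have hyU : ∀ u, InU z a u → y * u * y⁻¹ = u → u = 1 := by
    intro u hu e
    rcases hu with rfl | rfl | rfl | rfl
    · rfl
    · exact absurd (hyz.symm.trans e) F.A.nez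
    · exact absurd (mul_eq_left.1 (hya.symm.trans e)) F.B.z1
    · exact absurd (hazA.symm.trans e).symm (F.B.nci_mul_z F.A).nez
  -- elements of `C` centralising `x`
  have cx : ∀ h, InC z a h → h * x = x * h → ∃ u, InU z a u ∧ (h = u ∨ h = u * x ∨ h = u * (x * x)) := by
    intro h hh hhx
    rcases cent_three (ψ x) (ψ h) D.X.θ3 D.X.θ1
      (by rw [← F.B.ψ_mul _ _ hh.1 hxC.1, hhx, F.B.ψ_mul _ _ hxC.1 hh.1]) with e | e | e
    · exact ⟨h, F.E1_fixed D ⟨(F.B.ψ_ker h hh.1).1 e, hh.2⟩ (cj_iff.2 hhx.symm), Or.inl rfl⟩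
    · refine ⟨h * x⁻¹, F.E1_fixed D ⟨(F.B.ψ_ker _ (F.C_mul hh (F.C_inv hxC)).1).1 ?_,
        (F.C_mul hh (F.C_inv hxC)).2⟩ ?_, Or.inr (Or.inl (by group))⟩
      · rw [F.B.ψ_mul _ _ hh.1 (F.C_inv hxC).1, F.B.ψ_inv hxC.1, e, mul_inv_cancel]
      · rw [show x * (h * x⁻¹) * x⁻¹ = x * h * x⁻¹ * x⁻¹ by group, ← hhx]; group
    · have hxx := F.C_mul hxC hxC
      refine ⟨h * (x * x)⁻¹, F.E1_fixed D ⟨(F.B.ψ_ker _ (F.C_mul hh (F.C_inv hxx)).1).1 ?_,
        (F.C_mul hh (F.C_inv hxx)).2⟩ ?_, Or.inr (Or.inr (by group))⟩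
      · rw [F.B.ψ_mul _ _ hh.1 (F.C_inv hxx).1, F.B.ψ_inv hxx.1, F.B.ψ_mul _ _ hxC.1 hxC.1, e, mul_inv_cancel]
      · rw [show x * (h * (x * x)⁻¹) * x⁻¹ = x * h * (x * x)⁻¹ * x⁻¹ by group, ← hhx]; group
  have hx3 : x * x * x = 1 := by rw [← D.X.x3]; simp [pow_succ, mul_assoc]
  have y3C : InC z a (y ^ 3) := by
    have e : y ^ 3 = y * y * y := by simp [pow_succ]
    constructor
    · refine cj_iff.1 ?_
      rw [e, cj_cj, hyz, cj_cj, hya, hazA]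
    · refine cj_iff.1 ?_
      rw [e, cj_cj, hya, cj_cj, hazA, hyz]
  obtain ⟨u, hu, hy3⟩ := cx _ y3C ((show Commute y x from hyx).pow_left 3).eq
  have hu1 : u = 1 := hyU u hu (cj_iff.2 (by
    have hy : y * y ^ 3 = y ^ 3 * y := (pow_mul_comm' y 3).symm
    rcases hy3 with e | e | e <;> rw [e] at hy
    · exact hy
    · refine mul_right_cancel (b := x) ?_
      calc y * u * x = u * x * y := by rw [mul_assoc]; exact hy
        _ = u * y * x := by rw [mul_assoc, ← hyx, ← mul_assoc]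
    · refine mul_right_cancel (b := x * x) ?_
      calc y * u * (x * x) = u * (x * x) * y := by rw [mul_assoc]; exact hy
        _ = u * y * (x * x) := by
          rw [mul_assoc u, show (x * x) * y = y * (x * x) from (comm_mul hyx hyx).symm, ← mul_assoc]))
  rw [hu1, one_mul, one_mul] at hy3
  -- an element inverting `x`
  obtain ⟨g, hg, hgψ, -⟩ := F.exists_g D
  obtain ⟨g₁, hg₁, hg₁x, hg₁ψ⟩ : ∃ g₁, InC z a g₁ ∧ g₁ * x * g₁⁻¹ = x⁻¹ ∧
      ψ g₁ * ψ x * (ψ g₁)⁻¹ = (ψ x)⁻¹ := by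
    have hp := F.C_inv (F.C_conj hg hxC)
    obtain ⟨q, hq, e⟩ := F.three_conj_x D hp
      (by rw [inv_pow, conj_pow, D.X.x3]; group)
      (by rw [F.B.ψ_inv (F.C_conj hg hxC).1, F.B.ψ_conj hg.1 hxC.1, hgψ, inv_inv])
    refine ⟨q⁻¹ * g, F.C_mul (F.C_inv (F.E1_C hq)) hg, ?_, ?_⟩
    · have e' : g * x * g⁻¹ = q * x⁻¹ * q⁻¹ := by
        have := congrArg (·⁻¹) e
        simp only [inv_inv] at this
        rw [this]; group
      rw [cj_cj, e']; group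
    · rw [F.B.ψ_mul _ _ (inv_comm' (F.B.Ez q hq.1)) hg.1, F.B.ψ_inv (F.B.Ez q hq.1),
        (F.B.ψ_ker q (F.B.Ez q hq.1)).2 hq.1, inv_one, one_mul]
      exact hgψ
  obtain ⟨hγ2, hγV, hγs⟩ := inv_sq_one _ _ D.X.θ3 D.X.θ1 hg₁ψ
  have hg11 : InU z a (g₁ * g₁) := F.E1_fixed D ⟨(F.B.ψ_ker _ (F.C_mul hg₁ hg₁).1).1
      (by rw [F.B.ψ_mul _ _ hg₁.1 hg₁.1, hγ2]), (F.C_mul hg₁ hg₁).2⟩ (cj_iff.2 (by
    have e1 : g₁ * x = x⁻¹ * g₁ := by rw [← hg₁x]; group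
    have e2 : g₁ * x⁻¹ = x * g₁ := by
      calc g₁ * x⁻¹ = (g₁ * x * g₁⁻¹)⁻¹ * g₁ := by group
        _ = x * g₁ := by rw [hg₁x, inv_inv]
    calc x * (g₁ * g₁) = x * g₁ * g₁ := by group
      _ = g₁ * (x⁻¹ * g₁) := by rw [← e2]; group
      _ = g₁ * g₁ * x := by rw [← e1]; group))
  -- compare `y` with its conjugate
  set k := y⁻¹ * (g₁ * y * g₁⁻¹) with hk
  have gfix : ∀ u, InU z a u → g₁ * u * g₁⁻¹ = u := fun u hu => F.U_conj hg₁ hu
  have haU : InU z a a := Or.inr (Or.inr (Or.inl rfl))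
  have hzU : InU z a z := Or.inr (Or.inl rfl)
  have hazU : InU z a (a * z) := Or.inr (Or.inr (Or.inr rfl))
  have hkC : InC z a k := by
    have key : ∀ u v, InU z a u → InU z a v → y * u * y⁻¹ = v → k * u = u * k := by
      intro u v hu hv e
      refine cj_iff.1 ?_
      rw [hk, cj_cj y⁻¹, cj_cj (g₁ * y) g₁⁻¹, cj_cj g₁ y,
        show g₁⁻¹ * u * g₁⁻¹⁻¹ = u from F.U_conj (F.C_inv hg₁) hu, e, gfix v hv, ← e]
      group
    exact ⟨key z a hzU haU hyz, key a _ haU hazU hya⟩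
  have hkx : k * x = x * k := by
    have hgx : g₁⁻¹ * x * g₁⁻¹⁻¹ = x⁻¹ := by
      calc g₁⁻¹ * x * g₁⁻¹⁻¹ = g₁⁻¹ * (g₁ * x * g₁⁻¹)⁻¹ * g₁ := by rw [hg₁x, inv_inv, inv_inv]
        _ = x⁻¹ := by group
    refine cj_iff.1 ?_
    rw [hk, cj_cj y⁻¹, cj_cj (g₁ * y) g₁⁻¹, cj_cj g₁ y, hgx,
      show y * x⁻¹ * y⁻¹ = (y * x * y⁻¹)⁻¹ by group, cj_iff.2 hyx,
      show g₁ * x⁻¹ * g₁⁻¹ = (g₁ * x * g₁⁻¹)⁻¹ by group, hg₁x, inv_inv]
    exact cj_iff.2 (inv_comm' hyx)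
  obtain ⟨u, hu, hku⟩ := cx k hkC hkx
  have hgy : g₁ * y * g₁⁻¹ = y * k := by rw [hk]; group
  -- first make the exponent of `x` vanish
  obtain ⟨y1, hy1x, hy1z, hy1a, hy1U, hy1g, hy1c⟩ : ∃ y1, y1 * x = x * y1 ∧ y1 * z * y1⁻¹ = a ∧
      y1 * a * y1⁻¹ = a * z ∧ (∀ v, InU z a v → y1 * v * y1⁻¹ = v → v = 1) ∧
      g₁ * y1 * g₁⁻¹ = y1 * u ∧ (y1 = y ∨ y1 = y * x ∨ y1 = y * (x * x)) := by
    have hxi : x⁻¹ = x * x := inv_eq_of_mul_eq_one_left hx3
    have mk : ∀ p, (p = 1 ∨ p = x ∨ p = x * x) → g₁ * (y * p) * g₁⁻¹ = y * p * u →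
        ∃ y1, y1 * x = x * y1 ∧ y1 * z * y1⁻¹ = a ∧ y1 * a * y1⁻¹ = a * z ∧
          (∀ v, InU z a v → y1 * v * y1⁻¹ = v → v = 1) ∧
          g₁ * y1 * g₁⁻¹ = y1 * u ∧ (y1 = y ∨ y1 = y * x ∨ y1 = y * (x * x)) := by
      intro p hp e
      have hpC : InC z a p := by
        rcases hp with rfl | rfl | rfl; exacts [⟨by simp, by simp⟩, hxC, F.C_mul hxC hxC]
      have hpx : p * x = x * p := by rcases hp with rfl | rfl | rfl; exacts [by simp, rfl, by group]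
      refine ⟨y * p, mul_comm' hyx hpx, by rw [cj_cj, cj_iff.2 hpC.1, hyz],
        by rw [cj_cj, cj_iff.2 hpC.2, hya],
        fun v hv e' => hyU v hv (by rwa [cj_cj, F.U_conj hpC hv] at e'), e, ?_⟩
      rcases hp with rfl | rfl | rfl
      exacts [Or.inl (mul_one y), Or.inr (Or.inl rfl), Or.inr (Or.inr rfl)]
    have gp : ∀ p, (p = x ∨ p = x * x) → g₁ * p * g₁⁻¹ = p⁻¹ := by
      rintro p (rfl | rfl)
      · exact hg₁x
      · rw [cj_mul, hg₁x, mul_inv_rev]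
    have cu : x * u = u * x := F.U_comm hu hxC
    rcases hku with e | e | e
    · exact mk 1 (Or.inl rfl) (by rw [mul_one, hgy, e])
    · refine mk (x * x) (Or.inr (Or.inr rfl)) ?_
      rw [cj_mul g₁ y, hgy, e, gp _ (Or.inr rfl),
        show (x * x)⁻¹ = x by rw [← hxi, inv_inv],
        show y * (u * x) * x = y * (u * (x * x)) by group, ← show x * x * u = u * (x * x) from
          mul_comm' cu cu, ← mul_assoc]
    · refine mk x (Or.inr (Or.inl rfl)) ?_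
      rw [cj_mul g₁ y, hgy, e, gp _ (Or.inl rfl),
        show y * (u * (x * x)) * x⁻¹ = y * (u * x) by group, ← cu, ← mul_assoc]
  have hy1_3 : y1 ^ 3 = y ^ 3 := by
    rcases hy1c with e | e | e <;> rw [e]
    · rw [(show Commute y x from hyx).mul_pow, D.X.x3, mul_one]
    · rw [(show Commute y (x * x) from comm_mul hyx hyx).mul_pow, (Commute.refl x).mul_pow, D.X.x3, one_mul,
        mul_one]
  -- cubes
  have hyu : ∀ v, InU z a v → InU z a (y1 * v * y1⁻¹) := by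
    intro v hv
    rcases hv with rfl | rfl | rfl | rfl
    · left; group
    · rw [hy1z]; exact haU
    · rw [hy1a]; exact hazU
    · rw [cj_mul, hy1z, hy1a, F.az, mul_assoc, F.A.sq, mul_one]; exact hzU
  have hsum : ∀ v, InU z a v → v * (y1 * v * y1⁻¹) * (y1 * (y1 * v * y1⁻¹) * y1⁻¹) = 1 := by
    intro v hv
    have hazA1 : y1 * (a * z) * y1⁻¹ = z := by
      rw [cj_mul, hy1z, hy1a, F.az, mul_assoc, F.A.sq, mul_one]
    rcases hv with rfl | rfl | rfl | rfl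
    · group
    · rw [hy1z, hy1a, ← F.az, F.U_sq hazU]
    · rw [hy1a, hazA1, ← mul_assoc, F.A.sq, one_mul, F.B.zz]
    · rw [hazA1, hy1z, F.B.z_mul_z, F.A.sq]
  have hy1one : y ^ 3 = 1 := by
    have h := congrArg (fun t => t) hgy
    have e3 : g₁ * y1 ^ 3 * g₁⁻¹ = y1 ^ 3 := by
      rw [← conj_pow, hy1g]
      have huu := hyu u hu
      have huuu := hyu _ huu
      have : (y1 * u) ^ 3 = (y1 * u * y1⁻¹) * (y1 * (y1 * u * y1⁻¹) * y1⁻¹) * (y1 ^ 3 * u * (y1 ^ 3)⁻¹) * y1 ^ 3 := by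
        simp only [pow_succ, pow_zero, one_mul]; group
      rw [this]
      have e4 : y1 ^ 3 * u * (y1 ^ 3)⁻¹ = u := by
        have hc3 : InC z a (y1 ^ 3) := hy1_3 ▸ y3C
        exact F.U_conj hc3 hu
      rw [e4]
      have := (F.U_cases (F.U_mul huu huuu) hu).2.1
      rw [this, ← mul_assoc u, hsum u hu, one_mul]
    rw [hy1_3] at e3
    rcases hy3 with e | e | e
    · exact e
    · rw [e, hg₁x] at e3
      exfalso
      refine F.x_ne_one D ?_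
      calc x = x * x * x * x⁻¹ * x⁻¹ := by group
        _ = x⁻¹ * x⁻¹ := by rw [hx3, one_mul]
        _ = x⁻¹ * x := by nth_rewrite 2 [e3]; rfl
        _ = 1 := inv_mul_cancel x
    · rw [e, cj_mul, hg₁x] at e3
      exfalso
      refine F.x_ne_one D ?_
      calc x = (x * x * x) * x := by rw [hx3, one_mul]
        _ = x * x * (x * x) := by group
        _ = x * x * (x⁻¹ * x⁻¹) := by rw [e3]
        _ = 1 := by group
  -- adjust by an element of the four-group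
  obtain ⟨v, hv, hvu⟩ : ∃ v, InU z a v ∧ y1⁻¹ * v * y1 * v = u := by
    classical
    haveI : Fintype {w : G // InU z a w} := Fintype.ofFinite _
    let f : {w : G // InU z a w} → {w : G // InU z a w} := fun w => ⟨y1⁻¹ * w * y1 * w,
      F.U_mul (F.norm_U_inv hyu w w.2) w.2⟩
    have hf : Function.Injective f := by
      rintro ⟨p, hp⟩ ⟨q, hq⟩ e
      have e' : y1⁻¹ * p * y1 * p = y1⁻¹ * q * y1 * q := congrArg Subtype.val e
      have hp' := F.norm_U_inv hyu p hp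
      have hq' := F.norm_U_inv hyu q hq
      have hpq : y1⁻¹ * (p * q) * y1 = p * q := by
        calc y1⁻¹ * (p * q) * y1 = (y1⁻¹ * p * y1) * (y1⁻¹ * q * y1) := by group
          _ = (y1⁻¹ * p * y1 * p) * (p * (y1⁻¹ * q * y1)) := by
            rw [show y1⁻¹ * p * y1 * p * (p * (y1⁻¹ * q * y1)) = y1⁻¹ * p * y1 * (p * p) * (y1⁻¹ * q * y1) by group,
              F.U_sq hp, mul_one]
          _ = (y1⁻¹ * q * y1) * (q * (p * (y1⁻¹ * q * y1))) := by rw [e']; group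
          _ = (y1⁻¹ * q * y1) * ((y1⁻¹ * q * y1) * (p * q)) := by
            rw [(F.U_cases hq (F.U_mul hp hq')).2.1, (F.U_cases hp hq').2.1]; simp only [mul_assoc]
          _ = p * q := by rw [← mul_assoc, F.U_sq hq', one_mul]
      have h1 := hy1U _ (F.U_mul hp hq) (by
        calc y1 * (p * q) * y1⁻¹ = y1 * (y1⁻¹ * (p * q) * y1) * y1⁻¹ := by rw [hpq]
          _ = p * q := by group)
      exact Subtype.ext ((eq_inv_of_mul_eq_one_left h1).trans (inv_sq (F.U_sq hq)))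
    obtain ⟨⟨v, hv⟩, e⟩ := (Finite.injective_iff_surjective.1 hf) ⟨u, hu⟩
    exact ⟨v, hv, congrArg Subtype.val e⟩
  set g' := v * g₁ with hg'
  have hvC : InC z a v := F.E1_C (F.U_E hv)
  have hg'C : InC z a g' := F.C_mul hvC hg₁
  have hg'y : g' * y1 = y1 * g' := by
    refine cj_iff.1 ?_
    rw [hg', cj_cj, hy1g, cj_mul, F.U_conj hvC hu, show v * y1 * v⁻¹ * u = y1 * (y1⁻¹ * v * y1) * (v⁻¹ * u) by group,
      inv_sq (F.U_sq hv), mul_assoc y1, ← mul_assoc _ v u, hvu, F.U_sq hu, mul_one]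
  have hg'2 : g' * g' = g₁ * g₁ := by
    rw [hg', show v * g₁ * (v * g₁) = v * (g₁ * v) * g₁ by group, F.U_comm hv hg₁,
      show v * (v * g₁) * g₁ = v * v * (g₁ * g₁) by group, F.U_sq hv, one_mul]
  have hg'1 : g' * g' = 1 := by
    refine hy1U _ (hg'2 ▸ hg11) (cj_iff.2 ?_)
    exact comm_mul hg'y.symm hg'y.symm
  have hg'x : g' * x * g'⁻¹ = x⁻¹ := by
    rw [hg', cj_cj, hg₁x, cj_iff.2 ((show Commute v x from (F.U_comm hv hxC).symm).inv_right.eq)]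
  have hψ' : ψ g' = ψ g₁ := by
    rw [hg', F.B.ψ_mul _ _ hvC.1 hg₁.1, (F.B.ψ_ker v hvC.1).2 (F.U_E hv).1, one_mul]
  refine ⟨y1, g', hy1_3.trans hy1one, hy1x, hy1z, hy1a, hg'C, hg'1, hg'x, hg'y, ?_, by rw [hψ']; exact hg₁ψ⟩
  intro t ht hgt
  by_contra hU
  by_cases h2 : t * t = 1
  · obtain ⟨c, hc, e⟩ := F.invol_conj D ht h2 hU
    refine F.no_fix_v D hm (r := c⁻¹ * g' * c) (F.C_mul (F.C_mul (F.C_inv hc) hg'C) hc) ?_ ?_
    · intro hV
      refine hγV ?_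
      rw [F.B.ψ_mul _ _ (mul_comm' (inv_comm' hc.1) hg'C.1) hc.1, F.B.ψ_mul _ _ (inv_comm' hc.1) hg'C.1,
        F.B.ψ_inv hc.1, hψ'] at hV
      have := inV_conj (ψ c) _ hV
      rwa [show ψ c * ((ψ c)⁻¹ * ψ g₁ * ψ c) * (ψ c)⁻¹ = ψ g₁ by group] at this
    · calc c⁻¹ * g' * c * (m * l₁) = c⁻¹ * (g' * (c * (m * l₁) * c⁻¹)) * c := by group
        _ = c⁻¹ * (c * (m * l₁) * c⁻¹ * g') * c := by rw [e, hgt]
        _ = _ := by group
  · set t1 := x * t * x⁻¹ with ht1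
    set t2 := x * x * t * (x * x)⁻¹ with ht2
    have h1T : InT z a ψ t1 := F.V_conj hxC ht
    have h2T : InT z a ψ t2 := F.V_conj (F.C_mul hxC hxC) ht
    have gx' : g' * x = x⁻¹ * g' := by rw [← hg'x]; group
    have hg12 : g' * t1 * g'⁻¹ = t2 := by
      calc g' * t1 * g'⁻¹ = g' * x * t * (g' * x)⁻¹ := by simp only [t1]; group
        _ = x⁻¹ * (g' * t * g'⁻¹) * x := by rw [gx']; group
        _ = t2 := by
          rw [cj_iff.2 hgt, ht2, ← inv_eq_of_mul_eq_one_left hx3, inv_inv]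
    have hg21 : g' * t2 * g'⁻¹ = t1 := by
      rw [← hg12, ← cj_cj, hg'1]; group
    have htri := F.triple D ht
    rw [← ht1, ← ht2] at htri
    have e := F.U_conj hg'C htri
    rw [cj_mul, cj_mul, cj_iff.2 hgt, hg12, hg21] at e
    have hc12 : t1 * t2 = t2 * t1 := by
      rw [mul_assoc t, mul_assoc t] at e
      exact (mul_left_cancel e).symm
    have hc01 : t * t1 = t1 * t := by
      have := congrArg (fun w => x⁻¹ * w * x) hc12
      rw [show x⁻¹ * (t1 * t2) * x = t * t1 by simp only [t1, t2]; group,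
        show x⁻¹ * (t2 * t1) * x = t1 * t by simp only [t1, t2]; group] at this
      exact this
    have hs1 : t1 * t1 = t * t := by
      simp only [t1]; rw [← cj_mul, F.U_conj hxC (F.T_sq ht)]
    have hs2 : t2 * t2 = t * t := by
      simp only [t2]; rw [← cj_mul, F.U_conj (F.C_mul hxC hxC) (F.T_sq ht)]
    refine h2 ?_
    have hpp : t * t1 * (t * t1) = 1 := by
      rw [show t * t1 * (t * t1) = t * (t1 * t) * t1 by group, ← hc01,
        show t * (t * t1) * t1 = t * t * (t1 * t1) by group, hs1, F.U_sq (F.T_sq ht)]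
    set r := t * t1 * t2
    have e2 : t2 = (t * t1)⁻¹ * r := by simp only [r]; group
    calc t * t = t2 * t2 := hs2.symm
      _ = 1 := by
        rw [e2, inv_sq hpp, F.sq_mul_U D (F.C_mul ht.1 h1T.1) htri, hpp]

end Frame

end Cfsg.Agent.L34Aut
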