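import Cfsg.Agent.Lib.L34Aut.Invol
import Mathlib.GroupTheory.Sylow
import Mathlib.GroupTheory.Nilpotent

/-!
Involutions which cannot be conjugated into `C(⟨z, a⟩)`, and the Sylow subgroup used for transfer.
-/

set_option autoImplicit false
set_option linter.style.haveILetI false
set_option linter.unusedSectionVars false
set_option linter.unusedVariables false
set_option synthInstance.maxHeartbeats 400000
set_option synthInstance.maxSize 4000

namespace Cfsg.Agent.L34Aut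

open Equiv
open scoped Pointwise

/-- The dihedral group of order eight containing `γ`. -/
def InD (γ σ : S4) : Prop := InV σ ∨ InV (σ * γ)

instance (γ σ : S4) : Decidable (InD γ σ) := inferInstanceAs (Decidable (_ ∨ _))

theorem inD_mul : ∀ γ σ τ : S4, γ * γ = 1 → InD γ σ → InD γ τ → InD γ (σ * τ) := by decide +kernel

theorem inD_inv : ∀ γ σ : S4, γ * γ = 1 → InD γ σ → InD γ σ⁻¹ := by decide +kernel

theorem card_inD : ∀ γ : S4, γ * γ = 1 → ¬ InV γ →
    (Finset.univ.filter fun σ : S4 => InD γ σ).card = 8 := by decide +kernel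

theorem inD_even : ∀ γ σ : S4, γ * γ = 1 → Perm.sign γ = -1 → InD γ σ → Perm.sign σ = 1 → InV σ := by
  decide +kernel

theorem even_three : ∀ θ γ σ : S4, θ ^ 3 = 1 → θ ≠ 1 → Perm.sign γ = -1 →
    InV σ ∨ InV (σ * θ) ∨ InV (σ * (θ * θ)) ∨ InV (σ * γ) ∨ InV (σ * (γ * θ)) ∨ InV (σ * (γ * (θ * θ))) := by
  decide +kernel

universe u

variable {G : Type u} [Group G] [Finite G] {z a x m l₀ l₁ y g : G} {E : Subgroup G} {ψ : G → S4}

namespace Frame

variable (F : Frame z a E ψ) (D : TData z a E ψ x m l₀ l₁)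
include F D

theorem exists_S {γ : S4} (hγ : γ * γ = 1) (hγV : ¬ InV γ) :
    ∃ S : Sylow 2 G, Nat.card (S : Subgroup G) = 256 ∧
      ∀ h, h ∈ (S : Subgroup G) ↔ h * z = z * h ∧ InD γ (ψ h) := by
  classical
  haveI := Fintype.ofFinite G
  haveI : Fact (Nat.Prime 2) := ⟨Nat.prime_two⟩
  let S0 : Subgroup G :=
    { carrier := {h | h * z = z * h ∧ InD γ (ψ h)}
      one_mem' := ⟨by simp, by rw [F.B.ψ_one]; exact Or.inl (by decide)⟩
      mul_mem' := fun {p q} hp hq => ⟨mul_comm' hp.1 hq.1, by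
        rw [F.B.ψ_mul _ _ hp.1 hq.1]; exact inD_mul _ _ _ hγ hp.2 hq.2⟩
      inv_mem' := fun {p} hp => ⟨inv_comm' hp.1, by rw [F.B.ψ_inv hp.1]; exact inD_inv _ _ hγ hp.2⟩ }
  have hEle : E ≤ S0 := fun q hq => ⟨F.B.Ez q hq, by
    rw [(F.B.ψ_ker q (F.B.Ez q hq)).2 hq]; exact Or.inl (by decide)⟩
  have h256 : Nat.card S0 = 256 := by
    let f : S0 →* S4 :=
      { toFun := fun h => ψ (h : G)
        map_one' := F.B.ψ_one
        map_mul' := fun p q => F.B.ψ_mul _ _ p.2.1 q.2.1 }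
    have hker : Nat.card f.ker = 32 := by
      rw [← F.B.card]
      refine Nat.card_congr
        { toFun := fun h => ⟨(h : S0), (F.B.ψ_ker _ h.1.2.1).1 h.2⟩
          invFun := fun q => ⟨⟨q.1, hEle q.2⟩, (F.B.ψ_ker q.1 (F.B.Ez q.1 q.2)).2 q.2⟩
          left_inv := fun _ => rfl
          right_inv := fun _ => rfl }
    have hr : Nat.card f.range = 8 := by
      refine Eq.trans ?_ (card_inD γ hγ hγV)
      rw [Nat.card_eq_fintype_card, Fintype.card_subtype]
      congr 1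
      ext σ
      simp only [Finset.mem_filter, Finset.mem_univ, true_and, MonoidHom.mem_range]
      constructor
      · rintro ⟨h, rfl⟩; exact h.2.2
      · intro hσ
        obtain ⟨h, hh, rfl⟩ := F.B.ψ_surj σ
        exact ⟨⟨h, hh, hσ⟩, rfl⟩
    rw [← f.ker.card_mul_index, Subgroup.index_ker, hker, hr]
  obtain ⟨S, hS⟩ := (IsPGroup.of_card (n := 8) h256 : IsPGroup 2 S0).exists_le_sylow
  suffices e : (S : Subgroup G) = S0 by exact ⟨S, e ▸ h256, fun h => by rw [e]; rfl⟩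
  set P : Subgroup G := (S : Subgroup G)
  set K : Subgroup G := P ⊓ Subgroup.centralizer ({z} : Set G)
  have hKS : K = S0 := by
    refine (Subgroup.eq_of_le_of_card_ge (le_inf hS fun h hh => mem_cent.2 hh.1) ?_).symm
    rw [h256]
    have hd : Nat.card K ∣ 768 := F.B.cardH ▸ Subgroup.card_dvd_of_le inf_le_right
    obtain ⟨n, hn⟩ := IsPGroup.iff_card.1 (S.isPGroup'.to_le (inf_le_left : K ≤ P))
    rw [hn] at hd ⊢
    by_contra hlt
    push Not at hlt
    have h9 : 2 ^ 9 ∣ 2 ^ n := pow_dvd_pow 2 (by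
      by_contra hc
      have : 2 ^ n ≤ 2 ^ 8 := Nat.pow_le_pow_right (by norm_num) (by omega)
      omega)
    exact absurd (h9.trans hd) (by decide)
  by_contra hne
  have hlt : K.subgroupOf P < ⊤ := by
    refine lt_top_iff_ne_top.2 fun e => hne ?_
    rw [Subgroup.subgroupOf_eq_top] at e
    exact (le_antisymm e (inf_le_left : K ≤ P)).trans hKS
  haveI := S.isPGroup'.isNilpotent
  obtain ⟨⟨r, hrP⟩, hr, hrn⟩ := SetLike.exists_of_lt (Group.normalizerCondition_of_isNilpotent (G := P) _ hlt)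
  refine hrn ?_
  rw [Subgroup.mem_subgroupOf]
  refine ⟨hrP, mem_cent.2 (cj_iff.1 ?_)⟩
  have hconj : ∀ k ∈ K, r * k * r⁻¹ ∈ K := fun k hk => by
    have := (Subgroup.mem_normalizer_iff.1 hr ⟨k, hk.1⟩).1 (Subgroup.mem_subgroupOf.2 hk)
    exact Subgroup.mem_subgroupOf.1 this
  have hrz : r * z * r⁻¹ ∈ K := hconj z (hKS ▸ hEle F.B.zE)
  have hrinv : ∀ k ∈ K, r⁻¹ * k * r ∈ K := fun k hk => by
    have hr' := (P.subtype (⟨r, hrP⟩ : P)⁻¹)
    have hn : (⟨r, hrP⟩ : P)⁻¹ ∈ Subgroup.normalizer (K.subgroupOf P : Set P) := inv_mem hr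
    have := (Subgroup.mem_normalizer_iff.1 hn ⟨k, hk.1⟩).1 (Subgroup.mem_subgroupOf.2 hk)
    rw [inv_inv, Subgroup.mem_subgroupOf] at this
    exact this
  have hc : ∀ q ∈ E, r * z * r⁻¹ * q = q * (r * z * r⁻¹) := by
    intro q hq
    have h1 := hrinv q (hKS ▸ hEle hq)
    calc r * z * r⁻¹ * q = r * (z * (r⁻¹ * q * r)) * r⁻¹ := by group
      _ = r * ((r⁻¹ * q * r) * z) * r⁻¹ := by rw [mem_cent.1 h1.2]
      _ = _ := by group
  have hwz := mem_cent.1 hrz.2
  rcases F.B.center _ (F.B.self _ hwz hc) (fun q hq => hc q hq) with e | e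
  · exact absurd (conj_eq_one_iff.1 e) F.B.z1
  · exact e

/-- An involution whose commuting conjugates of `z` in `T` reduce to `z` has no conjugate in `C(⟨z, a⟩)`. -/
theorem lone (hza : ∃ k, k * z * k⁻¹ = a) {w : G} (hwz : w * z = z * w)
    (hw : ∀ k, InT z a ψ (k * z * k⁻¹) → k * z * k⁻¹ * w = w * (k * z * k⁻¹) → k * z * k⁻¹ = z)
    (k : G) : ¬ InC z a (k * w * k⁻¹) := by
  classical
  intro hC
  haveI : Fact (Nat.Prime 2) := ⟨Nat.prime_two⟩
  set L := Subgroup.centralizer ({w} : Set G)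
  have hzL : z ∈ L := mem_cent.2 hwz.symm
  obtain ⟨n, hn⟩ := hza
  set p := k⁻¹ * z * k with hp
  set q := k⁻¹ * a * k with hq
  have hpL : p ∈ L := mem_cent.2 (by
    calc p * w = k⁻¹ * (z * (k * w * k⁻¹)) * k := by simp only [p]; group
      _ = w * p := by rw [← hC.1]; simp only [p]; group)
  have hqL : q ∈ L := mem_cent.2 (by
    calc q * w = k⁻¹ * (a * (k * w * k⁻¹)) * k := by simp only [q]; group
      _ = w * q := by rw [← hC.2]; simp only [q]; group)
  have two : ∀ (c : ↥L), c * c = 1 → IsPGroup 2 (Subgroup.zpowers c) := fun c hc => by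
    intro ⟨d, hd⟩
    obtain ⟨i, rfl⟩ := Subgroup.mem_zpowers_iff.1 hd
    exact ⟨1, Subtype.ext (by
      show (c ^ i) ^ (2 ^ 1) = 1
      rw [pow_one, ← zpow_natCast (c ^ i), ← zpow_mul, mul_comm, zpow_mul, zpow_natCast, pow_two, hc, one_zpow])⟩
  obtain ⟨P, hP⟩ := (two ⟨z, hzL⟩ (Subtype.ext F.B.zz)).exists_le_sylow
  have hzP : (⟨z, hzL⟩ : L) ∈ (P : Subgroup L) := hP (Subgroup.mem_zpowers _)
  -- conjugates of `z` in `P` commuting with `z`
  have one : ∀ c ∈ (P : Subgroup L), ∀ j : G, (c : G) = j * z * j⁻¹ → (c : G) * z = z * c → (c : G) = z := by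
    intro c _ j e hcz
    rw [e] at hcz ⊢
    exact hw j (F.fused_T D hcz) (by rw [← e]; exact mem_cent.1 c.2)
  let Q : Subgroup (P : Subgroup L) :=
    { carrier := {r | ((r : L) : G) * z = z * ((r : L) : G)}
      one_mem' := by simp
      mul_mem' := fun {r s} hr hs => mul_comm' hr hs
      inv_mem' := fun {r} hr => inv_comm' hr }
  have hQ : Q = ⊤ := by
    by_contra hne
    haveI := P.isPGroup'.isNilpotent
    obtain ⟨r, hr, hrn⟩ := SetLike.exists_of_lt
      (Group.normalizerCondition_of_isNilpotent (G := (P : Subgroup L)) Q (lt_top_iff_ne_top.2 hne))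
    refine hrn ?_
    show ((r : L) : G) * z = z * ((r : L) : G)
    refine cj_iff.1 ?_
    set Z : (P : Subgroup L) := ⟨⟨z, hzL⟩, hzP⟩
    have hZ : Z ∈ Q := rfl
    have h1 : r * Z * r⁻¹ ∈ Q := (Subgroup.mem_normalizer_iff.1 hr Z).1 hZ
    exact one _ (r * Z * r⁻¹).2 ((r : L) : G) rfl h1
  have allP : ∀ c ∈ (P : Subgroup L), ∀ j : G, (c : G) = j * z * j⁻¹ → (c : G) = z := fun c hc j e =>
    one c hc j e (show (⟨c, hc⟩ : (P : Subgroup L)) ∈ Q by rw [hQ]; exact Subgroup.mem_top _)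
  have hpp : p * p = 1 := by
    calc p * p = k⁻¹ * (z * z) * k := by simp only [p]; group
      _ = 1 := by rw [F.B.zz]; group
  have hqq : q * q = 1 := by
    calc q * q = k⁻¹ * (a * a) * k := by simp only [q]; group
      _ = 1 := by rw [F.A.sq]; group
  have hpq : p * q = q * p := by
    calc p * q = k⁻¹ * (z * a) * k := by simp only [p, q]; group
      _ = k⁻¹ * (a * z) * k := by rw [F.az]
      _ = q * p := by simp only [p, q]; group
  let K : Subgroup L := Subgroup.zpowers ⟨p, hpL⟩ ⊔ Subgroup.zpowers ⟨q, hqL⟩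
  have hK : IsPGroup 2 K :=
    (two _ (Subtype.ext hpp)).to_sup_of_normal_right' (two _ (Subtype.ext hqq)) (by
      rw [Subgroup.zpowers_le]
      refine Subgroup.mem_normalizer_iff.2 fun s => ?_
      have hs : ∀ s ∈ Subgroup.zpowers (⟨q, hqL⟩ : L), (⟨p, hpL⟩ : L) * s = s * ⟨p, hpL⟩ := fun s hs => by
        obtain ⟨i, rfl⟩ := Subgroup.mem_zpowers_iff.1 hs
        exact (Commute.zpow_right (show Commute (⟨p, hpL⟩ : L) ⟨q, hqL⟩ from Subtype.ext hpq) i).eq
      constructor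
      · intro h; rw [hs s h, mul_inv_cancel_right]; exact h
      · intro h
        have e := hs _ h
        have e2 : s = (⟨p, hpL⟩ : L) * s * (⟨p, hpL⟩ : L)⁻¹ := by
          have h2 : (⟨p, hpL⟩ : L)⁻¹ = ⟨p, hpL⟩ := inv_sq (Subtype.ext hpp)
          rw [h2] at e ⊢
          calc s = (⟨p, hpL⟩ * ⟨p, hpL⟩ : L) * s * (⟨p, hpL⟩ * ⟨p, hpL⟩) := by
                rw [show (⟨p, hpL⟩ * ⟨p, hpL⟩ : L) = 1 from Subtype.ext hpp, one_mul, mul_one]
            _ = ⟨p, hpL⟩ * (⟨p, hpL⟩ * s * ⟨p, hpL⟩) * ⟨p, hpL⟩ := by simp only [mul_assoc]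
            _ = _ := by
              rw [e, mul_assoc _ (⟨p, hpL⟩ : L) ⟨p, hpL⟩,
                show (⟨p, hpL⟩ * ⟨p, hpL⟩ : L) = 1 from Subtype.ext hpp, mul_one]
        rwa [e2])
  obtain ⟨P', hP'⟩ := hK.exists_le_sylow
  obtain ⟨s, rfl⟩ := MulAction.exists_smul_eq L P P'
  have key : ∀ c : L, c ∈ K → ∀ j : G, (c : G) = j * z * j⁻¹ → ((s⁻¹ * c * s : L) : G) = z := by
    intro c hc j e
    have h := hP' hc
    rw [Sylow.coe_subgroup_smul, Subgroup.mem_pointwise_smul_iff_inv_smul_mem, ← map_inv, MulAut.smul_def,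
      MulAut.conj_apply, inv_inv] at h
    refine allP _ h ((s : G)⁻¹ * j) ?_
    rw [Subgroup.coe_mul, Subgroup.coe_mul, Subgroup.coe_inv, e]
    group
  have e1 := key ⟨p, hpL⟩ (Subgroup.mem_sup_left (Subgroup.mem_zpowers _)) k⁻¹ (by simp only [p]; group)
  have e2 := key ⟨q, hqL⟩ (Subgroup.mem_sup_right (Subgroup.mem_zpowers _)) (k⁻¹ * n) (by
    simp only [q]; rw [← hn]; group)
  rw [← e2, Subgroup.coe_mul, Subgroup.coe_mul, Subgroup.coe_mul, Subgroup.coe_mul] at e1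
  have e3 : k⁻¹ * z * k = k⁻¹ * a * k := mul_left_cancel (mul_right_cancel e1)
  exact F.A.nez (mul_left_cancel (mul_right_cancel e3)).symm

end Frame

end Cfsg.Agent.L34Aut
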