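import Cfsg.Agent.Lib.AutPSL.Centralizer
import Cfsg.Agent.Lib.Steiner.PlanePSL

/-!
Automorphisms of `PSL₃(4)` and of `PGL₃(4)`.
-/

set_option autoImplicit false
set_option linter.unusedSectionVars false
set_option linter.style.haveILetI false
set_option synthInstance.maxHeartbeats 400000
set_option synthInstance.maxSize 4000

namespace Cfsg.Agent.L34Aut.Model

open Matrix Cfsg.Agent.AutPSL

/-- If conjugations are normal, an element centralising all of them is trivial. -/
theorem centralizes_inn {P : Type*} [Group P] (hc : ∀ p : P, (∀ q, p * q = q * p) → p = 1) {β : MulAut P}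
    (h : ∀ p : P, β * MulAut.conj p = MulAut.conj p * β) : β = 1 := by
  refine MulEquiv.ext fun p => ?_
  have e : MulAut.conj (β p) = MulAut.conj p := by
    refine MulEquiv.ext fun q => ?_
    have h1 := DFunLike.congr_fun (h p) (β⁻¹ q)
    simp only [MulAut.mul_apply, MulAut.conj_apply, MulAut.apply_inv_self, map_mul, map_inv] at h1
    simpa using h1
  have e' : (β p)⁻¹ * p = 1 := hc _ fun q => by
    have := DFunLike.congr_fun e q
    simp only [MulAut.conj_apply] at this
    calc (β p)⁻¹ * p * q = (β p)⁻¹ * (p * q * p⁻¹) * p := by group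
      _ = (β p)⁻¹ * (β p * q * (β p)⁻¹) * p := by rw [this]
      _ = q * ((β p)⁻¹ * p) := by group
  exact (inv_mul_eq_one.1 e')

variable (F : Type*) [Field F] [Fintype F]

local notation "PSL3" => Matrix.ProjectiveSpecialLinearGroup (Fin 3) F
/-- The inner-diagonal group. -/
abbrev D3 : Subgroup (MulAut PSL3) := (conjHom : GL (Fin 3) F →* MulAut PSL3).range

open scoped LinearAlgebra.Projectivization in
theorem card_psl' (hF : Fintype.card F = 4) : Nat.card PSL3 = 20160 := by
  classical
  letI : Fintype (ℙ F (Fin 3 → F)) := Fintype.ofFinite _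
  exact PlanePSL.card_psl hF

theorem finite_aut : Finite (MulAut PSL3) :=
  Finite.of_injective (fun β => (β.toEquiv : PSL3 ≃ PSL3)) fun _ _ h =>
    MulEquiv.ext fun x => Equiv.congr_fun h x

theorem ker_conjHom : (conjHom : GL (Fin 3) F →* MulAut PSL3).ker = Subgroup.center (GL (Fin 3) F) := by
  ext g
  rw [MonoidHom.mem_ker, conjHom_apply]
  constructor
  · intro h
    obtain ⟨-, c, hc⟩ := semi_eq_one (by norm_num) h
    refine Subgroup.mem_center_iff.2 fun k => Units.ext ?_
    rw [Units.val_mul, Units.val_mul, hc]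
    exact ((Matrix.scalar_commute c (fun _ => Commute.all _ _) _).eq).symm
  · intro h
    refine MulEquiv.ext fun p => ?_
    induction p using QuotientGroup.induction_on with
    | _ s =>
      rw [semi_mk]
      refine congrArg QuotientGroup.mk (Subtype.ext ?_)
      rw [slSemi_coe, show (s : Matrix (Fin 3) (Fin 3) F).map (1 : F ≃+* F) = (s : Matrix (Fin 3) (Fin 3) F) by
        ext i j; rfl]
      have hk := Subgroup.mem_center_iff.1 h (Matrix.SpecialLinearGroup.toGL s)
      have hk' := congrArg (fun u : GL (Fin 3) F => (u : Matrix (Fin 3) (Fin 3) F)) hk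
      simp only [Units.val_mul] at hk'
      calc (g : Matrix (Fin 3) (Fin 3) F) * (s : Matrix (Fin 3) (Fin 3) F) * ((g⁻¹ : GL (Fin 3) F) : Matrix _ _ F) =
            (s : Matrix (Fin 3) (Fin 3) F) * (g : Matrix (Fin 3) (Fin 3) F) * ((g⁻¹ : GL (Fin 3) F) : Matrix _ _ F) :=
          congrArg (· * ((g⁻¹ : GL (Fin 3) F) : Matrix (Fin 3) (Fin 3) F)) hk'.symm
        _ = _ := by rw [mul_assoc, ← Units.val_mul, mul_inv_cancel, Units.val_one, mul_one]

/-- `PGL₃` as the inner-diagonal group. -/
noncomputable def pglEquiv : (GL (Fin 3) F ⧸ Subgroup.center (GL (Fin 3) F)) ≃* D3 F :=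
  (QuotientGroup.quotientMulEquivOfEq (ker_conjHom F).symm).trans
    (QuotientGroup.quotientKerEquivRange (conjHom : GL (Fin 3) F →* MulAut PSL3))

theorem pow_three (hF : Fintype.card F = 4) (c : Fˣ) : c ^ 3 = 1 := by
  have h := pow_card_eq_one' (x := c)
  rw [Nat.card_units, Nat.card_eq_fintype_card, hF] at h
  exact h

theorem card_pgl (hF : Fintype.card F = 4) : Nat.card (D3 F) = 60480 := by
  classical
  rw [← Nat.card_congr (pglEquiv F).toEquiv]
  have hgl : Nat.card (GL (Fin 3) F) = 181440 := by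
    rw [ClassicalSL.card_gl_fin (q := 4) (by rw [Nat.card_eq_fintype_card, hF])]
    simp [Fin.prod_univ_three]
  have hcz : Nat.card (Subgroup.center (GL (Fin 3) F)) = 3 := by
    rw [Matrix.GeneralLinearGroup.center_eq_range_scalar]
    rw [← Nat.card_congr (MonoidHom.ofInjective (f := Matrix.GeneralLinearGroup.scalar (Fin 3)) ?_).toEquiv]
    · rw [Nat.card_units, Nat.card_eq_fintype_card, hF]
    · intro p q h
      refine Units.ext ?_
      have := congrArg (fun u : GL (Fin 3) F => (u : Matrix (Fin 3) (Fin 3) F) 0 0) h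
      simpa using this
  have := (Subgroup.center (GL (Fin 3) F)).card_mul_index
  rw [hgl, hcz] at this
  rw [← Subgroup.index_eq_card]
  omega

theorem card_aut_le (hF : Fintype.card F = 4) : Nat.card (MulAut PSL3) ≤ 241920 := by
  classical
  haveI := finite_aut F
  haveI : Fact (Nat.Prime 2) := ⟨Nat.prime_two⟩
  obtain ⟨ε⟩ := exists_ringAut_equiv (F := F) 2 2 (by rw [hF]; norm_num)
  have h2 : Nat.card (F ≃+* F) = 2 := by
    rw [Nat.card_congr ε.toEquiv, Nat.card_congr Multiplicative.toAdd, Nat.card_zmod]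
  haveI : Finite (F ≃+* F) := Nat.finite_of_card_ne_zero (by omega)
  let f : D3 F × (F ≃+* F) × Bool → MulAut PSL3 := fun p =>
    (if p.2.2 then invT else 1) * ((p.1 : MulAut PSL3) * semi 1 p.2.1)
  have hs : Function.Surjective f := by
    intro β
    obtain ⟨g, σ, h⟩ := aut_eq (n := 3) (by norm_num) β
    have e : (semi g σ : MulAut PSL3) = conjHom g * semi 1 σ := by
      rw [conjHom_apply, semi_mul, map_one, mul_one, one_mul]
    rcases h with h | ⟨-, h⟩
    · exact ⟨(⟨conjHom g, g, rfl⟩, σ, false), by simp only [f]; rw [h, e]; simp⟩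
    · exact ⟨(⟨conjHom g, g, rfl⟩, σ, true), by simp only [f]; rw [h, e]; simp⟩
  refine (Nat.card_le_card_of_surjective f hs).trans (le_of_eq ?_)
  rw [Nat.card_prod, Nat.card_prod, card_pgl F hF, h2, Nat.card_eq_fintype_card, Fintype.card_bool]

theorem psl_center (hF : Fintype.card F = 4) (p : PSL3) (h : ∀ q, p * q = q * p) : p = 1 := by
  have hs := ClassicalSL.isSimpleGroup_psl (ι := Fin 3) (F := F) (by simp)
  haveI := hs
  rcases (inferInstance : (Subgroup.center PSL3).Normal).eq_bot_or_eq_top with e | e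
  · exact (Subgroup.eq_bot_iff_forall _).1 e p (Subgroup.mem_center_iff.2 fun q => (h q).symm)
  · exfalso
    have hcomm : ∀ a b : PSL3, a * b = b * a := fun a b =>
      (Subgroup.mem_center_iff.1 (e ▸ Subgroup.mem_top a : a ∈ Subgroup.center PSL3) b).symm
    have hsol : Group.IsSolvable PSL3 := Group.isSolvable_of_comm hcomm
    have hp := IsSimpleGroup.comm_iff_isSolvable.2 hsol
    haveI : Fact (Nat.Prime 2) := ⟨Nat.prime_two⟩
    obtain ⟨t, ht⟩ := exists_prime_orderOf_dvd_card' (G := PSL3) 2 (by rw [card_psl' F hF]; norm_num)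
    have hN : (Subgroup.zpowers t).Normal :=
      ⟨fun n hn k => by rwa [hp k n, mul_inv_cancel_right]⟩
    rcases hN.eq_bot_or_eq_top with e' | e'
    · rw [Subgroup.zpowers_eq_bot] at e'; simp [e'] at ht
    · have := Nat.card_zpowers t
      rw [e', Subgroup.card_top, card_psl' F hF, ht] at this
      norm_num at this

/-- `PSL₃` and `PGL₃` have the same automorphisms when the field has four elements. -/
theorem aut_pgl (hF : Fintype.card F = 4) :
    Nonempty (MulAut PSL3 ≃* MulAut (GL (Fin 3) F ⧸ Subgroup.center (GL (Fin 3) F))) := by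
  classical
  haveI := finite_aut F
  have hc := psl_center F hF
  set D : Subgroup (MulAut PSL3) := D3 F with hD
  have hD6 : Nat.card D = 60480 := card_pgl F hF
  have innD : ∀ p : PSL3, MulAut.conj p ∈ D := fun p => AutPSL.inn_le_range ⟨p, rfl⟩
  haveI hDn : D.Normal := by
    refine ⟨?_⟩
    rintro _ ⟨k, rfl⟩ β
    obtain ⟨g, σ, h⟩ := aut_eq (n := 3) (by norm_num) β
    have hsemi : ∀ (g : GL (Fin 3) F) (σ : F ≃+* F) k,
        (semi g σ * conjHom k * (semi g σ)⁻¹ : MulAut PSL3) ∈ D := by
      intro g σ k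
      refine ⟨g * Matrix.GeneralLinearGroup.map σ.toRingHom k * g⁻¹, ?_⟩
      rw [eq_mul_inv_iff_mul_eq, conjHom_apply, conjHom_apply, semi_mul, semi_mul, one_mul]
      congr 1
      rw [show (Matrix.GeneralLinearGroup.map ((1 : F ≃+* F).toRingHom) g) = g from Units.ext (by ext i j; rfl)]
      group
    rcases h with rfl | ⟨-, rfl⟩
    · exact hsemi g σ k
    · obtain ⟨k', hk'⟩ := hsemi g σ k
      obtain ⟨k'', hk''⟩ := invT_semi (n := 3) k' (1 : F ≃+* F)
      refine ⟨k'', ?_⟩
      rw [show invT * semi g σ * conjHom k * (invT * semi g σ)⁻¹ =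
        invT * (semi g σ * conjHom k * (semi g σ)⁻¹) * invT⁻¹ by group, ← hk', conjHom_apply, conjHom_apply, hk'',
        mul_inv_cancel_right]
  let ι : MulAut PSL3 →* MulAut D := MulAut.conjNormal
  have hι : Function.Injective ι := by
    rw [injective_iff_map_eq_one]
    intro β hβ
    refine centralizes_inn hc fun p => ?_
    have h1 := congrArg Subtype.val (DFunLike.congr_fun hβ (⟨_, innD p⟩ : D))
    rw [MulAut.conjNormal_apply, MulAut.one_apply] at h1
    exact mul_inv_eq_iff_eq_mul.1 h1
  -- the inner group inside `D`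
  let inn : PSL3 →* D := (MulAut.conj).codRestrict D innD
  have hinn : Function.Injective inn := by
    rw [injective_iff_map_eq_one]
    intro p hp
    refine hc p fun q => ?_
    have := DFunLike.congr_fun (congrArg Subtype.val hp : MulAut.conj p = 1) q
    have this : p * q * p⁻¹ = q := this
    exact mul_inv_eq_iff_eq_mul.1 this
  haveI := ClassicalSL.isSimpleGroup_psl (ι := Fin 3) (F := F) (by simp)
  haveI : IsSimpleGroup inn.range := SimpleCriteria.isSimpleGroup_congr (MonoidHom.ofInjective hinn)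
  have hX : Nat.card inn.range = 20160 := by
    rw [← Nat.card_congr (MonoidHom.ofInjective hinn).toEquiv, card_psl' F hF]
  have hchar : ∀ φ : MulAut D, ∀ p : PSL3, φ (inn p) ∈ inn.range := by
    intro φ p
    have e := PlanePSL.subgroup_eq inn.range (inn.range.map φ.toMonoidHom) hX
      (by rw [Subgroup.card_map_of_injective φ.injective, hX]) (by rw [hD6]; norm_num)
    rw [e]
    exact ⟨_, ⟨p, rfl⟩, rfl⟩
  let ε := MonoidHom.ofInjective hinn
  let res : MulAut D → (PSL3 → PSL3) := fun φ p => ε.symm ⟨_, hchar φ p⟩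
  have hres : ∀ φ p, inn (res φ p) = φ (inn p) := fun φ p =>
    congrArg Subtype.val (ε.apply_symm_apply ⟨_, hchar φ p⟩)
  have hres_inj : Function.Injective res := by
    intro φ ψ h
    refine MulEquiv.ext fun d => ?_
    have key : ∀ p, φ (inn p) = ψ (inn p) := fun p => by rw [← hres, ← hres, h]
    refine mul_inv_eq_one.1 ?_
    have hcent : ∀ p, (φ d) * (ψ d)⁻¹ * inn p = inn p * (φ d * (ψ d)⁻¹) := by
      intro p
      obtain ⟨q, hq⟩ : ∃ q, ψ (inn q) = inn p := by
        obtain ⟨q, hq⟩ := hchar ψ⁻¹ p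
        exact ⟨q, by rw [hq, MulAut.apply_inv_self]⟩
      obtain ⟨r, hr⟩ : ∃ r, inn r = d⁻¹ * inn q * d := by
        refine ⟨(d : MulAut PSL3)⁻¹ q, Subtype.ext (MulEquiv.ext fun s => ?_)⟩
        show (d : MulAut PSL3)⁻¹ q * s * ((d : MulAut PSL3)⁻¹ q)⁻¹ = (d : MulAut PSL3)⁻¹ (q * ((d : MulAut PSL3) s) * q⁻¹)
        rw [map_mul, map_mul, map_inv, MulAut.inv_apply_self]
      have h1 := key r
      rw [hr, map_mul, map_mul, map_inv, map_mul, map_mul, map_inv, key q, hq] at h1
      calc φ d * (ψ d)⁻¹ * inn p = φ d * ((ψ d)⁻¹ * inn p * ψ d) * (ψ d)⁻¹ := by group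
        _ = φ d * ((φ d)⁻¹ * inn p * φ d) * (ψ d)⁻¹ := by rw [h1]
        _ = _ := by group
    refine Subtype.ext (centralizes_inn hc fun p => ?_)
    exact congrArg Subtype.val (hcent p)
  haveI : Finite (MulAut D) := Finite.of_injective (fun β => (β.toEquiv : D ≃ D)) fun _ _ h =>
    MulEquiv.ext fun x => Equiv.congr_fun h x
  have hle : Nat.card (MulAut D) ≤ Nat.card (MulAut PSL3) := by
    refine Nat.card_le_card_of_injective
      (fun φ : MulAut D => (⟨⟨res φ, res φ⁻¹, fun p => hinn ?_, fun p => hinn ?_⟩, fun p q => hinn ?_⟩ : MulAut PSL3))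
      fun φ ψ h => hres_inj (funext fun p => DFunLike.congr_fun h p)
    · rw [hres, hres, MulAut.inv_apply_self]
    · rw [hres, hres, MulAut.apply_inv_self]
    · show inn (res φ (p * q)) = inn (res φ p * res φ q)
      rw [map_mul inn, hres, hres, hres, map_mul, map_mul]
  exact ⟨(MulEquiv.ofBijective ι (hι.bijective_of_nat_card_le hle)).trans (MulAut.congr (pglEquiv F).symm)⟩

end Cfsg.Agent.L34Aut.Model
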