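import Cfsg.Agent.Lib.L34Aut.Small3
import Cfsg.Agent.Lib.Char.Burnside

/-!
The order of the subgroup of index four in the fused case: a count of pairs of involutions in two cosets.
-/

set_option autoImplicit false
set_option linter.style.haveILetI false
set_option linter.unusedSectionVars false
set_option linter.unusedVariables false
set_option synthInstance.maxHeartbeats 400000
set_option synthInstance.maxSize 4000

namespace Cfsg.Agent.L34Aut

open Equiv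
open scoped Pointwise

theorem transp_conj : ∀ γ τ : S4, γ * γ = 1 → Perm.sign γ = -1 → τ * τ = 1 → Perm.sign τ = -1 →
    ∃ σ : S4, Perm.sign σ = 1 ∧ σ * γ * σ⁻¹ = τ := by decide +kernel

theorem card_cent_V : ∀ γ : S4, γ * γ = 1 → Perm.sign γ = -1 →
    (Finset.univ.filter fun σ : S4 => InV σ ∧ σ * γ = γ * σ).card = 2 := by decide +kernel

theorem five_pairs : ∀ σ : Perm (Fin 5), Perm.sign σ = 1 → σ * σ = 1 → σ ≠ 1 →
    (Finset.univ.filter fun τ : Perm (Fin 5) =>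
      Perm.sign τ = 1 ∧ τ * τ = 1 ∧ (τ = σ ∨ σ * τ ≠ τ * σ)).card = 13 ∧
    ∀ τ : Perm (Fin 5), Perm.sign τ = 1 → τ * τ = 1 → σ * τ ≠ τ * σ → (σ * τ) ^ 15 = 1 := by
  decide +kernel

theorem A5_pairs {K : Type*} [Group K] (f : K ≃* alternatingGroup (Fin 5)) (p : K) (hp : p * p = 1) (hp1 : p ≠ 1) :
    Nat.card {k : K // k * k = 1 ∧ (k = p ∨ p * k ≠ k * p)} = 13 ∧
    ∀ k : K, k * k = 1 → p * k ≠ k * p → (p * k) ^ 15 = 1 := by
  classical
  have mp : ∀ {q r : K}, ((f q : Perm (Fin 5)) * (f r : Perm (Fin 5))) = ((f (q * r)) : Perm (Fin 5)) :=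
    fun {q r} => by rw [map_mul, Subgroup.coe_mul]
  have inj : ∀ {q r : K}, (f q : Perm (Fin 5)) = (f r : Perm (Fin 5)) → q = r := fun h =>
    f.injective (Subtype.ext h)
  have one : ((f (1 : K)) : Perm (Fin 5)) = 1 := by rw [map_one, Subgroup.coe_one]
  obtain ⟨h13, h15⟩ := five_pairs (f p : Perm (Fin 5)) (Equiv.Perm.mem_alternatingGroup.1 (f p).2)
    (by rw [mp, hp, one]) (fun h => hp1 (inj (h.trans one.symm)))
  constructor
  · refine Eq.trans (Nat.card_congr ?_) ((Nat.card_eq_finsetCard _).trans h13)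
    refine Equiv.ofBijective (fun k : {k : K // k * k = 1 ∧ (k = p ∨ p * k ≠ k * p)} =>
      (⟨(f k.1 : Perm (Fin 5)), Finset.mem_filter.2 ⟨Finset.mem_univ _, Equiv.Perm.mem_alternatingGroup.1 (f k.1).2,
        by rw [mp, k.2.1, one], k.2.2.imp (fun h => by rw [h]) fun h e => h (inj (by rw [← mp, ← mp]; exact e))⟩⟩ :
        {τ // τ ∈ Finset.univ.filter fun τ : Perm (Fin 5) => Perm.sign τ = 1 ∧ τ * τ = 1 ∧
          (τ = (f p : Perm (Fin 5)) ∨ (f p : Perm (Fin 5)) * τ ≠ τ * (f p : Perm (Fin 5)))})) ⟨?_, ?_⟩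
    · exact fun q r e => Subtype.ext (inj (congrArg Subtype.val e :))
    · rintro ⟨τ, hτ⟩
      obtain ⟨-, h1, h2, h3⟩ := Finset.mem_filter.1 hτ
      obtain ⟨k, hk⟩ := f.surjective ⟨τ, Equiv.Perm.mem_alternatingGroup.2 h1⟩
      have hk' : (f k : Perm (Fin 5)) = τ := by rw [hk]
      subst hk'
      exact ⟨⟨k, inj (by rw [← mp, h2, one]),
        h3.imp (fun h => inj h) fun h e => h (by rw [mp, mp, e])⟩, rfl⟩
  · intro k hk hne
    have := h15 (f k : Perm (Fin 5)) (Equiv.Perm.mem_alternatingGroup.1 (f k).2) (by rw [mp, hk, one])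
      (fun e => hne (inj (by rw [← mp, ← mp]; exact e)))
    rw [mp, ← Subgroup.coe_pow, ← map_pow, ← one] at this
    exact inj this

universe u

variable {G : Type u} [Group G] [Finite G] {z a x m l₀ l₁ y g e : G} {E G0 : Subgroup G} {ψ : G → S4}

theorem orbit_card (H : Subgroup G) (t : G) (P : G → Prop) (hP : ∀ q, P q ↔ ∃ h ∈ H, q = h * t * h⁻¹) :
    Nat.card {q : G // P q} * Nat.card (H ⊓ Subgroup.centralizer ({t} : Set G) : Subgroup G) = Nat.card H := by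
  classical
  set C : Subgroup G := H ⊓ Subgroup.centralizer ({t} : Set G) with hC
  rw [mul_comm, ← Nat.card_congr (Subgroup.subgroupOfEquivOfLe (inf_le_left : C ≤ H)).toEquiv,
    ← (C.subgroupOf H).card_mul_index]
  congr 1
  refine (Nat.card_congr (Equiv.ofBijective (fun q : H ⧸ C.subgroupOf H =>
    (⟨(q.out : G) * t * (q.out : G)⁻¹, (hP _).2 ⟨q.out, q.out.2, rfl⟩⟩ : {q : G // P q})) ⟨?_, ?_⟩)).symm
  · intro p q h
    rw [← QuotientGroup.out_eq' p, ← QuotientGroup.out_eq' q, QuotientGroup.eq, Subgroup.mem_subgroupOf]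
    refine Subgroup.mem_inf.2 ⟨(p.out⁻¹ * q.out).2, mem_cent.2 ?_⟩
    have h' : (p.out : G) * t * (p.out : G)⁻¹ = q.out * t * (q.out : G)⁻¹ := congrArg Subtype.val h
    push_cast
    calc (p.out : G)⁻¹ * q.out * t = (p.out : G)⁻¹ * (q.out * t * (q.out : G)⁻¹) * q.out := by group
      _ = (p.out : G)⁻¹ * (p.out * t * (p.out : G)⁻¹) * q.out := by rw [h']
      _ = t * ((p.out : G)⁻¹ * q.out) := by group
  · rintro ⟨q, hq⟩
    obtain ⟨h, hh, rfl⟩ := (hP q).1 hq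
    refine ⟨QuotientGroup.mk ⟨h, hh⟩, Subtype.ext ?_⟩
    obtain ⟨c, hc⟩ := QuotientGroup.mk_out_eq_mul (C.subgroupOf H) ⟨h, hh⟩
    have hc2 : ((c : H) : G) * t = t * ((c : H) : G) := mem_cent.1 (Subgroup.mem_inf.1 c.2).2
    show ((QuotientGroup.mk (⟨h, hh⟩ : H) : H ⧸ C.subgroupOf H).out : G) * t * _ = _
    rw [hc, Subgroup.coe_mul, cj_cj h, cj_iff.2 hc2]

/-- An involution of the coset of `g`. -/
def IsQ (g : G) (G0 : Subgroup G) (q : G) : Prop := g * q ∈ G0 ∧ q * q = 1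

/-- An involution of the coset of `g` inside `C`. -/
def InIg (z a g : G) (G0 : Subgroup G) (q : G) : Prop := InC z a q ∧ IsQ g G0 q

namespace Frame

variable (F : Frame z a E ψ) (D : TData z a E ψ x m l₀ l₁)
include F D

theorem sign_x : Perm.sign (ψ x) = 1 := by
  have h3 := congrArg Perm.sign D.X.θ3
  rw [map_pow, map_one] at h3
  rcases Int.units_eq_one_or (Perm.sign (ψ x)) with h | h
  · exact h
  · rw [h] at h3; exact absurd h3 (by decide)

/-- Translating inside `m l₁ ⟨z, a⟩` by conjugation. -/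
theorem shift {u : G} (hu : InU z a u) : ∃ l, InE1 a E l ∧ l * (m * l₁) * l⁻¹ = m * l₁ * u := by
  have h1 : l₁ * (m * l₁) * l₁⁻¹ = m * l₁ * a := by rw [← F.l1_m D]; group
  have h0 : l₀ * (m * l₁) * l₀⁻¹ = m * l₁ * z := by
    rw [cj_mul, show l₀ * m * l₀⁻¹ = m from cj_iff.2 D.c₀.symm, F.l0_conj_l1 D, mul_assoc]
  rcases hu with rfl | rfl | rfl | rfl
  · exact ⟨1, ⟨E.one_mem, by simp⟩, by group⟩
  · exact ⟨l₀, D.h₀, h0⟩
  · exact ⟨l₁, D.h₁, h1⟩
  · refine ⟨l₀ * l₁, F.E1_mul D.h₀ D.h₁, ?_⟩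
    rw [cj_cj, h1, cj_mul, h0, show l₀ * a * l₀⁻¹ = a from cj_iff.2 D.h₀.2, mul_assoc (m * l₁) z, ← F.az]

variable (P : Pair z a x ψ y g) (R : Res z a E ψ g e G0) (hm : m * m = a * z)
  (hv : ∃ k, k * z * k⁻¹ = m * l₁)
include P R hm hv

omit hv in
theorem T_mem {t : G} (ht : InT z a ψ t) : t ∈ G0 := (R.mem t ht.1.1).2 ⟨ht.1, ht.2.2⟩

theorem g_not : g ∉ G0 := fun h => by
  obtain ⟨-, hs⟩ := (R.mem g P.gC.1).1 h
  rw [(F.gψ2 D P).2.2] at hs
  exact absurd hs (by decide)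

theorem y_mem : y ∈ G0 := R.odd y (Odd.of_dvd_nat (by decide) (orderOf_dvd_of_pow_eq_one P.y3))

theorem decomp (k : G) :
    ∃ h s, h ∈ G0 ∧ s * z = z * s ∧ k = h * s := by
  classical
  haveI : Fact (Nat.Prime 2) := ⟨Nat.prime_two⟩
  haveI := R.normal
  obtain ⟨hγ, hγV, -⟩ := F.gψ2 D P
  obtain ⟨S, -, hS⟩ := F.exists_S D hγ hγV
  have htop : G0 ⊔ (S : Subgroup G) = ⊤ := by
    rw [← Subgroup.index_eq_one]
    have h1 : (G0 ⊔ (S : Subgroup G)).index ∣ 2 ^ 2 := (Subgroup.index_dvd_of_le le_sup_left).trans (dvd_of_eq (R.index.trans (by norm_num)))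
    have h2 : (G0 ⊔ (S : Subgroup G)).index ∣ (S : Subgroup G).index := Subgroup.index_dvd_of_le le_sup_right
    obtain ⟨i, -, hi⟩ := (Nat.dvd_prime_pow Nat.prime_two).1 h1
    rcases i with _ | i
    · exact hi.trans (pow_zero 2)
    · exact absurd (dvd_trans (by rw [hi, pow_succ]; exact dvd_mul_left 2 _) h2) S.not_dvd_index
  have hk : k ∈ ((G0 ⊔ (S : Subgroup G) : Subgroup G) : Set G) := by rw [htop]; trivial
  rw [Subgroup.normal_mul] at hk
  obtain ⟨h, hh, s, hs, e⟩ := hk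
  exact ⟨h, s, hh, ((hS s).1 hs).1, e.symm⟩

theorem decomp_z (k : G) : ∃ h, h ∈ G0 ∧ k * z * k⁻¹ = h * z * h⁻¹ := by
  obtain ⟨h, s, hh, hs, rfl⟩ := F.decomp D P R hm hv k
  exact ⟨h, hh, by rw [cj_cj, cj_iff.2 hs]⟩

/-- An involution of `G0 ∪ g G0` has a conjugate by `G0` in the Sylow subgroup through `g`. -/
theorem into_S {q : G} (hq2 : q * q = 1) : ∃ h, h ∈ G0 ∧ (h⁻¹ * q * h) * z = z * (h⁻¹ * q * h) ∧
    InD (ψ g) (ψ (h⁻¹ * q * h)) := by
  classical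
  haveI : Fact (Nat.Prime 2) := ⟨Nat.prime_two⟩
  haveI := R.normal
  obtain ⟨hγ, hγV, -⟩ := F.gψ2 D P
  obtain ⟨S, -, hS⟩ := F.exists_S D hγ hγV
  have hp : IsPGroup 2 (Subgroup.zpowers q) := by
    intro ⟨c, hc⟩
    obtain ⟨i, rfl⟩ := Subgroup.mem_zpowers_iff.1 hc
    refine ⟨1, Subtype.ext ?_⟩
    show (q ^ i) ^ 2 ^ 1 = 1
    rw [pow_one, pow_two, ← zpow_add, ← two_mul, zpow_mul, zpow_ofNat, pow_two, hq2, one_zpow]
  obtain ⟨S', hS'⟩ := hp.exists_le_sylow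
  obtain ⟨k, rfl⟩ := MulAction.exists_smul_eq G S S'
  have h := hS' (Subgroup.mem_zpowers q)
  rw [Sylow.coe_subgroup_smul, Subgroup.mem_pointwise_smul_iff_inv_smul_mem, ← map_inv, MulAut.smul_def,
    MulAut.conj_apply, inv_inv] at h
  have htop : G0 ⊔ (S : Subgroup G) = ⊤ := by
    rw [← Subgroup.index_eq_one]
    have h1 : (G0 ⊔ (S : Subgroup G)).index ∣ 2 ^ 2 := (Subgroup.index_dvd_of_le le_sup_left).trans (dvd_of_eq (R.index.trans (by norm_num)))
    have h2 : (G0 ⊔ (S : Subgroup G)).index ∣ (S : Subgroup G).index := Subgroup.index_dvd_of_le le_sup_right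
    obtain ⟨i, -, hi⟩ := (Nat.dvd_prime_pow Nat.prime_two).1 h1
    rcases i with _ | i
    · exact hi.trans (pow_zero 2)
    · exact absurd (dvd_trans (by rw [hi, pow_succ]; exact dvd_mul_left 2 _) h2) S.not_dvd_index
  have hk : k ∈ ((G0 ⊔ (S : Subgroup G) : Subgroup G) : Set G) := by rw [htop]; trivial
  rw [Subgroup.normal_mul] at hk
  obtain ⟨h0, hh0, s, hs, rfl⟩ := hk
  have hmem : h0⁻¹ * q * h0 ∈ (S : Subgroup G) := by
    have := mul_mem (mul_mem hs h) (inv_mem hs)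
    rwa [show s * ((h0 * s)⁻¹ * q * (h0 * s)) * s⁻¹ = h0⁻¹ * q * h0 by group] at this
  exact ⟨h0, hh0, (hS _).1 hmem⟩

/-- Involutions of the index four subgroup are conjugate to `z` there. -/
theorem invol_G0 {q : G} (hqG : q ∈ G0) (hq2 : q * q = 1) (hq1 : q ≠ 1) :
    ∃ h, h ∈ G0 ∧ q = h * z * h⁻¹ := by
  obtain ⟨h, hh, hz, -⟩ := F.into_S D P R hm hv hq2
  set t := h⁻¹ * q * h with ht
  have htG : t ∈ G0 := G0.mul_mem (G0.mul_mem (G0.inv_mem hh) hqG) hh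
  have ht2 : t * t = 1 := by
    calc t * t = h⁻¹ * (q * q) * h := by simp only [t]; group
      _ = 1 := by rw [hq2]; group
  have e : q = h * t * h⁻¹ := by simp only [t]; group
  obtain ⟨htC, hts⟩ := (R.mem t hz).1 htG
  have htT : InT z a ψ t := ⟨htC, even_invol _ (by rw [← F.B.ψ_mul _ _ hz hz, ht2, F.B.ψ_one]) hts⟩
  have ht1 : t ≠ 1 := fun h' => hq1 (by rw [e, h']; group)
  obtain ⟨k, hk⟩ : ∃ k, t = k * z * k⁻¹ := by
    by_cases hU : InU z a t
    · obtain ⟨i, hi⟩ := F.cyc_toz P.yz P.ya hU ht1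
      exact ⟨(y ^ i)⁻¹, by rw [← hi]; group⟩
    · obtain ⟨c, hc, ec⟩ := F.invol_conj D htT ht2 hU
      obtain ⟨k, hk⟩ := hv
      exact ⟨c * k, by rw [cj_cj, hk, ec]⟩
  obtain ⟨h', hh', e'⟩ := F.decomp_z D P R hm hv k
  exact ⟨h * h', G0.mul_mem hh hh', by rw [cj_cj, ← e', ← hk]; exact e⟩

theorem z_iff (p : G) : IsZ z p ↔ p ∈ G0 ∧ p * p = 1 ∧ p ≠ 1 := by
  constructor
  · rintro ⟨k, rfl⟩
    exact ⟨R.normal.conj_mem z (F.T_mem D P R hm (F.U_T (Or.inr (Or.inl rfl)))) k,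
      by rw [← cj_mul, F.B.zz]; group, fun e => F.B.z1 (conj_eq_one_iff.1 e)⟩
  · rintro ⟨h1, h2, h3⟩
    obtain ⟨h, -, e⟩ := F.invol_G0 D P R hm hv h1 h2 h3
    exact ⟨h, e⟩

omit hv in
/-- Inside `C ∩ G0` only `⟨z, a⟩` centralises `g`. -/
theorem cent_g {h : G} (hh : h ∈ G0) (hz : h * z = z * h) (hg : h * g = g * h) : InU z a h := by
  obtain ⟨hC, hs⟩ := (R.mem h hz).1 hh
  refine P.gT h ⟨hC, ?_⟩ hg.symm
  rcases cent_swap _ _ (ψ h) D.X.θ3 D.X.θ1 P.gψ (by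
    rw [← F.B.ψ_mul _ _ hz P.gC.1, hg, F.B.ψ_mul _ _ P.gC.1 hz]) with h' | h'
  · exact h'
  · exfalso
    have := h'.2
    rw [map_mul, hs, (F.gψ2 D P).2.2] at this
    exact absurd this (by decide)

omit hv in
theorem card_C0 : Nat.card (G0 ⊓ Subgroup.centralizer ({z} : Set G) : Subgroup G) = 192 := by
  classical
  set H0 : Subgroup G := G0 ⊓ Subgroup.centralizer ({z} : Set G)
  have hH : ∀ h, h ∈ H0 → h * z = z * h ∧ InC z a h ∧ Perm.sign (ψ h) = 1 := fun h hh => by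
    have hz := mem_cent.1 (Subgroup.mem_inf.1 hh).2
    exact ⟨hz, (R.mem h hz).1 (Subgroup.mem_inf.1 hh).1⟩
  let f : H0 →* S4 :=
    { toFun := fun h => ψ (h : G)
      map_one' := F.B.ψ_one
      map_mul' := fun p q => F.B.ψ_mul _ _ (hH p p.2).1 (hH q q.2).1 }
  have hker : Nat.card f.ker = 16 := by
    refine Eq.trans (Nat.card_congr ?_) F.card_E1
    refine
      { toFun := fun h => ⟨((h : H0) : G), (F.B.ψ_ker _ (hH h h.1.2).1).1 h.2, (hH h h.1.2).2.1.2⟩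
        invFun := fun q => ⟨⟨q.1, Subgroup.mem_inf.2 ⟨F.T_mem D P R hm (F.E1_T q.2), mem_cent.2 (F.B.Ez q.1 q.2.1)⟩⟩,
          (F.B.ψ_ker q.1 (F.B.Ez q.1 q.2.1)).2 q.2.1⟩
        left_inv := fun _ => rfl
        right_inv := fun _ => rfl }
  have hr : Nat.card f.range = 12 := by
    refine Eq.trans ?_ (show (Finset.univ.filter fun σ : S4 => Perm.sign σ = 1).card = 12 by decide +kernel)
    rw [Nat.card_eq_fintype_card, Fintype.card_subtype]
    congr 1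
    ext σ
    simp only [Finset.mem_filter, Finset.mem_univ, true_and, MonoidHom.mem_range]
    constructor
    · rintro ⟨h, rfl⟩; exact (hH h h.2).2.2
    · intro hσ
      obtain ⟨h, hh, rfl⟩ := F.ψ_surjC σ
      exact ⟨⟨h, Subgroup.mem_inf.2 ⟨(R.mem h hh.1).2 ⟨hh, hσ⟩, mem_cent.2 hh.1⟩⟩, rfl⟩
  rw [← f.ker.card_mul_index, Subgroup.index_ker, hker, hr]

/-- The involutions of the coset of `g` in `C` form one class of `C ∩ G0`. -/
theorem Ig_iff (q : G) : InIg z a g G0 q ↔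
    ∃ h ∈ (G0 ⊓ Subgroup.centralizer ({z} : Set G) : Subgroup G), q = h * g * h⁻¹ := by
  classical
  haveI := Fintype.ofFinite G
  obtain ⟨hγ, hγV, hγs⟩ := F.gψ2 D P
  constructor
  swap
  · rintro ⟨h, hh, rfl⟩
    obtain ⟨hhG, hhz⟩ := Subgroup.mem_inf.1 hh
    have hC := ((R.mem h (mem_cent.1 hhz)).1 hhG).1
    refine ⟨F.C_conj hC P.gC, ?_, by rw [← cj_mul, P.g2]; group⟩
    have := G0.mul_mem (R.normal.conj_mem h hhG g) (G0.inv_mem hhG)
    rwa [show g * h * g⁻¹ * h⁻¹ = g * h * g * h⁻¹ by rw [inv_sq P.g2],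
      show g * h * g * h⁻¹ = g * (h * g * h⁻¹) by group] at this
  rintro ⟨hqC, hqG, hq2⟩
  obtain ⟨hgC, hgs⟩ := (R.mem _ (F.C_mul P.gC hqC).1).1 hqG
  have hqs : Perm.sign (ψ q) = -1 := by
    rw [F.B.ψ_mul _ _ P.gC.1 hqC.1, map_mul, hγs] at hgs
    rcases Int.units_eq_one_or (Perm.sign (ψ q)) with h | h
    · rw [h] at hgs; exact absurd hgs (by decide)
    · exact h
  have hψq2 : ψ q * ψ q = 1 := by rw [← F.B.ψ_mul _ _ hqC.1 hqC.1, hq2, F.B.ψ_one]
  obtain ⟨σ, hσ, eσ⟩ := transp_conj _ _ hγ hγs hψq2 hqs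
  obtain ⟨c, hc, rfl⟩ := F.ψ_surjC σ
  have hc0 : c ∈ (G0 ⊓ Subgroup.centralizer ({z} : Set G) : Subgroup G) :=
    Subgroup.mem_inf.2 ⟨(R.mem c hc.1).2 ⟨hc, hσ⟩, mem_cent.2 hc.1⟩
  set q' := c⁻¹ * q * c with hq'
  have hq'C : InC z a q' := F.C_mul (F.C_mul (F.C_inv hc) hqC) hc
  have hq'ψ : ψ q' = ψ g := by
    rw [F.B.ψ_mul _ _ (F.C_mul (F.C_inv hc) hqC).1 hc.1, F.B.ψ_mul _ _ (F.C_inv hc).1 hqC.1, F.B.ψ_inv hc.1, ← eσ]
    group
  have hq'2 : q' * q' = 1 := by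
    calc q' * q' = c⁻¹ * (q * q) * c := by simp only [q']; group
      _ = 1 := by rw [hq2]; group
  -- candidates: at most eight
  let K : Subgroup G :=
    { carrier := {η | InE1 a E η ∧ InU z a (η⁻¹ * (g * η * g⁻¹))}
      one_mem' := ⟨⟨E.one_mem, by simp⟩, Or.inl (by group)⟩
      mul_mem' := fun {p r} hp hr => ⟨F.E1_mul hp.1 hr.1, by
        rw [cj_mul, show (p * r)⁻¹ * (g * p * g⁻¹ * (g * r * g⁻¹)) =
          r⁻¹ * (p⁻¹ * (g * p * g⁻¹)) * r * (r⁻¹ * (g * r * g⁻¹)) by group,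
          show r⁻¹ * (p⁻¹ * (g * p * g⁻¹)) * r = p⁻¹ * (g * p * g⁻¹) by
            rw [mul_assoc r⁻¹, ← F.U_comm hp.2 (F.E1_C hr.1)]; group]
        exact F.U_mul hp.2 hr.2⟩
      inv_mem' := fun {p} hp => ⟨F.E1_inv hp.1, by
        have h := F.U_conj (F.E1_C hp.1) (F.U_inv hp.2)
        rw [show p * (p⁻¹ * (g * p * g⁻¹))⁻¹ * p⁻¹ = p⁻¹⁻¹ * (g * p⁻¹ * g⁻¹) by group] at h
        rw [h]; exact F.U_inv hp.2⟩ }
  obtain ⟨E1, hE1⟩ : ∃ E1 : Subgroup G, ∀ η, η ∈ E1 ↔ InE1 a E η :=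
    ⟨E ⊓ Subgroup.centralizer ({a} : Set G), fun η => by rw [Subgroup.mem_inf, mem_cent]; exact Iff.rfl⟩
  have hK8 : Nat.card K ≤ 8 := by
    have hle : K ≤ E1 := fun η hη => (hE1 η).2 hη.1
    have h16 : Nat.card E1 = 16 := by
      rw [← F.card_E1]; exact Nat.card_congr (Equiv.subtypeEquivRight hE1)
    have hne : K ≠ E1 := fun h => by
      obtain ⟨η, hη, hn⟩ := F.exists_moved P.gC.1 hγV
      exact hn (h ▸ (hE1 η).2 hη : η ∈ K).2
    have hd := Subgroup.card_dvd_of_le hle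
    rw [h16] at hd
    have hlt : Nat.card K ≠ 16 := fun h => hne (Subgroup.eq_of_le_of_card_ge hle (by rw [h16, h]))
    have := Nat.le_of_dvd (by norm_num) hd
    obtain ⟨i, hi, e⟩ := (Nat.dvd_prime_pow Nat.prime_two (m := 4)).1 hd
    interval_cases i <;> omega
  have inK : ∀ r, InC z a r → r * r = 1 → ψ r = ψ g → g * r ∈ K := by
    intro r hr hr2 hrψ
    have hE : InE1 a E (g * r) := by
      refine ⟨(F.B.ψ_ker _ (F.C_mul P.gC hr).1).1 ?_, (F.C_mul P.gC hr).2⟩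
      rw [F.B.ψ_mul _ _ P.gC.1 hr.1, hrψ, hγ]
    refine ⟨hE, ?_⟩
    have hU : InU z a (g * r * (g * r)) := F.T_sq (F.E1_T hE)
    have e : (g * r)⁻¹ * (g * (g * r) * g⁻¹) = (g * r * (g * r))⁻¹ := by
      rw [mul_inv_rev (g * r), mul_inv_rev, inv_sq P.g2, inv_sq hr2, ← mul_assoc g g r, P.g2, one_mul]
    rw [e]; exact F.U_inv hU
  -- the orbit has eight
  obtain ⟨T, hT64, hT⟩ := F.exists_T D
  let Tg : Subgroup G :=
    { carrier := {t | InT z a ψ t ∧ ψ t * ψ g = ψ g * ψ t}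
      one_mem' := ⟨F.U_T (Or.inl rfl), by rw [F.B.ψ_one, one_mul, mul_one]⟩
      mul_mem' := fun {p r} hp hr => ⟨F.T_mul hp.1 hr.1, by
        rw [F.B.ψ_mul _ _ hp.1.1.1 hr.1.1.1]; exact mul_comm' hp.2 hr.2⟩
      inv_mem' := fun {p} hp => ⟨F.T_inv hp.1, by rw [F.B.ψ_inv hp.1.1.1]; exact inv_comm' hp.2⟩ }
  have h32 : Nat.card Tg = 32 := by
    let f : Tg →* S4 :=
      { toFun := fun t => ψ (t : G)
        map_one' := F.B.ψ_one
        map_mul' := fun p r => F.B.ψ_mul _ _ p.2.1.1.1 r.2.1.1.1 }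
    have hker : Nat.card f.ker = 16 := by
      refine Eq.trans (Nat.card_congr ?_) F.card_E1
      refine
        { toFun := fun t => ⟨((t : Tg) : G), (F.B.ψ_ker _ t.1.2.1.1.1).1 t.2, t.1.2.1.1.2⟩
          invFun := fun η => ⟨⟨η.1, F.E1_T η.2, by
            rw [(F.B.ψ_ker η.1 (F.B.Ez η.1 η.2.1)).2 η.2.1, one_mul, mul_one]⟩,
            (F.B.ψ_ker η.1 (F.B.Ez η.1 η.2.1)).2 η.2.1⟩
          left_inv := fun _ => rfl
          right_inv := fun _ => rfl }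
    have hr : Nat.card f.range = 2 := by
      refine Eq.trans ?_ (card_cent_V _ hγ hγs)
      rw [Nat.card_eq_fintype_card, Fintype.card_subtype]
      congr 1
      ext σ
      simp only [Finset.mem_filter, Finset.mem_univ, true_and, MonoidHom.mem_range]
      constructor
      · rintro ⟨t, rfl⟩; exact ⟨t.2.1.2, t.2.2⟩
      · rintro ⟨hσ, hσg⟩
        obtain ⟨h, hh, rfl⟩ := F.ψ_surjC σ
        exact ⟨⟨h, ⟨hh, hσ⟩, hσg⟩, rfl⟩
    rw [← f.ker.card_mul_index, Subgroup.index_ker, hker, hr]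
  have hψc : ∀ t : Tg, ψ ((t : G) * g * (t : G)⁻¹) = ψ g := fun t => by
    rw [F.B.ψ_conj t.2.1.1.1 P.gC.1, t.2.2, mul_inv_cancel_right]
  let C' : Subgroup Tg := (Subgroup.centralizer ({g} : Set G)).subgroupOf Tg
  have hC'4 : Nat.card C' ≤ 4 := by
    rw [← F.card_U]
    exact Nat.card_le_card_of_injective
      (fun t : C' => (⟨((t : Tg) : G), P.gT _ t.1.2.1 (mem_cent.1 (Subgroup.mem_subgroupOf.1 t.2)).symm⟩ :
        {u : G // InU z a u}))
      fun p r e => Subtype.ext (Subtype.ext (congrArg Subtype.val e :))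
  let f : Tg ⧸ C' → K := fun t => ⟨g * ((t.out : G) * g * (t.out : G)⁻¹),
    inK _ (F.C_conj t.out.2.1.1 P.gC) (by rw [← cj_mul, P.g2]; group) (hψc t.out)⟩
  have hf : Function.Injective f := by
    intro p r h
    rw [← QuotientGroup.out_eq' p, ← QuotientGroup.out_eq' r, QuotientGroup.eq, Subgroup.mem_subgroupOf, mem_cent]
    have h' := mul_left_cancel (congrArg Subtype.val h :)
    push_cast
    calc (p.out : G)⁻¹ * r.out * g = (p.out : G)⁻¹ * (r.out * g * (r.out : G)⁻¹) * r.out := by group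
      _ = (p.out : G)⁻¹ * (p.out * g * (p.out : G)⁻¹) * r.out := by rw [h']
      _ = g * ((p.out : G)⁻¹ * r.out) := by group
  have h8 : 8 ≤ Nat.card (Tg ⧸ C') := by
    have := C'.card_mul_index
    rw [h32, show C'.index = Nat.card (Tg ⧸ C') from rfl] at this
    by_contra hlt
    have h28 : Nat.card C' * Nat.card (Tg ⧸ C') ≤ 4 * 7 := Nat.mul_le_mul hC'4 (by omega)
    omega
  have hbij := hf.bijective_of_nat_card_le (hK8.trans h8)
  obtain ⟨t, ht⟩ := hbij.2 ⟨g * q', inK q' hq'C hq'2 hq'ψ⟩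
  have e : (t.out : G) * g * (t.out : G)⁻¹ = q' := mul_left_cancel (congrArg Subtype.val ht :)
  refine ⟨c * t.out, Subgroup.mul_mem _ hc0 (Subgroup.mem_inf.2 ⟨F.T_mem D P R hm t.out.2.1,
    mem_cent.2 t.out.2.1.1.1⟩), ?_⟩
  rw [cj_cj, e]; simp only [q']; group

theorem card_Ig : Nat.card {q : G // InIg z a g G0 q} = 48 := by
  have h := orbit_card (G0 ⊓ Subgroup.centralizer ({z} : Set G)) g _ (F.Ig_iff D P R hm hv)
  have hC : Nat.card ((G0 ⊓ Subgroup.centralizer ({z} : Set G)) ⊓ Subgroup.centralizer ({g} : Set G) : Subgroup G) = 4 := by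
    rw [← F.card_U]
    refine Nat.card_congr (Equiv.subtypeEquivRight fun h => ⟨fun hh => ?_, fun hu => ?_⟩)
    · simp only [Subgroup.mem_inf, mem_cent] at hh
      exact F.cent_g D P R hm hh.1.1 hh.1.2 hh.2
    · simp only [Subgroup.mem_inf, mem_cent]
      exact ⟨⟨F.T_mem D P R hm (F.U_T hu), (F.U_T hu).1.1⟩, (F.U_comm hu P.gC).symm⟩
  rw [hC, F.card_C0 D P R hm] at h
  omega

omit hv in
/-- `g` moves an involution of `T` outside its own elementary group. -/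
theorem g_swaps {p : G} (hp : InT z a ψ p) (hp2 : p * p = 1) (hpU : ¬ InU z a p) :
    p * (g * p * g⁻¹) ≠ g * p * g⁻¹ * p := by
  intro hc
  set p' := g * p * g⁻¹ with hp'
  have hp'T : InT z a ψ p' := F.V_conj P.gC hp
  have hp'2 : p' * p' = 1 := by simp only [p']; rw [← cj_mul, hp2]; group
  have hfix : g * p' * g⁻¹ = p := by
    simp only [p']; rw [← cj_cj, P.g2]; group
  have hu : InU z a (p * p') := P.gT _ (F.T_mul hp hp'T) (cj_iff.1 (by rw [cj_mul, hfix, ← hp', hc]))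
  obtain ⟨c, hcC, ec⟩ := F.invol_conj D hp hp2 hpU
  obtain ⟨l, hl, el⟩ := F.shift D hu
  have hlC := F.E1_C hl
  set d := c * l * c⁻¹ with hd
  have hdC : InC z a d := F.C_conj hcC hlC
  have e1 : d * p * d⁻¹ = p' := by
    rw [hd, ← ec, show c * l * c⁻¹ * (c * (m * l₁) * c⁻¹) * (c * l * c⁻¹)⁻¹ = c * (l * (m * l₁) * l⁻¹) * c⁻¹ by group,
      el, cj_mul, ec, F.U_conj hcC hu, ← mul_assoc, hp2, one_mul]
  set r := c⁻¹ * (d⁻¹ * g) * c with hr
  have hrC : InC z a r := F.C_mul (F.C_mul (F.C_inv hcC) (F.C_mul (F.C_inv hdC) P.gC)) hcC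
  refine F.no_fix_v D hm hrC ?_ ?_
  · intro hV
    refine (F.gψ2 D P).2.1 ?_
    have hd1 : ψ d = 1 := by
      rw [F.B.ψ_conj hcC.1 hlC.1, (F.B.ψ_ker l hlC.1).2 hl.1]; group
    rw [F.B.ψ_mul _ _ (F.C_mul (F.C_inv hcC) (F.C_mul (F.C_inv hdC) P.gC)).1 hcC.1,
      F.B.ψ_mul _ _ (F.C_inv hcC).1 (F.C_mul (F.C_inv hdC) P.gC).1, F.B.ψ_mul _ _ (F.C_inv hdC).1 P.gC.1,
      F.B.ψ_inv hdC.1, hd1, inv_one, one_mul, F.B.ψ_inv hcC.1] at hV
    have := inV_conj (ψ c) _ hV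
    rwa [show ψ c * ((ψ c)⁻¹ * ψ g * ψ c) * (ψ c)⁻¹ = ψ g by group] at this
  · have e2 : d⁻¹ * (g * p * g⁻¹) * d = p := by rw [← hp', ← e1]; group
    refine cj_iff.1 (cj_inj (a := c) ?_)
    calc c * (r * (m * l₁) * r⁻¹) * c⁻¹ = d⁻¹ * (g * (c * (m * l₁) * c⁻¹) * g⁻¹) * d := by simp only [r]; group
      _ = c * (m * l₁) * c⁻¹ := by rw [ec, e2]

theorem coset_prod {p q : G} (hp : p ∈ G0) (hq : IsQ g G0 q) : g * (p * q) ∈ G0 := by
  have := G0.mul_mem (R.normal.conj_mem p hp g) hq.1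
  rwa [show g * p * g⁻¹ * (g * q) = g * (p * q) by group] at this

theorem sq_coset {r : G} (hr : g * r ∈ G0) : r * r ∈ G0 := by
  have h2 := R.normal.conj_mem _ hr g⁻¹
  rw [inv_inv, show g⁻¹ * (g * r) * g = r * g by group] at h2
  have := G0.mul_mem h2 hr
  rwa [show r * g * (g * r) = r * (g * g) * r by group, P.g2, mul_one] at this

theorem Q_conj (h : G) (hh : h ∈ G0) {q : G} (hq : IsQ g G0 q) : IsQ g G0 (h * q * h⁻¹) := by
  refine ⟨?_, by rw [← cj_mul, hq.2]; group⟩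
  have := G0.mul_mem (G0.mul_mem (R.normal.conj_mem h hh g) hq.1) (G0.inv_mem hh)
  rwa [show g * h * g⁻¹ * (g * q) * h⁻¹ = g * (h * q * h⁻¹) by group] at this

theorem Q_iff (q : G) : IsQ g G0 q ↔ ∃ h ∈ G0, q = h * g * h⁻¹ := by
  constructor
  · intro hq
    obtain ⟨h, hh, hz, hD⟩ := F.into_S D P R hm hv hq.2
    have ht := F.Q_conj D P R hm hv h⁻¹ (G0.inv_mem hh) hq
    rw [inv_inv] at ht
    set t := h⁻¹ * q * h with htd
    obtain ⟨hgC, -⟩ := (R.mem _ (mul_comm' P.gC.1 hz)).1 ht.1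
    have htC : InC z a t := by
      have := F.C_mul (F.C_inv P.gC) hgC
      rwa [inv_mul_cancel_left] at this
    obtain ⟨c, hc, e⟩ := (F.Ig_iff D P R hm hv t).1 ⟨htC, ht⟩
    exact ⟨h * c, G0.mul_mem hh (Subgroup.mem_inf.1 hc).1, by rw [cj_cj, ← e]; simp only [t]; group⟩
  · rintro ⟨h, hh, rfl⟩
    exact F.Q_conj D P R hm hv h hh ⟨by rw [P.g2]; exact G0.one_mem, P.g2⟩

/-- Pairs over `z`. -/
theorem n_z : Nat.card {pq : G × G // IsZ z pq.1 ∧ IsQ g G0 pq.2 ∧ z ∈ Subgroup.zpowers (pq.1 * pq.2)} = 384 := by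
  classical
  haveI := Fintype.ofFinite G
  set n := Nat.card {pq : G × G // IsZ z pq.1 ∧ IsQ g G0 pq.2 ∧ z ∈ Subgroup.zpowers (pq.1 * pq.2)}
  have hyG := F.y_mem D P R hm hv
  have hyN := (F.cyc_U P.yz P.ya).2
  have hgn := F.g_not D P R hm hv
  have same : ∀ u, InU z a u → u ≠ 1 →
      Nat.card {pq : G × G // IsZ z pq.1 ∧ IsQ g G0 pq.2 ∧ u ∈ Subgroup.zpowers (pq.1 * pq.2)} = n := by
    intro u hu hu1
    obtain ⟨i, hi⟩ := F.cyc_toz P.yz P.ya hu hu1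
    set c := y ^ i with hc
    have push : ∀ (c : G), c ∈ G0 → ∀ {p q r : G}, IsZ z p ∧ IsQ g G0 q ∧ r ∈ Subgroup.zpowers (p * q) →
        IsZ z (c * p * c⁻¹) ∧ IsQ g G0 (c * q * c⁻¹) ∧
          c * r * c⁻¹ ∈ Subgroup.zpowers (c * p * c⁻¹ * (c * q * c⁻¹)) := by
      rintro c hc p q r ⟨⟨j, rfl⟩, hq, i, rfl⟩
      exact ⟨⟨c * j, (cj_cj _ _ _).symm⟩, F.Q_conj D P R hm hv c hc hq, i,
        by show _ ^ i = _; rw [← cj_mul, conj_zpow]⟩
    exact Nat.card_congr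
      { toFun := fun pq : {pq : G × G // IsZ z pq.1 ∧ IsQ g G0 pq.2 ∧ u ∈ Subgroup.zpowers (pq.1 * pq.2)} =>
          (⟨(c * pq.1.1 * c⁻¹, c * pq.1.2 * c⁻¹), by
            have := push c (G0.pow_mem hyG i) pq.2; rwa [hi] at this⟩ :
            {pq : G × G // IsZ z pq.1 ∧ IsQ g G0 pq.2 ∧ z ∈ Subgroup.zpowers (pq.1 * pq.2)})
        invFun := fun pq => ⟨(c⁻¹ * pq.1.1 * c⁻¹⁻¹, c⁻¹ * pq.1.2 * c⁻¹⁻¹), by
          have := push c⁻¹ (G0.inv_mem (G0.pow_mem hyG i)) pq.2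
          rwa [show c⁻¹ * z * c⁻¹⁻¹ = u by rw [← hi]; group] at this⟩
        left_inv := fun pq => Subtype.ext (Prod.ext (by simp [mul_assoc]) (by simp [mul_assoc]))
        right_inv := fun pq => Subtype.ext (Prod.ext (by simp [mul_assoc]) (by simp [mul_assoc])) }
  -- the pairs inside `C`
  have down : ∀ u p q, InU z a u → u ≠ 1 → IsZ z p → IsQ g G0 q → u ∈ Subgroup.zpowers (p * q) →
      (InT z a ψ p ∧ p * p = 1 ∧ ¬ InU z a p) ∧ InIg z a g G0 q := by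
    intro u p q hu hu1 hp hq hmem
    obtain ⟨hpG, hp2, hp1⟩ := (F.z_iff D P R hm hv p).1 hp
    have hq1 : q ≠ 1 := fun e => hgn (by have := hq.1; rwa [e, mul_one] at this)
    obtain ⟨hev, eu⟩ := Invol.eq_half (Invol.order_two_of_sq (F.U_sq hu) hu1) hmem
    obtain ⟨ctp, ctq⟩ := Invol.half_commute (Invol.order_two_of_sq hp2 hp1) (Invol.order_two_of_sq hq.2 hq1) hev
    rw [← eu] at ctp ctq
    obtain ⟨i, hi⟩ := F.cyc_toz P.yz P.ya hu hu1
    set c := y ^ i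
    have hcN : InN z a c := InN_pow hyN i
    have toC : ∀ r, r * u = u * r → (c * r * c⁻¹) * z = z * (c * r * c⁻¹) := fun r hr => by
      rw [← hi, ← cj_mul, hr, cj_mul]
    have back : ∀ r, InC z a (c * r * c⁻¹) → InC z a r := fun r hr => by
      have := F.norm_C D hcN hr
      rwa [show c⁻¹ * (c * r * c⁻¹) * c = r by group] at this
    obtain ⟨hpC, hps⟩ := (R.mem _ (toC p ctp.eq.symm)).1 (R.normal.conj_mem p hpG c)
    have hpT : InT z a ψ p := by
      have hc'N : InN z a c⁻¹ := fun u hu => by rw [inv_inv]; exact F.norm_U_inv hcN u hu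
      have hp' : InT z a ψ (c * p * c⁻¹) := ⟨hpC, even_invol _ (by
        rw [← F.B.ψ_mul _ _ hpC.1 hpC.1, ← cj_mul, hp2, mul_one, mul_inv_cancel, F.B.ψ_one]) hps⟩
      have := F.norm_T D hc'N hp'
      rwa [show c⁻¹ * (c * p * c⁻¹) * c⁻¹⁻¹ = p by group] at this
    have hqQ := F.Q_conj D P R hm hv c (G0.pow_mem hyG i) hq
    obtain ⟨hgqC, -⟩ := (R.mem _ (mul_comm' P.gC.1 (toC q ctq.eq.symm))).1 hqQ.1
    have hqC : InC z a q := back q (by
      have := F.C_mul (F.C_inv P.gC) hgqC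
      rwa [inv_mul_cancel_left] at this)
    refine ⟨⟨hpT, hp2, fun hpU => ?_⟩, hqC, hq⟩
    obtain ⟨j, hj⟩ := hmem
    have hj' : (p * q) ^ j = u := hj
    have hsq : (p * q) ^ 2 = 1 := by
      rw [pow_two, show p * q * (p * q) = p * (q * p) * q by group, F.U_comm hpU hqC,
        show p * (p * q) * q = p * p * (q * q) by group, hp2, hq.2, one_mul]
    rcases Int.even_or_odd j with ⟨d, hd⟩ | ⟨d, hd⟩
    · rw [hd, ← two_mul, zpow_mul, zpow_ofNat, hsq, one_zpow] at hj'; exact hu1 hj'.symm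
    · rw [hd, zpow_add, zpow_mul, zpow_ofNat, hsq, one_zpow, one_mul, zpow_one] at hj'
      refine hgn ?_
      have hqG : q ∈ G0 := by
        have : q = p * u := by rw [← hj', ← mul_assoc, hp2, one_mul]
        rw [this]; exact G0.mul_mem hpG (F.T_mem D P R hm (F.U_T hu))
      have := G0.mul_mem hq.1 (G0.inv_mem hqG)
      rwa [mul_inv_cancel_right] at this
  have up : ∀ p q, InT z a ψ p → p * p = 1 → ¬ InU z a p → InIg z a g G0 q →
      ∃ u, InU z a u ∧ u ≠ 1 ∧ u ∈ Subgroup.zpowers (p * q) := by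
    intro p q hp hp2 hpU hq
    refine ⟨p * (q * p * q⁻¹) * (p * (q * p * q⁻¹)), F.T_sq (F.T_mul hp (F.V_conj hq.1 hp)), ?_, ?_⟩
    · intro h
      obtain ⟨c, hc, rfl⟩ := (F.Ig_iff D P R hm hv q).1 hq
      obtain ⟨hcC, -⟩ := (R.mem c (mem_cent.1 (Subgroup.mem_inf.1 hc).2)).1 (Subgroup.mem_inf.1 hc).1
      set s := c * g * c⁻¹ * p * (c * g * c⁻¹)⁻¹
      have hss : s * s = 1 := by simp only [s]; rw [← cj_mul, hp2]; group
      have hcomm : p * s = s * p := by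
        have := inv_sq h
        rwa [mul_inv_rev, inv_sq hp2, inv_sq hss, eq_comm] at this
      have hp'2 : c⁻¹ * p * c * (c⁻¹ * p * c) = 1 := by
        rw [show c⁻¹ * p * c * (c⁻¹ * p * c) = c⁻¹ * (p * p) * c by group, hp2]; group
      have hp'T : InT z a ψ (c⁻¹ * p * c) := by
        have := F.V_conj (F.C_inv hcC) hp; rwa [inv_inv] at this
      refine F.g_swaps D P R hm hp'T hp'2 (fun hU => hpU ?_) ?_
      · have := F.U_conj hcC hU
        rw [show c * (c⁻¹ * p * c) * c⁻¹ = p by group] at this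
        rw [this]; exact hU
      · refine cj_inj (a := c) ?_
        rw [cj_mul, cj_mul c (g * (c⁻¹ * p * c) * g⁻¹), show c * (c⁻¹ * p * c) * c⁻¹ = p by group,
          show c * (g * (c⁻¹ * p * c) * g⁻¹) * c⁻¹ = s by simp only [s]; group]
        exact hcomm
    · refine ⟨4, ?_⟩
      show (p * q) ^ (4 : ℤ) = _
      rw [inv_sq hq.2.2, zpow_ofNat]
      simp [pow_succ, mul_assoc]
  obtain ⟨hU3, -⟩ : Nat.card {u : G // InU z a u ∧ u ≠ 1} = 3 ∧ True := by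
    refine ⟨?_, trivial⟩
    have h := Nat.card_congr (Equiv.sumCompl (fun u : {u : G // InU z a u} => (u : G) ≠ 1))
    rw [Nat.card_sum, Nat.card_congr (Equiv.subtypeSubtypeEquivSubtypeInter (InU z a) (· ≠ 1)), F.card_U] at h
    have h1 : Nat.card {u : {u : G // InU z a u} // ¬ (u : G) ≠ 1} = 1 :=
      Nat.card_eq_one_iff_exists.2 ⟨⟨⟨1, Or.inl rfl⟩, fun h => h rfl⟩, fun u =>
        Subtype.ext (Subtype.ext (not_not.1 u.2))⟩
    omega
  let f : (Σ u : {u : G // InU z a u ∧ u ≠ 1},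
      {pq : G × G // IsZ z pq.1 ∧ IsQ g G0 pq.2 ∧ (u : G) ∈ Subgroup.zpowers (pq.1 * pq.2)}) ≃
      ({p : G // InT z a ψ p ∧ p * p = 1 ∧ ¬ InU z a p} × {q : G // InIg z a g G0 q}) :=
    { toFun := fun s => (⟨s.2.1.1, (down s.1 _ _ s.1.2.1 s.1.2.2 s.2.2.1 s.2.2.2.1 s.2.2.2.2).1⟩,
        ⟨s.2.1.2, (down s.1 _ _ s.1.2.1 s.1.2.2 s.2.2.1 s.2.2.2.1 s.2.2.2.2).2⟩)
      invFun := fun p => ⟨⟨(up p.1.1 p.2.1 p.1.2.1 p.1.2.2.1 p.1.2.2.2 p.2.2).choose,
          (up p.1.1 p.2.1 p.1.2.1 p.1.2.2.1 p.1.2.2.2 p.2.2).choose_spec.1,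
          (up p.1.1 p.2.1 p.1.2.1 p.1.2.2.1 p.1.2.2.2 p.2.2).choose_spec.2.1⟩,
        ⟨(p.1.1, p.2.1), (F.z_iff D P R hm hv _).2 ⟨F.T_mem D P R hm p.1.2.1, p.1.2.2.1,
          fun e => p.1.2.2.2 (Or.inl e)⟩, p.2.2.2,
          (up p.1.1 p.2.1 p.1.2.1 p.1.2.2.1 p.1.2.2.2 p.2.2).choose_spec.2.2⟩⟩
      left_inv := by
        rintro ⟨⟨u, hu, hu1⟩, ⟨⟨p, q⟩, hp, hq, hmem⟩⟩
        have hh := down u p q hu hu1 hp hq hmem
        have hsp := (up p q hh.1.1 hh.1.2.1 hh.1.2.2 hh.2).choose_spec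
        have h1 := (Invol.eq_half (Invol.order_two_of_sq (F.U_sq hsp.1) hsp.2.1) hsp.2.2).2
        have h2 := (Invol.eq_half (Invol.order_two_of_sq (F.U_sq hu) hu1) hmem).2
        exact Sigma.subtype_ext (Subtype.ext (h1.trans h2.symm)) rfl
      right_inv := fun _ => rfl }
  have h := Nat.card_congr f
  rw [Nat.card_sigma, Finset.sum_congr rfl fun u _ => same u.1 u.2.1 u.2.2, Finset.sum_const, smul_eq_mul,
    Finset.card_univ, ← Nat.card_eq_fintype_card, hU3, Nat.card_prod, F.card_T_invol D hm,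
    F.card_Ig D P R hm hv] at h
  omega

theorem M_cases : Nat.card (G0 ⊓ Subgroup.centralizer ({g} : Set G) : Subgroup G) = 12 ∧
    (∀ p, p ∈ (G0 ⊓ Subgroup.centralizer ({g} : Set G) : Subgroup G) → p * p = 1 → InU z a p) ∨
    Nonempty ((G0 ⊓ Subgroup.centralizer ({g} : Set G) : Subgroup G) ≃* alternatingGroup (Fin 5)) := by
  classical
  haveI : Fact (Nat.Prime 2) := ⟨Nat.prime_two⟩
  set M : Subgroup G := G0 ⊓ Subgroup.centralizer ({g} : Set G) with hMd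
  have hM : ∀ h, h ∈ M ↔ h ∈ G0 ∧ h * g = g * h := fun h => by rw [Subgroup.mem_inf, mem_cent]
  have hUM : ∀ u, InU z a u → u ∈ M := fun u hu =>
    (hM u).2 ⟨F.T_mem D P R hm (F.U_T hu), (F.U_comm hu P.gC).symm⟩
  have hyM : y ∈ M := (hM y).2 ⟨F.y_mem D P R hm hv, P.gy.symm⟩
  have hcz : ∀ h, h ∈ M → h * z = z * h → InU z a h := fun h hh hz =>
    F.cent_g D P R hm ((hM h).1 hh).1 hz ((hM h).1 hh).2
  have hzU : InU z a z := Or.inr (Or.inl rfl)
  let zM : M := ⟨z, hUM z hzU⟩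
  let yM : M := ⟨y, hyM⟩
  by_cases hall : ∀ h, h ∈ M → InN z a h
  · left
    have toU : ∀ h, h ∈ M → ∃ i : Fin 3, InU z a (y ^ (i : ℕ) * h) := by
      intro h hh
      obtain ⟨i, hi⟩ := F.cyc_toz P.yz P.ya (hall h hh z hzU) (fun e => F.B.z1 (conj_eq_one_iff.1 e))
      refine ⟨⟨i % 3, Nat.mod_lt _ (by norm_num)⟩, ?_⟩
      show InU z a (y ^ (i % 3) * h)
      rw [← pow_eq_pow_mod i P.y3]
      exact hcz _ (M.mul_mem (M.pow_mem hyM i) hh) (cj_iff.1 (by rw [cj_cj, hi]))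
    have hinj : ∀ (i j : Fin 3) (u v : G), InU z a u → InU z a v →
        (y ^ (i : ℕ))⁻¹ * u = (y ^ (j : ℕ))⁻¹ * v → i = j ∧ u = v := by
      intro i j u v hu hv e
      have e' : y ^ (j : ℕ) * (y ^ (i : ℕ))⁻¹ = v * u⁻¹ := by
        calc y ^ (j : ℕ) * (y ^ (i : ℕ))⁻¹ = y ^ (j : ℕ) * ((y ^ (i : ℕ))⁻¹ * u) * u⁻¹ := by group
          _ = _ := by rw [e]; group
      have hij : i = j := by
        by_contra hne
        have hfix : ∀ k : ℕ, y ^ k * z * (y ^ k)⁻¹ = z → ¬ (k % 3 = 1 ∨ k % 3 = 2) := by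
          intro k hk h
          rw [pow_eq_pow_mod k P.y3] at hk
          rcases h with h | h <;> rw [h] at hk
          · rw [pow_one, P.yz] at hk; exact F.A.nez hk
          · rw [pow_two, cj_cj, P.yz, P.ya] at hk
            exact (F.B.nci_mul_z F.A).nez hk
        have hz' : y ^ (j : ℕ) * (y ^ (i : ℕ))⁻¹ * z = z * (y ^ (j : ℕ) * (y ^ (i : ℕ))⁻¹) := by
          rw [e']; exact (F.U_cases (F.U_mul hv (F.U_inv hu)) hzU).2.1
        have hp : y ^ (j : ℕ) * (y ^ (i : ℕ))⁻¹ = y ^ ((j : ℕ) + (3 - (i : ℕ))) := by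
          rw [pow_add, mul_right_inj]
          refine (eq_inv_of_mul_eq_one_left ?_).symm
          rw [← pow_add, Nat.sub_add_cancel (le_of_lt i.2), P.y3]
        rw [hp] at hz'
        refine hfix _ (cj_iff.2 hz') ?_
        have := i.2; have := j.2
        have : (i : ℕ) ≠ j := fun h => hne (Fin.ext h)
        omega
      exact ⟨hij, by rw [hij] at e; exact mul_left_cancel e⟩
    refine ⟨?_, fun p hp hp2 => ?_⟩
    · have hb : Function.Bijective (fun q : Fin 3 × {u : G // InU z a u} =>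
          (⟨(y ^ (q.1 : ℕ))⁻¹ * q.2.1, M.mul_mem (M.inv_mem (M.pow_mem hyM _)) (hUM _ q.2.2)⟩ : M)) := by
        refine ⟨?_, fun h => ?_⟩
        · rintro ⟨i, u, hu⟩ ⟨j, v, hv⟩ e
          obtain ⟨rfl, rfl⟩ := hinj i j u v hu hv (congrArg Subtype.val e :)
          rfl
        · obtain ⟨i, hi⟩ := toU h h.2
          exact ⟨(i, ⟨_, hi⟩), Subtype.ext (inv_mul_cancel_left _ _)⟩
      rw [← Nat.card_congr (Equiv.ofBijective _ hb), Nat.card_prod, Nat.card_fin, F.card_U]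
    · obtain ⟨i, hi⟩ := toU p hp
      by_cases hi0 : (i : ℕ) = 0
      · rwa [hi0, pow_zero, one_mul] at hi
      exfalso
      set u := y ^ (i : ℕ) * p
      have hpN : InN z a p := hall p hp
      have e : p = (y ^ (i : ℕ))⁻¹ * u := by simp only [u]; group
      -- `p` would move `z` and return it
      have h2 : p * (p * z * p⁻¹) * p⁻¹ = z := by rw [← cj_cj, hp2]; group
      have hpz : ∀ v, InU z a v → p * v * p⁻¹ = (y ^ (i : ℕ))⁻¹ * v * y ^ (i : ℕ) := fun v hv => by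
        rw [e, cj_cj, cj_iff.2 (F.U_cases hi hv).2.1, inv_inv]
      have h3 : (y ^ (i : ℕ))⁻¹ * ((y ^ (i : ℕ))⁻¹ * z * y ^ (i : ℕ)) * y ^ (i : ℕ) = z := by
        rw [← hpz z hzU, ← hpz _ (hpN z hzU)]; exact h2
      have h4 : y ^ (2 * (i : ℕ)) * z * (y ^ (2 * (i : ℕ)))⁻¹ = z := by
        rw [two_mul, pow_add, cj_cj]
        nth_rewrite 1 [← h3]
        group
      have : (i : ℕ) = 1 ∨ (i : ℕ) = 2 := by have := i.2; omega
      rcases this with h | h <;> rw [h] at h4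
      · rw [mul_one, pow_two, cj_cj, P.yz, P.ya] at h4
        exact (F.B.nci_mul_z F.A).nez h4
      · rw [show y ^ (2 * 2) = y ^ 3 * y from pow_succ y 3, P.y3, one_mul, P.yz] at h4
        exact F.A.nez h4
  right
  have hC4 : Nat.card (Subgroup.centralizer ({zM} : Set M)) = 4 := by
    refine Eq.trans (Nat.card_congr ?_) F.card_U
    refine
      { toFun := fun k => ⟨((k : M) : G), hcz _ (k : M).2 (congrArg Subtype.val (mem_cent.1 k.2))⟩
        invFun := fun u => ⟨⟨u.1, hUM u.1 u.2⟩, mem_cent.2 (Subtype.ext (F.U_comm u.2 ⟨rfl, F.az.symm⟩).symm)⟩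
        left_inv := fun _ => rfl
        right_inv := fun _ => rfl }
  refine Cfsg.Agent.S3277.result zM
    (orderOf_eq_prime (by rw [pow_two]; exact Subtype.ext F.B.zz) fun e => F.B.z1 (congrArg Subtype.val e))
    hC4 (fun c hc => by
      rw [pow_two]
      exact Subtype.ext (F.U_sq (hcz _ c.2 (congrArg Subtype.val (mem_cent.1 hc)))))
    ?_ ?_
  · rintro ⟨Q, N, hN, hc⟩
    haveI := hN
    have hNodd : ¬ 2 ∣ Nat.card N := fun h => Q.not_dvd_index (by rw [hc.index_eq_card]; exact h)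
    obtain ⟨n, hn⟩ := IsPGroup.iff_card.1 Q.isPGroup'
    have hNi : N.index = 2 ^ n := by
      have h1 := hc.card_mul
      rw [hn, ← N.card_mul_index] at h1
      exact (mul_left_cancel₀ Nat.card_pos.ne' h1).symm
    have hwN : yM ∈ N := by
      refine (QuotientGroup.eq_one_iff yM).1 (orderOf_eq_one_iff.1 ?_)
      have d1 : orderOf (yM : M ⧸ N) ∣ 3 := orderOf_dvd_iff_pow_eq_one.2 (by
        rw [← QuotientGroup.mk_pow, show yM ^ 3 = 1 from Subtype.ext P.y3]; rfl)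
      have d2 : orderOf (yM : M ⧸ N) ∣ 2 ^ n := by
        rw [← hNi]; exact orderOf_dvd_natCard _
      exact Nat.eq_one_of_dvd_coprimes (Nat.Coprime.pow_right n (by norm_num)) d1 d2
    have haz : yM * (zM * yM⁻¹ * zM⁻¹) ∈ N := N.mul_mem hwN (hN.conj_mem _ (N.inv_mem hwN) zM)
    have e : ((yM * (zM * yM⁻¹ * zM⁻¹) : M) : G) = a * z := by
      push_cast
      show y * (z * y⁻¹ * z⁻¹) = a * z
      rw [inv_sq F.B.zz, show y * (z * y⁻¹ * z) = y * z * y⁻¹ * z by group, P.yz]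
    refine hNodd ((dvd_of_eq ?_).trans (Subgroup.orderOf_dvd_natCard N haz))
    rw [← Subgroup.orderOf_coe, e]
    exact (orderOf_eq_prime (by rw [pow_two]; exact F.U_sq (Or.inr (Or.inr (Or.inr rfl))))
      (F.B.nci_mul_z F.A).ne1).symm
  · intro E' hEn hEe
    by_contra hcon
    have hle : 2 ≤ Nat.card E' := by
      rcases not_and_or.1 hcon with h | h <;> rw [not_not] at h <;> rw [h]
      norm_num
    haveI : Nontrivial E' := Finite.one_lt_card_iff_nontrivial.1 (by omega)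
    obtain ⟨c, hc, hc1⟩ := (Subgroup.nontrivial_iff_exists_ne_one E').1 inferInstance
    have hzz : zM * zM = 1 := Subtype.ext F.B.zz
    have hEc : ∀ p q : M, p ∈ E' → q ∈ E' → p * q = q * p := fun p q hp hq =>
      congrArg Subtype.val (hEe.1.is_comm.comm (⟨p, hp⟩ : E') ⟨q, hq⟩)
    obtain ⟨d, hd, hd1, hdz⟩ : ∃ d, d ∈ E' ∧ d ≠ 1 ∧ d * zM = zM * d := by
      set c' := zM * c * zM⁻¹ with hc'
      have hc'E : c' ∈ E' := hEn.conj_mem c hc zM
      by_cases h : c * c' = 1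
      · refine ⟨c, hc, hc1, (cj_iff.1 ?_).symm⟩
        have h2 : c * c = 1 := by rw [← pow_two]; exact hEe.2 c hc
        exact (eq_inv_of_mul_eq_one_right h).trans (inv_sq h2)
      · refine ⟨c * c', E'.mul_mem hc hc'E, h, (cj_iff.1 ?_).symm⟩
        rw [cj_mul, show zM * c' * zM⁻¹ = c by rw [hc', ← cj_cj, hzz]; group]
        exact hEc _ _ hc'E hc
    have hdU : InU z a (d : G) := hcz d d.2 (congrArg Subtype.val hdz)
    have hd1' : (d : G) ≠ 1 := fun e => hd1 (Subtype.ext e)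
    have hallU : ∀ u (hu : InU z a u), (⟨u, hUM u hu⟩ : M) ∈ E' := by
      intro u hu
      by_cases hu1 : u = 1
      · subst hu1; exact E'.one_mem
      obtain ⟨i, hi⟩ := F.cyc_toz P.yz P.ya hdU hd1'
      obtain ⟨j, hj⟩ := F.cyc_toz P.yz P.ya hu hu1
      have hzE : zM ∈ E' := by
        have := hEn.conj_mem d hd (yM ^ i)
        convert this using 1
        exact Subtype.ext (by push_cast; exact hi.symm)
      have := hEn.conj_mem zM hzE (yM ^ j)⁻¹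
      convert this using 1
      refine Subtype.ext ?_
      push_cast
      show u = (y ^ j)⁻¹ * z * (y ^ j)⁻¹⁻¹
      rw [← hj]; group
    refine hall fun h hh u hu => ?_
    have hE4 : ∀ k : M, k ∈ E' → InU z a (k : G) := fun k hk =>
      hcz k k.2 (congrArg Subtype.val (hEc k _ hk (hallU z hzU)))
    exact hE4 _ (hEn.conj_mem _ (hallU u hu) ⟨h, hh⟩)

theorem n_g_eq : Nat.card {pq : G × G // IsZ z pq.1 ∧ IsQ g G0 pq.2 ∧ g ∈ Subgroup.zpowers (pq.1 * pq.2)} = 3 ∧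
      Nat.card (G0 ⊓ Subgroup.centralizer ({g} : Set G) : Subgroup G) = 12 ∨
    Nat.card {pq : G × G // IsZ z pq.1 ∧ IsQ g G0 pq.2 ∧ g ∈ Subgroup.zpowers (pq.1 * pq.2)} = 195 ∧
      Nat.card (G0 ⊓ Subgroup.centralizer ({g} : Set G) : Subgroup G) = 60 ∧
      Nonempty ((G0 ⊓ Subgroup.centralizer ({g} : Set G) : Subgroup G) ≃* alternatingGroup (Fin 5)) := by
  classical
  haveI := Fintype.ofFinite G
  have hgn := F.g_not D P R hm hv
  set M : Subgroup G := G0 ⊓ Subgroup.centralizer ({g} : Set G) with hMd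
  have hM : ∀ h, h ∈ M ↔ h ∈ G0 ∧ h * g = g * h := fun h => by rw [Subgroup.mem_inf, mem_cent]
  have down : ∀ p q, IsZ z p → IsQ g G0 q → g ∈ Subgroup.zpowers (p * q) →
      p ∈ M ∧ p * p = 1 ∧ p ≠ 1 ∧ g * q ∈ M ∧ g * q * (g * q) = 1 ∧ (g * q = p ∨ p * (g * q) ≠ g * q * p) := by
    intro p q hp hq hmem
    obtain ⟨hpG, hp2, hp1⟩ := (F.z_iff D P R hm hv p).1 hp
    have hq1 : q ≠ 1 := fun e => hgn (by have := hq.1; rwa [e, mul_one] at this)
    obtain ⟨hev, eg⟩ := Invol.eq_half (Invol.order_two_of_sq P.g2 fun e => hgn (e ▸ G0.one_mem)) hmem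
    obtain ⟨ctp, ctq⟩ := Invol.half_commute (Invol.order_two_of_sq hp2 hp1) (Invol.order_two_of_sq hq.2 hq1) hev
    rw [← eg] at ctp ctq
    have hk2 : g * q * (g * q) = 1 := by
      rw [show g * q * (g * q) = g * (q * g) * q by group, ← ctq.eq, show g * (g * q) * q = g * g * (q * q) by group,
        P.g2, hq.2, one_mul]
    refine ⟨(hM p).2 ⟨hpG, ctp.eq.symm⟩, hp2, hp1, (hM _).2 ⟨hq.1, (comm_mul rfl ctq.eq).symm⟩, hk2, ?_⟩
    by_contra h
    push Not at h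
    obtain ⟨hne, hcomm⟩ := h
    obtain ⟨j, hj⟩ := hmem
    have hj' : (p * q) ^ j = g := hj
    have hpq : p * q = q * p := by
      refine mul_left_cancel (a := g) ?_
      calc g * (p * q) = g * p * q := (mul_assoc _ _ _).symm
        _ = p * g * q := by rw [ctp.eq]
        _ = p * (g * q) := mul_assoc _ _ _
        _ = g * q * p := hcomm
        _ = g * (q * p) := mul_assoc _ _ _
    have hsq : (p * q) ^ 2 = 1 := by
      rw [pow_two, show p * q * (p * q) = p * (q * p) * q by group, ← hpq,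
        show p * (p * q) * q = p * p * (q * q) by group, hp2, hq.2, one_mul]
    rcases Int.even_or_odd j with ⟨d, hd⟩ | ⟨d, hd⟩
    · rw [hd, ← two_mul, zpow_mul, zpow_ofNat, hsq, one_zpow] at hj'
      exact hgn (hj' ▸ G0.one_mem)
    · rw [hd, zpow_add, zpow_mul, zpow_ofNat, hsq, one_zpow, one_mul, zpow_one] at hj'
      refine hne ?_
      rw [← hj', show p * q * q = p * (q * q) by group, hq.2, mul_one]
  have up : (∀ p k, p ∈ M → k ∈ M → p * p = 1 → k * k = 1 → p * k ≠ k * p → (p * k) ^ 15 = 1) →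
      ∀ p k, p ∈ M → p * p = 1 → p ≠ 1 → k ∈ M → k * k = 1 → (k = p ∨ p * k ≠ k * p) →
      IsZ z p ∧ IsQ g G0 (g * k) ∧ g ∈ Subgroup.zpowers (p * (g * k)) := by
    intro h15 p k hpM hp2 hp1 hkM hk2 hcase
    obtain ⟨hpG, hpg⟩ := (hM p).1 hpM
    obtain ⟨hkG, hkg⟩ := (hM k).1 hkM
    refine ⟨(F.z_iff D P R hm hv p).2 ⟨hpG, hp2, hp1⟩,
      ⟨by rw [← mul_assoc, P.g2, one_mul]; exact hkG, ?_⟩, ?_⟩
    · rw [show g * k * (g * k) = g * (k * g) * k by group, hkg, show g * (g * k) * k = g * g * (k * k) by group,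
        P.g2, hk2, one_mul]
    · have e : p * (g * k) = g * (p * k) := by rw [← mul_assoc, hpg, mul_assoc]
      have hgc : Commute g (p * k) := comm_mul hpg.symm hkg.symm
      have h1 : (p * k) ^ 15 = 1 := by
        rcases hcase with rfl | hne
        · rw [hp2, one_pow]
        · exact h15 p k hpM hkM hp2 hk2 hne
      refine ⟨15, ?_⟩
      show (p * (g * k)) ^ (15 : ℤ) = g
      rw [e, zpow_ofNat, hgc.mul_pow, h1, mul_one, show (15 : ℕ) = 2 * 7 + 1 from rfl, pow_succ, pow_mul, pow_two,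
        P.g2, one_pow, one_mul]
  have count : (∀ p k, p ∈ M → k ∈ M → p * p = 1 → k * k = 1 → p * k ≠ k * p → (p * k) ^ 15 = 1) →
      Nat.card {pq : G × G // IsZ z pq.1 ∧ IsQ g G0 pq.2 ∧ g ∈ Subgroup.zpowers (pq.1 * pq.2)} =
      Nat.card (Σ p : {p : M // p * p = 1 ∧ p ≠ 1},
        {k : M // k * k = 1 ∧ (k = p.1 ∨ p.1 * k ≠ k * p.1)}) := by
    intro h15
    refine Nat.card_congr
      { toFun := fun pq => ⟨⟨⟨pq.1.1, (down _ _ pq.2.1 pq.2.2.1 pq.2.2.2).1⟩,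
            Subtype.ext (down _ _ pq.2.1 pq.2.2.1 pq.2.2.2).2.1,
            fun e => (down _ _ pq.2.1 pq.2.2.1 pq.2.2.2).2.2.1 (congrArg Subtype.val e)⟩,
          ⟨⟨g * pq.1.2, (down _ _ pq.2.1 pq.2.2.1 pq.2.2.2).2.2.2.1⟩,
            Subtype.ext (down _ _ pq.2.1 pq.2.2.1 pq.2.2.2).2.2.2.2.1,
            (down _ _ pq.2.1 pq.2.2.1 pq.2.2.2).2.2.2.2.2.imp (fun h => Subtype.ext h)
              fun h e => h (congrArg Subtype.val e)⟩⟩
        invFun := fun s => ⟨((s.1.1 : G), g * (s.2.1 : G)),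
          up h15 _ _ s.1.1.2 (congrArg Subtype.val s.1.2.1) (fun e => s.1.2.2 (Subtype.ext e)) s.2.1.2
            (congrArg Subtype.val s.2.2.1) (s.2.2.2.imp (fun h => congrArg Subtype.val h)
              fun h e => h (Subtype.ext e))⟩
        left_inv := fun pq => Subtype.ext (Prod.ext rfl (by
          show g * (g * pq.1.2) = pq.1.2
          rw [← mul_assoc, P.g2, one_mul]))
        right_inv := by
          rintro ⟨⟨⟨p, hp⟩, hp'⟩, ⟨⟨k, hk⟩, hk'⟩⟩
          refine Sigma.subtype_ext rfl (Subtype.ext ?_)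
          show g * (g * k) = k
          rw [← mul_assoc, P.g2, one_mul] }
  rcases F.M_cases D P R hm hv with ⟨h12, hU⟩ | ⟨⟨f⟩⟩
  · left
    refine ⟨?_, h12⟩
    have hc : ∀ p k, p ∈ M → k ∈ M → p * p = 1 → k * k = 1 → p * k = k * p := fun p k hp hk hp2 hk2 =>
      (F.U_cases (hU p hp hp2) (hU k hk hk2)).2.1
    rw [count fun p k hp hk hp2 hk2 hne => absurd (hc p k hp hk hp2 hk2) hne, Nat.card_sigma]
    have h1 : ∀ p : {p : M // p * p = 1 ∧ p ≠ 1},
        Nat.card {k : M // k * k = 1 ∧ (k = p.1 ∨ p.1 * k ≠ k * p.1)} = 1 := fun p =>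
      Nat.card_eq_one_iff_exists.2 ⟨⟨p.1, p.2.1, Or.inl rfl⟩, fun k => Subtype.ext (k.2.2.resolve_right fun h =>
        h (Subtype.ext (hc _ _ p.1.2 k.1.2 (congrArg Subtype.val p.2.1) (congrArg Subtype.val k.2.1))))⟩
    rw [Finset.sum_congr rfl fun p _ => h1 p, Finset.sum_const, smul_eq_mul, mul_one, Finset.card_univ,
      ← Nat.card_eq_fintype_card]
    have h := Nat.card_congr (Equiv.sumCompl (fun u : {u : G // InU z a u} => (u : G) ≠ 1))
    rw [Nat.card_sum, Nat.card_congr (Equiv.subtypeSubtypeEquivSubtypeInter (InU z a) (· ≠ 1)), F.card_U] at h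
    have h1' : Nat.card {u : {u : G // InU z a u} // ¬ (u : G) ≠ 1} = 1 :=
      Nat.card_eq_one_iff_exists.2 ⟨⟨⟨1, Or.inl rfl⟩, fun h => h rfl⟩, fun u =>
        Subtype.ext (Subtype.ext (not_not.1 u.2))⟩
    have h3 : Nat.card {p : M // p * p = 1 ∧ p ≠ 1} = Nat.card {u : G // InU z a u ∧ u ≠ 1} := Nat.card_congr
      { toFun := fun p => ⟨(p.1 : G), hU _ p.1.2 (congrArg Subtype.val p.2.1), fun e => p.2.2 (Subtype.ext e)⟩
        invFun := fun u => ⟨⟨u.1, (hM _).2 ⟨F.T_mem D P R hm (F.U_T u.2.1), (F.U_comm u.2.1 P.gC).symm⟩⟩,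
          Subtype.ext (F.U_sq u.2.1), fun e => u.2.2 (congrArg Subtype.val e)⟩
        left_inv := fun _ => rfl
        right_inv := fun _ => rfl }
    omega
  · right
    have hA5 : Nat.card M = 60 := by
      rw [Nat.card_congr f.toEquiv, Nat.card_eq_fintype_card]; decide +kernel
    refine ⟨?_, hA5, ⟨f⟩⟩
    rw [count fun p k hp hk hp2 hk2 hne => by
      by_cases hp1 : p = 1
      · exact absurd (by rw [hp1]; simp) hne
      have := (A5_pairs f ⟨p, hp⟩ (Subtype.ext hp2) (fun e => hp1 (congrArg Subtype.val e))).2 ⟨k, hk⟩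
        (Subtype.ext hk2) (fun e => hne (congrArg Subtype.val e))
      exact congrArg Subtype.val this,
      Nat.card_sigma, Finset.sum_congr rfl fun p _ => (A5_pairs f p.1 p.2.1 p.2.2).1, Finset.sum_const,
      smul_eq_mul, Finset.card_univ, ← Nat.card_eq_fintype_card, card_invol_A5 ⟨f⟩]

/-- The order formula. -/
theorem order_formula : Nat.card G0 =
    Nat.card (G0 ⊓ Subgroup.centralizer ({g} : Set G) : Subgroup G) * 384 +
      192 * Nat.card {pq : G × G // IsZ z pq.1 ∧ IsQ g G0 pq.2 ∧ g ∈ Subgroup.zpowers (pq.1 * pq.2)} := by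
  classical
  haveI := Fintype.ofFinite G
  have hgn := F.g_not D P R hm hv
  set ng := Nat.card {pq : G × G // IsZ z pq.1 ∧ IsQ g G0 pq.2 ∧ g ∈ Subgroup.zpowers (pq.1 * pq.2)}
  have hZ : Nat.card {p : G // IsZ z p} * 192 = Nat.card G0 := by
    rw [← F.card_C0 D P R hm]
    refine orbit_card G0 z _ fun p => ⟨fun ⟨k, hk⟩ => ?_, fun ⟨h, _, hh⟩ => ⟨h, hh⟩⟩
    obtain ⟨h, hh, e⟩ := F.decomp_z D P R hm hv k
    exact ⟨h, hh, hk.trans e⟩
  have hQ : Nat.card {q : G // IsQ g G0 q} * Nat.card (G0 ⊓ Subgroup.centralizer ({g} : Set G) : Subgroup G) =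
      Nat.card G0 := orbit_card G0 g _ (F.Q_iff D P R hm hv)
  have same : ∀ (r : G) (h : G), h ∈ G0 →
      Nat.card {pq : G × G // IsZ z pq.1 ∧ IsQ g G0 pq.2 ∧ h * r * h⁻¹ ∈ Subgroup.zpowers (pq.1 * pq.2)} =
      Nat.card {pq : G × G // IsZ z pq.1 ∧ IsQ g G0 pq.2 ∧ r ∈ Subgroup.zpowers (pq.1 * pq.2)} := by
    intro r h hh
    have push : ∀ (c : G), c ∈ G0 → ∀ {p q r : G}, IsZ z p ∧ IsQ g G0 q ∧ r ∈ Subgroup.zpowers (p * q) →
        IsZ z (c * p * c⁻¹) ∧ IsQ g G0 (c * q * c⁻¹) ∧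
          c * r * c⁻¹ ∈ Subgroup.zpowers (c * p * c⁻¹ * (c * q * c⁻¹)) := by
      rintro c hc p q r ⟨⟨j, rfl⟩, hq, i, rfl⟩
      exact ⟨⟨c * j, (cj_cj _ _ _).symm⟩, F.Q_conj D P R hm hv c hc hq, i,
        by show _ ^ i = _; rw [← cj_mul, conj_zpow]⟩
    exact (Nat.card_congr
      { toFun := fun pq : {pq : G × G // IsZ z pq.1 ∧ IsQ g G0 pq.2 ∧ r ∈ Subgroup.zpowers (pq.1 * pq.2)} =>
          (⟨(h * pq.1.1 * h⁻¹, h * pq.1.2 * h⁻¹), push h hh pq.2⟩ :
            {pq : G × G // IsZ z pq.1 ∧ IsQ g G0 pq.2 ∧ h * r * h⁻¹ ∈ Subgroup.zpowers (pq.1 * pq.2)})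
        invFun := fun pq => ⟨(h⁻¹ * pq.1.1 * h⁻¹⁻¹, h⁻¹ * pq.1.2 * h⁻¹⁻¹), by
          have := push h⁻¹ (G0.inv_mem hh) pq.2
          rwa [show h⁻¹ * (h * r * h⁻¹) * h⁻¹⁻¹ = r by group] at this⟩
        left_inv := fun pq => Subtype.ext (Prod.ext (by simp [mul_assoc]) (by simp [mul_assoc]))
        right_inv := fun pq => Subtype.ext (Prod.ext (by simp [mul_assoc]) (by simp [mul_assoc])) }).symm
  have sameZ : ∀ t : {p : G // IsZ z p},
      Nat.card {pq : G × G // IsZ z pq.1 ∧ IsQ g G0 pq.2 ∧ (t : G) ∈ Subgroup.zpowers (pq.1 * pq.2)} = 384 := by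
    rintro ⟨t, k, rfl⟩
    obtain ⟨h, hh, e⟩ := F.decomp_z D P R hm hv k
    simp only [e]
    rw [same z h hh, F.n_z D P R hm hv]
  have sameQ : ∀ t : {q : G // IsQ g G0 q},
      Nat.card {pq : G × G // IsZ z pq.1 ∧ IsQ g G0 pq.2 ∧ (t : G) ∈ Subgroup.zpowers (pq.1 * pq.2)} = ng := by
    rintro ⟨t, ht⟩
    obtain ⟨h, hh, rfl⟩ := (F.Q_iff D P R hm hv t).1 ht
    exact same g h hh
  have pick : ∀ p q, IsZ z p → IsQ g G0 q → ∃ t : {p : G // IsZ z p} ⊕ {q : G // IsQ g G0 q},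
      Sum.elim Subtype.val Subtype.val t ∈ Subgroup.zpowers (p * q) ∧
        orderOf (Sum.elim Subtype.val Subtype.val t : G) = 2 := by
    intro p q hp hq
    obtain ⟨hpG, hp2, hp1⟩ := (F.z_iff D P R hm hv p).1 hp
    have hq1 : q ≠ 1 := fun e => hgn (by have := hq.1; rwa [e, mul_one] at this)
    have hqG : q ∉ G0 := fun h => hgn (by
      have := G0.mul_mem hq.1 (G0.inv_mem h); rwa [mul_inv_cancel_right] at this)
    have o1 := Invol.order_two_of_sq hp2 hp1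
    have o2 := Invol.order_two_of_sq hq.2 hq1
    have hev : Even (orderOf (p * q)) := by
      by_contra h
      obtain ⟨d, -, hd⟩ := Invol.conj_of_odd o1 o2 (Nat.not_even_iff_odd.1 h)
      exact hqG (hd ▸ R.normal.conj_mem p hpG d)
    have ht := Invol.half_order o1 o2 hev (orderOf_pos _)
    set n := orderOf (p * q) / 2
    have hev2 : ∀ i : ℕ, (p * q) ^ (2 * i) ∈ G0 := fun i => by
      rw [pow_mul]
      exact G0.pow_mem (by rw [pow_two]; exact F.sq_coset D P R hm hv (F.coset_prod D P R hm hv hpG hq)) i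
    rcases Nat.even_or_odd n with ⟨i, hi⟩ | ⟨i, hi⟩
    · refine ⟨Sum.inl ⟨(p * q) ^ n, (F.z_iff D P R hm hv _).2 ⟨?_, Invol.mul_self ht, Invol.ne_one ht⟩⟩,
        Subgroup.npow_mem_zpowers _ _, ht⟩
      rw [hi, ← two_mul]; exact hev2 i
    · refine ⟨Sum.inr ⟨(p * q) ^ n, ?_, Invol.mul_self ht⟩, Subgroup.npow_mem_zpowers _ _, ht⟩
      rw [hi, pow_succ', ← mul_assoc]
      exact G0.mul_mem (F.coset_prod D P R hm hv hpG hq) (hev2 i)
  let β : {p : G // IsZ z p} ⊕ {q : G // IsQ g G0 q} → Type u := fun t =>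
    {pq : G × G // IsZ z pq.1 ∧ IsQ g G0 pq.2 ∧ Sum.elim Subtype.val Subtype.val t ∈ Subgroup.zpowers (pq.1 * pq.2)}
  let f : ({p : G // IsZ z p} × {q : G // IsQ g G0 q}) ≃ (Σ t, β t) :=
    { toFun := fun p => ⟨(pick p.1 p.2 p.1.2 p.2.2).choose,
        ⟨(p.1.1, p.2.1), p.1.2, p.2.2, (pick p.1 p.2 p.1.2 p.2.2).choose_spec.1⟩⟩
      invFun := fun s => (⟨s.2.1.1, s.2.2.1⟩, ⟨s.2.1.2, s.2.2.2.1⟩)
      left_inv := fun _ => rfl
      right_inv := by
        rintro ⟨t, ⟨⟨p, q⟩, hp, hq, hmem⟩⟩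
        have hsp := (pick p q hp hq).choose_spec
        have ht2 : orderOf (Sum.elim Subtype.val Subtype.val t : G) = 2 := by
          rcases t with ⟨t, ht⟩ | ⟨t, ht⟩
          · obtain ⟨-, h2, h1⟩ := (F.z_iff D P R hm hv t).1 ht
            exact Invol.order_two_of_sq h2 h1
          · exact Invol.order_two_of_sq ht.2 fun e => hgn (by
              have := ht.1; simp only [Sum.elim_inr] at e; rwa [e, mul_one] at this)
        have h12 := (Invol.eq_half hsp.2 hsp.1).2.trans (Invol.eq_half ht2 hmem).2.symm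
        refine Sigma.subtype_ext ?_ rfl
        show (pick p q hp hq).choose = t
        generalize (pick p q hp hq).choose = t' at h12 ⊢
        have hz_not : ∀ t, IsZ z t → IsQ g G0 t → False := fun t h1 h2 => hgn (by
          have := G0.mul_mem h2.1 (G0.inv_mem ((F.z_iff D P R hm hv t).1 h1).1)
          rwa [mul_inv_cancel_right] at this)
        rcases t with ⟨t, ht⟩ | ⟨t, ht⟩ <;> rcases t' with ⟨t', ht'⟩ | ⟨t', ht'⟩ <;>
          simp only [Sum.elim_inl, Sum.elim_inr] at h12 <;> subst h12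
        · rfl
        · exact (hz_not _ ht ht').elim
        · exact (hz_not _ ht' ht).elim
        · rfl }
  have h := Nat.card_congr f
  rw [Nat.card_prod, Nat.card_sigma, Fintype.sum_sum_type] at h
  have e1 : ∑ t : {p : G // IsZ z p}, Nat.card (β (Sum.inl t)) = Nat.card {p : G // IsZ z p} * 384 := by
    refine (Finset.sum_congr rfl fun t _ => sameZ t).trans ?_
    rw [Finset.sum_const, smul_eq_mul, Finset.card_univ, ← Nat.card_eq_fintype_card]
  have e2 : ∑ t : {q : G // IsQ g G0 q}, Nat.card (β (Sum.inr t)) = Nat.card {q : G // IsQ g G0 q} * ng := by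
    refine (Finset.sum_congr rfl fun t _ => sameQ t).trans ?_
    rw [Finset.sum_const, smul_eq_mul, Finset.card_univ, ← Nat.card_eq_fintype_card]
  rw [e1, e2] at h
  set nZ := Nat.card {p : G // IsZ z p}
  set nQ := Nat.card {q : G // IsQ g G0 q}
  set cM := Nat.card (G0 ⊓ Subgroup.centralizer ({g} : Set G) : Subgroup G)
  refine Nat.eq_of_mul_eq_mul_left (Nat.card_pos (α := G0)) ?_
  calc Nat.card G0 * Nat.card G0 = (nZ * 192) * (nQ * cM) := by rw [hZ, hQ]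
    _ = 192 * cM * (nZ * nQ) := by ring
    _ = 192 * cM * (nZ * 384 + nQ * ng) := by rw [h]
    _ = (nZ * 192) * (cM * 384) + (nQ * cM) * (192 * ng) := by ring
    _ = Nat.card G0 * (cM * 384 + 192 * ng) := by rw [hZ, hQ]; ring

/-- In the fused case a nonsolvable group has index four subgroup of order `60480`. -/
theorem card_G0 (hns : ¬ Group.IsSolvable G) : Nat.card G0 = 60480 ∧
    Nonempty ((G0 ⊓ Subgroup.centralizer ({g} : Set G) : Subgroup G) ≃* alternatingGroup (Fin 5)) := by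
  have h := F.order_formula D P R hm hv
  rcases F.n_g_eq D P R hm hv with ⟨h1, h2⟩ | ⟨h1, h2, h3⟩ <;> rw [h1, h2] at h
  · exfalso
    refine hns (Cfsg.Agent.Char.isSolvable_of_card_pq 2 3 Nat.prime_two Nat.prime_three _ G rfl ⟨8, 4, ?_⟩)
    have := G0.card_mul_index
    rw [R.index, h] at this
    rw [← this]
    norm_num
  · exact ⟨h.trans (by norm_num), h3⟩

end Frame

end Cfsg.Agent.L34Aut
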