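import Cfsg.Agent.Lib.L34Aut.Order
import Cfsg.Agent.Lib.L34Aut.Model

/-!
The plane of order four on the conjugates of the two elementary subgroups of order sixteen.
-/

set_option autoImplicit false
set_option linter.style.haveILetI false
set_option linter.unusedSectionVars false
set_option linter.unusedVariables false
set_option synthInstance.maxHeartbeats 400000
set_option synthInstance.maxSize 4000

namespace Cfsg.Agent.L34Aut

open Equiv
open scoped Pointwise

theorem alt_two : ∀ σ : S4, Perm.sign σ = 1 → InV σ ∨ σ ^ 3 = 1 := by decide +kernel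

theorem alt_cover : ∀ θ σ : S4, θ ^ 3 = 1 → θ ≠ 1 → Perm.sign σ = 1 →
    InV σ ∨ InV (σ * θ) ∨ InV (σ * (θ * θ)) := by decide +kernel

universe u v

variable {G : Type u} [Group G] [Finite G] {z a x m l₀ l₁ y g e : G} {E G0 : Subgroup G} {ψ : G → S4}

/-- The other elementary group. -/
def InB (z a x v g : G) (w : G) : Prop := InA z a x v (g * w * g⁻¹)

namespace Frame

variable (F : Frame z a E ψ) (D : TData z a E ψ x m l₀ l₁) (P : Pair z a x ψ y g) (R : Res z a E ψ g e G0)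
  (hm : m * m = a * z) (hv : ∃ k, k * z * k⁻¹ = m * l₁)
include F D P R hm hv

omit hv in
theorem gg_conj (w : G) : g * (g * w * g⁻¹) * g⁻¹ = w := by
  rw [← cj_cj, P.g2]; group

omit hv in
theorem U_B {u : G} (hu : InU z a u) : InB z a x (m * l₁) g u := by
  show InA z a x (m * l₁) (g * u * g⁻¹)
  rw [F.U_conj P.gC hu]; exact Or.inl hu

omit hv in
theorem B_T {w : G} (hw : InB z a x (m * l₁) g w) : InT z a ψ w ∧ w * w = 1 := by
  obtain ⟨hT, h2, -⟩ := F.InA_T D hm hw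
  have e := F.gg_conj D P R hm w
  refine ⟨e ▸ F.V_conj P.gC hT, ?_⟩
  rw [← e, ← cj_mul, h2]; group

omit hv in
theorem A_mul {p q : G} (hp : InA z a x (m * l₁) p) (hq : InA z a x (m * l₁) q) :
    InA z a x (m * l₁) (p * q) ∧ p * q = q * p := by
  obtain ⟨A, -, hA⟩ := F.exists_A D hm
  have hpq := (hA _).1 (A.mul_mem ((hA p).2 hp) ((hA q).2 hq))
  refine ⟨hpq, ?_⟩
  have h2 := inv_sq (F.InA_T D hm hpq).2.1
  rw [mul_inv_rev, inv_sq (F.InA_T D hm hq).2.1, inv_sq (F.InA_T D hm hp).2.1] at h2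
  exact h2.symm

theorem A_norm {h w : G} (hh : h ∈ G0) (hz : h * z = z * h) (hw : InA z a x (m * l₁) w) :
    InA z a x (m * l₁) (h * w * h⁻¹) := by
  obtain ⟨hC, hs⟩ := (R.mem h hz).1 hh
  have hxC := D.X.C
  have hx3 : x * x * x = 1 := by rw [← D.X.x3]; simp [pow_succ, mul_assoc]
  have byx : ∀ w, InA z a x (m * l₁) w → InA z a x (m * l₁) (x * w * x⁻¹) := by
    intro w hw
    set v := m * l₁
    rcases hw with h | h | h | h
    · exact Or.inl (by rw [F.U_conj hxC h]; exact h)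
    all_goals
      have h' := F.U_conj hxC h
      rw [cj_mul] at h'
    · refine Or.inr (Or.inr (Or.inl ?_))
      rw [show (x * v * x⁻¹)⁻¹ = x * v⁻¹ * x⁻¹ by group, h']; exact h
    · refine Or.inr (Or.inr (Or.inr ?_))
      rw [show (x * x * v * (x * x)⁻¹)⁻¹ = x * (x * v * x⁻¹)⁻¹ * x⁻¹ by simp only [mul_inv_rev, inv_inv, mul_assoc],
        h']; exact h
    · refine Or.inr (Or.inl ?_)
      rw [show x * (x * x * v * (x * x)⁻¹)⁻¹ * x⁻¹ = v⁻¹ by
        rw [show x * (x * x * v * (x * x)⁻¹)⁻¹ * x⁻¹ = x * x * x * v⁻¹ * (x * x * x)⁻¹ by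
          simp only [mul_inv_rev, inv_inv, mul_assoc], hx3]; group] at h'
      rw [h']; exact h
  have byT : ∀ t w, InT z a ψ t → InA z a x (m * l₁) w → InA z a x (m * l₁) (t * w * t⁻¹) := by
    intro t w ht hw
    obtain ⟨c, hc, e⟩ := F.T_comm ht (F.InA_T D hm hw).1
    rw [show t * w * t⁻¹ = w * c by
      rw [e, mul_assoc (w * t) c, ← F.U_comm hc (F.C_inv ht.1)]; group]
    exact (F.A_mul D P R hm hw (Or.inl hc)).1
  rcases alt_cover _ _ D.X.θ3 D.X.θ1 hs with h' | h' | h'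
  · exact byT h w ⟨hC, h'⟩ hw
  · have ht : InT z a ψ (h * x) := ⟨F.C_mul hC hxC, by rw [F.B.ψ_mul _ _ hz hxC.1]; exact h'⟩
    rw [show h * w * h⁻¹ = h * x * (x * (x * w * x⁻¹) * x⁻¹) * (h * x)⁻¹ by
      rw [show h * w * h⁻¹ = h * ((x * x * x) * w * (x * x * x)⁻¹) * h⁻¹ by rw [hx3]; group]; group]
    exact byT _ _ ht (byx _ (byx _ hw))
  · have hxx := F.C_mul hxC hxC
    have ht : InT z a ψ (h * (x * x)) :=
      ⟨F.C_mul hC hxx, by rw [F.B.ψ_mul _ _ hz hxx.1, F.B.ψ_mul _ _ hxC.1 hxC.1]; exact h'⟩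
    rw [show h * w * h⁻¹ = h * (x * x) * (x * w * x⁻¹) * (h * (x * x))⁻¹ by
      rw [show h * w * h⁻¹ = h * ((x * x * x) * w * (x * x * x)⁻¹) * h⁻¹ by rw [hx3]; group]; group]
    exact byT _ _ ht (byx _ hw)

omit hv in
theorem v_A : InA z a x (m * l₁) (m * l₁) := Or.inr (Or.inl (by rw [inv_mul_cancel]; exact Or.inl rfl))

omit hv in
theorem meet {w : G} (hA : InA z a x (m * l₁) w) (hB : InB z a x (m * l₁) g w) : InU z a w := by
  by_contra hU
  obtain ⟨hT, h2, -⟩ := F.InA_T D hm hA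
  exact F.g_swaps D P R hm hT h2 hU (F.A_mul D P R hm hA hB).2

theorem A_conj_v {w : G} (hw : InA z a x (m * l₁) w) (hU : ¬ InU z a w) :
    ∃ c, c ∈ G0 ∧ c * z = z * c ∧ c * (m * l₁) * c⁻¹ = w := by
  obtain ⟨hT, h2, -⟩ := F.InA_T D hm hw
  obtain ⟨c, hc, e⟩ := F.invol_conj D hT h2 hU
  refine ⟨c, ?_, hc.1, e⟩
  rcases Int.units_eq_one_or (Perm.sign (ψ c)) with hs | hs
  · exact (R.mem c hc.1).2 ⟨hc, hs⟩
  exfalso
  have hgc : g * c ∈ G0 := (R.mem _ (F.C_mul P.gC hc).1).2 ⟨F.C_mul P.gC hc, by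
    rw [F.B.ψ_mul _ _ P.gC.1 hc.1, map_mul, hs, (F.gψ2 D P).2.2]; decide⟩
  refine hU (F.meet D P R hm hw ?_)
  show InA z a x (m * l₁) (g * w * g⁻¹)
  rw [← e, ← cj_cj]
  exact F.A_norm D P R hm hv hgc (F.C_mul P.gC hc).1 (F.v_A D P R hm)

theorem cover {t : G} (ht : InT z a ψ t) (h2 : t * t = 1) :
    InA z a x (m * l₁) t ∨ InB z a x (m * l₁) g t := by
  by_cases hU : InU z a t
  · exact Or.inl (Or.inl hU)
  obtain ⟨c, hc, rfl⟩ := F.invol_conj D ht h2 hU
  rcases Int.units_eq_one_or (Perm.sign (ψ c)) with hs | hs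
  · exact Or.inl (F.A_norm D P R hm hv ((R.mem c hc.1).2 ⟨hc, hs⟩) hc.1 (F.v_A D P R hm))
  · right
    show InA z a x (m * l₁) (g * (c * (m * l₁) * c⁻¹) * g⁻¹)
    rw [← cj_cj]
    exact F.A_norm D P R hm hv ((R.mem _ (F.C_mul P.gC hc).1).2 ⟨F.C_mul P.gC hc, by
      rw [F.B.ψ_mul _ _ P.gC.1 hc.1, map_mul, hs, (F.gψ2 D P).2.2]; decide⟩) (F.C_mul P.gC hc).1 (F.v_A D P R hm)

theorem cross {p q : G} (hp : InA z a x (m * l₁) p) (hq : InB z a x (m * l₁) g q) (hc : p * q = q * p) :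
    InU z a p ∨ InU z a q := by
  by_contra h
  push Not at h
  obtain ⟨c, hcG, hcz, e⟩ := F.A_conj_v D P R hm hv hp h.1
  obtain ⟨hqT, hq2⟩ := F.B_T D P R hm hq
  obtain ⟨hcC, -⟩ := (R.mem c hcz).1 hcG
  set q' := c⁻¹ * q * c
  have hq'T : InT z a ψ q' := by have := F.V_conj (F.C_inv hcC) hqT; rwa [inv_inv] at this
  have hq'2 : q' * q' = 1 := by
    rw [show q' * q' = c⁻¹ * (q * q) * c by simp only [q']; group, hq2]; group
  have hq'v : q' * (m * l₁) = m * l₁ * q' := by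
    refine cj_inj (a := c) ?_
    rw [cj_mul, cj_mul c (m * l₁), e, show c * q' * c⁻¹ = q by simp only [q']; group]
    exact hc.symm
  have := F.A_norm D P R hm hv hcG hcz (F.mem_A_of_comm D hm hq'T hq'2 hq'v)
  rw [show c * q' * c⁻¹ = q by simp only [q']; group] at this
  exact h.2 (F.meet D P R hm this hq)

/-- A two-element normalising `⟨z, a⟩` in the index four subgroup lies in `T`. -/
theorem two_in_T {h : G} (hh : h ∈ G0) (hN : InN z a h) (h2 : h * h = 1) : InT z a ψ h := by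
  have key : ∀ h, h ∈ G0 → h * z = z * h → h * h = 1 → InT z a ψ h := fun h hh hz h2 => by
    obtain ⟨hC, hs⟩ := (R.mem h hz).1 hh
    exact ⟨hC, even_invol _ (by rw [← F.B.ψ_mul _ _ hz hz, h2, F.B.ψ_one]) hs⟩
  obtain ⟨u, hu, hu1, hhu⟩ : ∃ u, InU z a u ∧ u ≠ 1 ∧ h * u = u * h := by
    have hzU : InU z a z := Or.inr (Or.inl rfl)
    by_cases h1 : h * z * h⁻¹ = z
    · exact ⟨z, hzU, F.B.z1, cj_iff.1 h1⟩
    refine ⟨h * z * h⁻¹ * z, F.U_mul (hN z hzU) hzU, fun e => h1 ?_, cj_iff.1 ?_⟩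
    · exact (eq_inv_of_mul_eq_one_left e).trans (inv_sq F.B.zz)
    · rw [cj_mul, show h * (h * z * h⁻¹) * h⁻¹ = z by rw [← cj_cj, h2]; group]
      exact (F.U_cases hzU (hN z hzU)).2.1
  obtain ⟨i, hi⟩ := F.cyc_toz P.yz P.ya hu hu1
  set c := y ^ i
  have hcG : c ∈ G0 := G0.pow_mem (F.y_mem D P R hm hv) i
  have hT := key (c * h * c⁻¹) (R.normal.conj_mem h hh c) (by rw [← hi, ← cj_mul, hhu, cj_mul])
    (by rw [← cj_mul, h2]; group)
  have hcN : InN z a c := InN_pow (F.cyc_U P.yz P.ya).2 i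
  have := F.norm_T D (g := c⁻¹) (fun u hu => by rw [inv_inv]; exact F.norm_U_inv hcN u hu) hT
  rwa [show c⁻¹ * (c * h * c⁻¹) * c⁻¹⁻¹ = h by group] at this

theorem center_T {t : G} (ht : InT z a ψ t) (hc : ∀ w, InT z a ψ w → t * w = w * t) (h2 : t * t = 1) :
    InU z a t := by
  obtain ⟨hvT, hv2, hvE⟩ := F.v_facts D hm
  have hvU : ¬ InU z a (m * l₁) := fun h => hvE (F.U_E h).1
  rcases F.cover D P R hm hv ht h2 with hA | hB
  · set q := g * (m * l₁) * g⁻¹
    have hq : InB z a x (m * l₁) g q := by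
      show InA z a x (m * l₁) (g * q * g⁻¹)
      rw [F.gg_conj D P R hm]; exact F.v_A D P R hm
    refine (F.cross D P R hm hv hA hq (hc q (F.B_T D P R hm hq).1)).resolve_right fun h => hvU ?_
    have := F.U_conj P.gC h
    rw [F.gg_conj D P R hm] at this
    rw [this]; exact h
  · exact (F.cross D P R hm hv (F.v_A D P R hm) hB (hc _ hvT).symm).resolve_left hvU

theorem y_A {w : G} (hw : InA z a x (m * l₁) w) : InA z a x (m * l₁) (y * w * y⁻¹) := by
  have hyN := (F.cyc_U P.yz P.ya).2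
  -- both families are preserved or exchanged
  have step : ∀ p q, InA z a x (m * l₁) p → InA z a x (m * l₁) q → ¬ InU z a p → ¬ InU z a q →
      InA z a x (m * l₁) (y * p * y⁻¹) → InA z a x (m * l₁) (y * q * y⁻¹) := by
    intro p q hp hq hpU hqU hy'
    obtain ⟨hqT, hq2, -⟩ := F.InA_T D hm hq
    rcases F.cover D P R hm hv (F.norm_T D hyN hqT) (by rw [← cj_mul, hq2]; group) with h | h
    · exact h
    exfalso
    have hc : y * p * y⁻¹ * (y * q * y⁻¹) = y * q * y⁻¹ * (y * p * y⁻¹) := by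
      rw [← cj_mul, ← cj_mul, (F.A_mul D P R hm hp hq).2]
    have back : ∀ r, InU z a (y * r * y⁻¹) → InU z a r := fun r hr => by
      have := F.norm_U_inv hyN _ hr
      rwa [show y⁻¹ * (y * r * y⁻¹) * y = r by group] at this
    exact (F.cross D P R hm hv hy' h hc).elim (fun h => hpU (back p h)) fun h => hqU (back q h)
  obtain ⟨hvT, hv2, hvE⟩ := F.v_facts D hm
  have hvU : ¬ InU z a (m * l₁) := fun h => hvE (F.U_E h).1
  by_cases hU : InU z a w
  · exact Or.inl (hyN w hU)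
  refine step _ w (F.v_A D P R hm) hw hvU hU ?_
  rcases F.cover D P R hm hv (F.norm_T D hyN hvT) (by rw [← cj_mul, hv2]; group) with h | h
  · exact h
  exfalso
  -- exchanged: twice returns, and four times is once
  set v := m * l₁
  have hgy : ∀ r, g * (y * r * y⁻¹) * g⁻¹ = y * (g * r * g⁻¹) * y⁻¹ := fun r => by
    rw [← cj_cj, P.gy, cj_cj]
  have toB : ∀ q, InA z a x v q → InB z a x v g (y * q * y⁻¹) := by
    intro q hq
    by_cases hqU : InU z a q
    · exact F.U_B D P R hm (hyN q hqU)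
    obtain ⟨hqT, hq2, -⟩ := F.InA_T D hm hq
    rcases F.cover D P R hm hv (F.norm_T D hyN hqT) (by rw [← cj_mul, hq2]; group) with h' | h'
    · exfalso
      have hA := step q v hq (F.v_A D P R hm) hqU hvU h'
      have := F.meet D P R hm hA h
      have h3 := F.norm_U_inv hyN _ this
      rw [show y⁻¹ * (y * v * y⁻¹) * y = v by group] at h3
      exact hvU h3
    · exact h'
  have twice : ∀ q, InA z a x v q → InA z a x v (y * (y * q * y⁻¹) * y⁻¹) := by
    intro q hq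
    have h1 := toB _ (toB q hq)
    show InA z a x v _
    have h2 : InA z a x v (g * (y * (g * (y * q * y⁻¹) * g⁻¹) * y⁻¹) * g⁻¹) := h1
    rwa [hgy, F.gg_conj D P R hm] at h2
  have h4 := twice _ (twice v (F.v_A D P R hm))
  have hy3 : y * y * y = 1 := by rw [← P.y3]; simp [pow_succ]
  rw [show y * (y * (y * (y * v * y⁻¹) * y⁻¹) * y⁻¹) * y⁻¹ = (y * y * y) * (y * v * y⁻¹) * (y * y * y)⁻¹ by group,
    hy3, one_mul, inv_one, mul_one] at h4
  have := F.meet D P R hm h4 h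
  have h3 := F.norm_U_inv hyN _ this
  rw [show y⁻¹ * (y * v * y⁻¹) * y = v by group] at h3
  exact hvU h3

/-- The normaliser of the elementary group in the subgroup of index four. -/
theorem exists_N : ∃ N : Subgroup G, N ≤ G0 ∧
    ∀ h, h ∈ N ↔ h ∈ G0 ∧ ∀ w, InA z a x (m * l₁) w → InA z a x (m * l₁) (h * w * h⁻¹) := by
  classical
  refine ⟨{ carrier := {h | h ∈ G0 ∧ ∀ w, InA z a x (m * l₁) w → InA z a x (m * l₁) (h * w * h⁻¹)}
            one_mem' := ⟨G0.one_mem, fun w hw => by simpa using hw⟩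
            mul_mem' := fun {p q} hp hq => ⟨G0.mul_mem hp.1 hq.1, fun w hw => by
              rw [cj_cj]; exact hp.2 _ (hq.2 w hw)⟩
            inv_mem' := ?_ }, fun h hh => hh.1, fun h => Iff.rfl⟩
  rintro h ⟨hh, hA⟩
  refine ⟨G0.inv_mem hh, fun w hw => ?_⟩
  let f : {w : G // InA z a x (m * l₁) w} → {w : G // InA z a x (m * l₁) w} := fun p => ⟨h * p.1 * h⁻¹, hA p.1 p.2⟩
  have hf : Function.Injective f := fun p q e => Subtype.ext (cj_inj (congrArg Subtype.val e :))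
  obtain ⟨⟨r, hr⟩, e⟩ := (Finite.injective_iff_surjective.1 hf) ⟨w, hw⟩
  have e' : h * r * h⁻¹ = w := congrArg Subtype.val e
  rw [← e', show h⁻¹ * (h * r * h⁻¹) * h⁻¹⁻¹ = r by group]
  exact hr

variable (hG0 : Nat.card G0 = 60480) {N : Subgroup G}
  (hN : ∀ h, h ∈ N ↔ h ∈ G0 ∧ ∀ w, InA z a x (m * l₁) w → InA z a x (m * l₁) (h * w * h⁻¹))
include hG0 hN

theorem C0_N {h : G} (hh : h ∈ G0) (hz : h * z = z * h) : h ∈ N :=
  (hN h).2 ⟨hh, fun _ hw => F.A_norm D P R hm hv hh hz hw⟩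

theorem y_N : y ∈ N := (hN y).2 ⟨F.y_mem D P R hm hv, fun _ hw => F.y_A D P R hm hv hw⟩

theorem T_N {t : G} (ht : InT z a ψ t) : t ∈ N :=
  F.C0_N D P R hm hv hG0 hN (F.T_mem D P R hm ht) ht.1.1

theorem InN_N {h : G} (hh : h ∈ G0) (hU : InN z a h) : h ∈ N := by
  obtain ⟨i, hi⟩ := F.cyc_toz P.yz P.ya (hU z (Or.inr (Or.inl rfl))) (fun e => F.B.z1 (conj_eq_one_iff.1 e))
  have h1 := F.C0_N D P R hm hv hG0 hN (h := y ^ i * h) (G0.mul_mem (G0.pow_mem (F.y_mem D P R hm hv) i) hh)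
    (cj_iff.1 (by rw [cj_cj, hi]))
  have := N.mul_mem (N.inv_mem (N.pow_mem (F.y_N D P R hm hv hG0 hN) i)) h1
  rwa [inv_mul_cancel_left] at this

/-- A conjugate of the elementary group inside `T` is the group itself. -/
theorem into_T {k : G} (hk : k ∈ G0) (hT : ∀ w, InA z a x (m * l₁) w → InT z a ψ (k * w * k⁻¹)) : k ∈ N := by
  classical
  haveI : Fact (Nat.Prime 2) := ⟨Nat.prime_two⟩
  obtain ⟨hvT, hv2, hvE⟩ := F.v_facts D hm
  set v := m * l₁
  have hvU : ¬ InU z a v := fun h => hvE (F.U_E h).1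
  obtain ⟨A, hA16, hA⟩ := F.exists_A D hm
  by_contra hkN
  have sq : ∀ w, InA z a x v w → k * w * k⁻¹ * (k * w * k⁻¹) = 1 := fun w hw => by
    rw [← cj_mul, (F.InA_T D hm hw).2.1]; group
  obtain ⟨w₀, hw₀, hw₀A⟩ : ∃ w, InA z a x v w ∧ ¬ InA z a x v (k * w * k⁻¹) := by
    by_contra h
    push Not at h
    exact hkN ((hN k).2 ⟨hk, h⟩)
  have hw₀B := (F.cover D P R hm hv (hT w₀ hw₀) (sq w₀ hw₀)).resolve_left hw₀A
  -- so all lie in the other family
  have allB : ∀ w, InA z a x v w → InB z a x v g (k * w * k⁻¹) := by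
    intro w hw
    rcases F.cover D P R hm hv (hT w hw) (sq w hw) with h | h
    · rcases F.cross D P R hm hv h hw₀B (by rw [← cj_mul, ← cj_mul, (F.A_mul D P R hm hw hw₀).2]) with h' | h'
      · exact F.U_B D P R hm h'
      · exact absurd (Or.inl h') hw₀A
    · exact h
  have ontoB : ∀ q, InB z a x v g q → InA z a x v (k⁻¹ * q * k) := by
    let f : {w : G // InA z a x v w} → {w : G // InA z a x v w} := fun p => ⟨g * (k * p.1 * k⁻¹) * g⁻¹, allB p.1 p.2⟩
    have hf : Function.Injective f := fun p q e => Subtype.ext (cj_inj (cj_inj (congrArg Subtype.val e :)))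
    intro q hq
    obtain ⟨⟨r, hr⟩, e⟩ := (Finite.injective_iff_surjective.1 hf) ⟨_, hq⟩
    have e' : k * r * k⁻¹ = q := cj_inj (congrArg Subtype.val e :)
    rw [← e', show k⁻¹ * (k * r * k⁻¹) * k = r by group]
    exact hr
  -- Sylow subgroups of the normaliser
  obtain ⟨T, hT64, hTmem⟩ := F.exists_T D
  have hTN : T ≤ N := fun t ht => F.T_N D P R hm hv hG0 hN ((hTmem t).1 ht)
  have hNG : N ≤ G0 := fun h hh => ((hN h).1 hh).1
  let T' : Subgroup N := T.subgroupOf N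
  have hT'c : Nat.card T' = 64 := (Nat.card_congr (Subgroup.subgroupOfEquivOfLe hTN).toEquiv).trans hT64
  have hodd : ¬ 2 ∣ T'.index := by
    intro h2
    have h1 := T'.card_mul_index
    rw [hT'c] at h1
    have h3 : Nat.card N ∣ 60480 := hG0 ▸ Subgroup.card_dvd_of_le hNG
    rw [← h1] at h3
    exact absurd ((Nat.mul_dvd_mul_left 64 h2).trans h3) (by norm_num)
  have hp : IsPGroup 2 T' := IsPGroup.of_card (n := 6) hT'c
  let S := hp.toSylow hodd
  -- the second Sylow subgroup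
  have hsub : ∀ t, t ∈ T → k⁻¹ * t * k ∈ N := by
    intro t ht
    have htT := (hTmem t).1 ht
    refine (hN _).2 ⟨G0.mul_mem (G0.mul_mem (G0.inv_mem hk) (F.T_mem D P R hm htT)) hk, fun w hw => ?_⟩
    have h1 := allB w hw
    have h2 : InB z a x v g (t * (k * w * k⁻¹) * t⁻¹) := by
      obtain ⟨c, hc, e⟩ := F.T_comm htT (F.B_T D P R hm h1).1
      rw [show t * (k * w * k⁻¹) * t⁻¹ = k * w * k⁻¹ * c by
        rw [e, mul_assoc (k * w * k⁻¹ * t) c, ← F.U_comm hc (F.C_inv htT.1)]; group]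
      show InA z a x v _
      rw [cj_mul, F.U_conj P.gC hc]
      exact (F.A_mul D P R hm h1 (Or.inl hc)).1
    have := ontoB _ h2
    rwa [show k⁻¹ * (t * (k * w * k⁻¹) * t⁻¹) * k = k⁻¹ * t * k * w * (k⁻¹ * t * k)⁻¹ by group] at this
  let T2 : Subgroup N := (T.map (MulAut.conj k⁻¹).toMonoidHom).subgroupOf N
  have hle2 : T.map (MulAut.conj k⁻¹).toMonoidHom ≤ N := by
    rintro _ ⟨t, ht, rfl⟩
    show k⁻¹ * t * k⁻¹⁻¹ ∈ N
    rw [inv_inv]; exact hsub t ht
  have hT2c : Nat.card T2 = 64 := by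
    rw [Nat.card_congr (Subgroup.subgroupOfEquivOfLe hle2).toEquiv,
      Subgroup.card_map_of_injective (MulAut.conj k⁻¹).injective, hT64]
  obtain ⟨S2, hS2⟩ := (IsPGroup.of_card (n := 6) hT2c : IsPGroup 2 T2).exists_le_sylow
  obtain ⟨h, hh⟩ := MulAction.exists_smul_eq N S S2
  -- a normaliser of `T`
  set n := k * (h : G) with hn
  have hnG : n ∈ G0 := G0.mul_mem hk (hNG h.2)
  have hnT : ∀ t, InT z a ψ t → InT z a ψ (n * t * n⁻¹) := by
    intro t ht
    have h1 : h * (⟨t, hTN ((hTmem t).2 ht)⟩ : N) * h⁻¹ ∈ (S2 : Subgroup N) := by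
      rw [← hh, Sylow.coe_subgroup_smul]
      exact Subgroup.smul_mem_pointwise_smul _ (MulAut.conj h) _
        (by rw [IsPGroup.toSylow_coe]; exact (hTmem t).2 ht)
    have hS2c : Nat.card (S2 : Subgroup N) = 64 := by
      rw [← hh, Nat.card_congr (Sylow.equiv (h • S) S).toEquiv]
      exact (congrArg (fun K : Subgroup N => Nat.card K) (IsPGroup.toSylow_coe hp hodd)).trans hT'c
    rw [← Subgroup.eq_of_le_of_card_ge hS2 (le_of_eq (hS2c.trans hT2c.symm))] at h1
    obtain ⟨t', ht', e⟩ := Subgroup.mem_subgroupOf.1 h1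
    have e' : k⁻¹ * t' * k = (h : G) * t * (h : G)⁻¹ := by
      have : k⁻¹ * t' * k⁻¹⁻¹ = (h : G) * t * (h : G)⁻¹ := e
      rwa [inv_inv] at this
    rw [hn, cj_cj, ← e', show k * (k⁻¹ * t' * k) * k⁻¹ = t' by group]
    exact (hTmem t').1 ht'
  have hnU : InN z a n := by
    intro u hu
    refine F.center_T D P R hm hv (hnT u (F.U_T hu)) (fun r hr => ?_) (by rw [← cj_mul, F.U_sq hu]; group)
    let f : {t : G // InT z a ψ t} → {t : G // InT z a ψ t} := fun p => ⟨n * p.1 * n⁻¹, hnT p.1 p.2⟩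
    have hf : Function.Injective f := fun p q e => Subtype.ext (cj_inj (congrArg Subtype.val e :))
    obtain ⟨⟨r', hr'⟩, e⟩ := (Finite.injective_iff_surjective.1 hf) ⟨r, hr⟩
    have e' : n * r' * n⁻¹ = r := congrArg Subtype.val e
    rw [← e', ← cj_mul, ← cj_mul, F.U_comm hu hr'.1]
  have hnN := F.InN_N D P R hm hv hG0 hN hnG hnU
  refine hkN ?_
  have := N.mul_mem hnN (N.inv_mem h.2)
  rwa [hn, mul_inv_cancel_right] at this

theorem z_into {k : G} (hk : k ∈ G0) (h : InA z a x (m * l₁) (k⁻¹ * z * k)) : k ∈ N := by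
  refine F.into_T D P R hm hv hG0 hN hk fun w hw => ?_
  have hc := (F.A_mul D P R hm hw h).2
  have hz : k * w * k⁻¹ * z = z * (k * w * k⁻¹) := by
    calc k * w * k⁻¹ * z = k * (w * (k⁻¹ * z * k)) * k⁻¹ := by group
      _ = k * (k⁻¹ * z * k * w) * k⁻¹ := by rw [hc]
      _ = _ := by group
  obtain ⟨hwT, hw2, -⟩ := F.InA_T D hm hw
  have hwG := R.normal.conj_mem w (F.T_mem D P R hm hwT) k
  obtain ⟨hC, hs⟩ := (R.mem _ hz).1 hwG
  exact ⟨hC, even_invol _ (by rw [← F.B.ψ_mul _ _ hz hz, ← cj_mul, hw2, mul_one, mul_inv_cancel, F.B.ψ_one]) hs⟩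

theorem trans_A (t : G) : (InA z a x (m * l₁) t ∧ t ≠ 1) ↔ ∃ h ∈ N, t = h * z * h⁻¹ := by
  constructor
  · rintro ⟨ht, ht1⟩
    by_cases hU : InU z a t
    · obtain ⟨i, hi⟩ := F.cyc_toz P.yz P.ya hU ht1
      exact ⟨(y ^ i)⁻¹, N.inv_mem (N.pow_mem (F.y_N D P R hm hv hG0 hN) i), by rw [← hi]; group⟩
    obtain ⟨c, hcG, hcz, e⟩ := F.A_conj_v D P R hm hv ht hU
    obtain ⟨hvT, hv2, hvE⟩ := F.v_facts D hm
    obtain ⟨k₀, hk₀⟩ := hv
    obtain ⟨k, hkG, ek⟩ := F.decomp_z D P R hm ⟨k₀, hk₀⟩ k₀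
    have hkv : k * z * k⁻¹ = m * l₁ := ek.symm.trans hk₀
    have hkN : k⁻¹ ∈ N := by
      refine F.into_T D P R hm ⟨k₀, hk₀⟩ hG0 hN (G0.inv_mem hkG) fun w hw => ?_
      obtain ⟨hwT, hw2, hwv⟩ := F.InA_T D hm hw
      have hz : k⁻¹ * w * k⁻¹⁻¹ * z = z * (k⁻¹ * w * k⁻¹⁻¹) := by
        refine cj_inj (a := k) ?_
        rw [cj_mul, cj_mul k z, hkv, show k * (k⁻¹ * w * k⁻¹⁻¹) * k⁻¹ = w by group]
        exact hwv
      obtain ⟨hC, hs⟩ := (R.mem _ hz).1 (R.normal.conj_mem w (F.T_mem D P R hm hwT) _)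
      exact ⟨hC, even_invol _ (by rw [← F.B.ψ_mul _ _ hz hz, ← cj_mul, hw2, mul_one, mul_inv_cancel, F.B.ψ_one]) hs⟩
    exact ⟨c * k, N.mul_mem (F.C0_N D P R hm ⟨k₀, hk₀⟩ hG0 hN hcG hcz) (inv_inv k ▸ N.inv_mem hkN),
      by rw [cj_cj, hkv, e]⟩
  · rintro ⟨h, hh, rfl⟩
    exact ⟨((hN h).1 hh).2 z (Or.inl (Or.inr (Or.inl rfl))), fun e => F.B.z1 (conj_eq_one_iff.1 e)⟩

theorem card_N : Nat.card N = 2880 := by
  classical
  rw [← orbit_card N z _ (F.trans_A D P R hm hv hG0 hN)]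
  obtain ⟨A, hA16, hA⟩ := F.exists_A D hm
  have h15 : Nat.card {t : G // InA z a x (m * l₁) t ∧ t ≠ 1} = 15 := by
    have h := Nat.card_congr (Equiv.sumCompl (fun w : A => (w : G) ≠ 1))
    rw [Nat.card_sum, hA16] at h
    have h1 : Nat.card {w : A // ¬ (w : G) ≠ 1} = 1 :=
      Nat.card_eq_one_iff_exists.2 ⟨⟨1, fun h => h rfl⟩, fun u => Subtype.ext (Subtype.ext (not_not.1 u.2))⟩
    have h2 : Nat.card {w : A // (w : G) ≠ 1} = Nat.card {t : G // InA z a x (m * l₁) t ∧ t ≠ 1} :=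
      Nat.card_congr
        { toFun := fun w => ⟨(w.1 : G), (hA _).1 w.1.2, w.2⟩
          invFun := fun w => ⟨⟨w.1, (hA _).2 w.2.1⟩, w.2.2⟩
          left_inv := fun _ => rfl
          right_inv := fun _ => rfl }
    omega
  rw [h15, show N ⊓ Subgroup.centralizer ({z} : Set G) = G0 ⊓ Subgroup.centralizer ({z} : Set G) from
    le_antisymm (fun h hh => ⟨((hN h).1 hh.1).1, hh.2⟩)
      (fun h hh => ⟨F.C0_N D P R hm hv hG0 hN hh.1 (mem_cent.1 hh.2), hh.2⟩),
    F.card_C0 D P R hm]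

/-- The group acts as a group of automorphisms of a plane of order four. -/
theorem exists_simple {K : Type v} [Field K] [Fintype K] (hK : Fintype.card K = 4) :
    ∃ X : Subgroup G0, Nat.card X = 20160 ∧
      Nonempty (X ≃* Matrix.ProjectiveSpecialLinearGroup (Fin 3) K) := by
  classical
  haveI := Fintype.ofFinite G
  have hNG : N ≤ G0 := fun h hh => ((hN h).1 hh).1
  have hgG : ∀ h, h ∈ G0 → g * h * g⁻¹ ∈ G0 := fun h hh => R.normal.conj_mem h hh g
  let NB : Subgroup G := N.map (MulAut.conj g).toMonoidHom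
  have hNB : ∀ h, h ∈ NB ↔ g * h * g⁻¹ ∈ N := by
    intro h
    constructor
    · rintro ⟨p, hp, rfl⟩
      show g * (g * p * g⁻¹) * g⁻¹ ∈ N
      rw [F.gg_conj D P R hm]; exact hp
    · exact fun hh => ⟨_, hh, F.gg_conj D P R hm h⟩
  have hNBG : NB ≤ G0 := fun h hh => by
    have := hgG _ (hNG ((hNB h).1 hh))
    rwa [F.gg_conj D P R hm] at this
  have hNBc : Nat.card NB = 2880 := by
    rw [Subgroup.card_map_of_injective (MulAut.conj g).injective, F.card_N D P R hm hv hG0 hN]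
  have hB_NB : ∀ h, h ∈ NB → ∀ q, InB z a x (m * l₁) g q → InB z a x (m * l₁) g (h * q * h⁻¹) := by
    intro h hh q hq
    have := ((hN _).1 ((hNB h).1 hh)).2 _ hq
    show InA z a x (m * l₁) (g * (h * q * h⁻¹) * g⁻¹)
    rwa [show g * h * g⁻¹ * (g * q * g⁻¹) * (g * h * g⁻¹)⁻¹ = g * (h * q * h⁻¹) * g⁻¹ by group] at this
  have hC0NB : ∀ h, h ∈ G0 → h * z = z * h → h ∈ NB := fun h hh hz =>
    (hNB h).2 (F.C0_N D P R hm hv hG0 hN (hgG h hh) (mul_comm' (mul_comm' P.gC.1 hz) (inv_comm' P.gC.1)))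
  have hyNB : y ∈ NB := (hNB y).2 (by rw [cj_iff.2 P.gy]; exact F.y_N D P R hm hv hG0 hN)
  -- points and the base line
  let N' : Subgroup G0 := N.subgroupOf G0
  let NB' : Subgroup G0 := NB.subgroupOf G0
  have hN'c : Nat.card N' = 2880 :=
    (Nat.card_congr (Subgroup.subgroupOfEquivOfLe hNG).toEquiv).trans (F.card_N D P R hm hv hG0 hN)
  have hNB'c : Nat.card NB' = 2880 := (Nat.card_congr (Subgroup.subgroupOfEquivOfLe hNBG).toEquiv).trans hNBc
  let α := G0 ⧸ N'
  haveI : Fintype α := Fintype.ofFinite _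
  have hα : Fintype.card α = 21 := by
    rw [← Nat.card_eq_fintype_card]
    have := N'.card_mul_index
    rw [hN'c, hG0] at this
    show N'.index = 21
    omega
  let o : α := ((1 : G0) : α)
  let L0 : Finset α := Finset.univ.filter fun q => ∃ h : G0, h ∈ NB' ∧ q = (h : α)
  let L : Set (Finset α) := Set.range fun b : G0 => b • L0
  have hoL : o ∈ L0 := Finset.mem_filter.2 ⟨Finset.mem_univ _, 1, NB'.one_mem, rfl⟩
  have hstab : ∀ h : G0, h ∈ NB' → h • L0 = L0 := by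
    intro h hh
    refine Finset.eq_of_subset_of_card_le ?_ (by rw [Finset.card_smul_finset])
    intro q hq
    obtain ⟨r, hr, rfl⟩ := Finset.mem_smul_finset.1 hq
    obtain ⟨-, p, hp, rfl⟩ := Finset.mem_filter.1 hr
    exact Finset.mem_filter.2 ⟨Finset.mem_univ _, h * p, NB'.mul_mem hh hp, rfl⟩
  -- the stabiliser of point and line
  have hI : Nat.card (N'.subgroupOf NB') = 576 := by
    have hset : ∀ t, (InU z a t ∧ t ≠ 1) ↔ ∃ h ∈ (N ⊓ NB : Subgroup G), t = h * z * h⁻¹ := by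
      intro t
      constructor
      · rintro ⟨ht, ht1⟩
        obtain ⟨i, hi⟩ := F.cyc_toz P.yz P.ya ht ht1
        exact ⟨(y ^ i)⁻¹, Subgroup.inv_mem _ (Subgroup.pow_mem _
          (show y ∈ N ⊓ NB from ⟨F.y_N D P R hm hv hG0 hN, hyNB⟩) i),
          by rw [← hi]; group⟩
      · rintro ⟨h, hh, rfl⟩
        exact ⟨F.meet D P R hm (((hN h).1 hh.1).2 z (Or.inl (Or.inr (Or.inl rfl))))
          (hB_NB h hh.2 z (F.U_B D P R hm (Or.inr (Or.inl rfl)))), fun e => F.B.z1 (conj_eq_one_iff.1 e)⟩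
    have h := orbit_card (N ⊓ NB) z _ hset
    have hU3 : Nat.card {u : G // InU z a u ∧ u ≠ 1} = 3 := by
      have h := Nat.card_congr (Equiv.sumCompl (fun u : {u : G // InU z a u} => (u : G) ≠ 1))
      rw [Nat.card_sum, Nat.card_congr (Equiv.subtypeSubtypeEquivSubtypeInter (InU z a) (· ≠ 1)), F.card_U] at h
      have h1 : Nat.card {u : {u : G // InU z a u} // ¬ (u : G) ≠ 1} = 1 :=
        Nat.card_eq_one_iff_exists.2 ⟨⟨⟨1, Or.inl rfl⟩, fun h => h rfl⟩, fun u =>
          Subtype.ext (Subtype.ext (not_not.1 u.2))⟩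
      omega
    have e : (N ⊓ NB) ⊓ Subgroup.centralizer ({z} : Set G) = G0 ⊓ Subgroup.centralizer ({z} : Set G) :=
      le_antisymm (fun h hh => ⟨hNG hh.1.1, hh.2⟩) (fun h hh =>
        ⟨⟨F.C0_N D P R hm hv hG0 hN hh.1 (mem_cent.1 hh.2), hC0NB h hh.1 (mem_cent.1 hh.2)⟩, hh.2⟩)
    rw [e, F.card_C0 D P R hm, hU3] at h
    refine Eq.trans (Nat.card_congr ?_) h.symm
    exact
      { toFun := fun p => ⟨((p.1 : G0) : G), p.2, p.1.2⟩
        invFun := fun p => ⟨⟨⟨p.1, hNG p.2.1⟩, p.2.2⟩, p.2.1⟩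
        left_inv := fun _ => rfl
        right_inv := fun _ => rfl }
  have h5 : L0.card = 5 := by
    have hidx : (N'.subgroupOf NB').index = 5 := by
      have := (N'.subgroupOf NB').card_mul_index
      rw [hI, hNB'c] at this
      omega
    rw [← hidx, ← Nat.card_eq_finsetCard]
    refine (Nat.card_congr (Equiv.ofBijective (fun q : NB' ⧸ N'.subgroupOf NB' =>
      (⟨((q.out : G0) : α), Finset.mem_filter.2 ⟨Finset.mem_univ _, _, q.out.2, rfl⟩⟩ : {q // q ∈ L0})) ⟨?_, ?_⟩)).symm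
    · intro p q hpq
      rw [← QuotientGroup.out_eq' p, ← QuotientGroup.out_eq' q, QuotientGroup.eq, Subgroup.mem_subgroupOf]
      exact QuotientGroup.eq.1 (congrArg Subtype.val hpq :)
    · rintro ⟨q, hq⟩
      obtain ⟨-, h, hh, rfl⟩ := Finset.mem_filter.1 hq
      refine ⟨((⟨h, hh⟩ : NB') : NB' ⧸ N'.subgroupOf NB'), Subtype.ext (QuotientGroup.eq.2 ?_)⟩
      obtain ⟨c, hc⟩ := QuotientGroup.mk_out_eq_mul (N'.subgroupOf NB') (⟨h, hh⟩ : NB')
      rw [hc, Subgroup.coe_mul, mul_inv_rev, inv_mul_cancel_right]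
      exact N'.inv_mem c.2
  -- two lines through the base point
  have uniq : ∀ (n : G0), n ∈ N' → ∀ k : G0, k ∈ NB' → (k : α) ≠ o → (k : α) ∈ n • L0 → n ∈ NB' := by
    intro n hn k hk hko hmem
    obtain ⟨r, hr, e⟩ := Finset.mem_smul_finset.1 hmem
    obtain ⟨-, h, hh, rfl⟩ := Finset.mem_filter.1 hr
    have hm' : (n * h)⁻¹ * k ∈ N' := QuotientGroup.eq.1 e
    set K : G := (k : G) with hKd
    have hKG : K ∈ G0 := k.2
    have hzU : InU z a z := Or.inr (Or.inl rfl)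
    set u : G := (n : G) * z * (n : G)⁻¹
    have huA : InA z a x (m * l₁) u := ((hN _).1 hn).2 z (Or.inl hzU)
    set s := K⁻¹ * z * K
    have hsB : InB z a x (m * l₁) g s := by
      have := hB_NB _ (NB.inv_mem hk) z (F.U_B D P R hm hzU)
      rwa [inv_inv] at this
    have hsU : ¬ InU z a s := fun h' => hko (by
      have := F.z_into D P R hm hv hG0 hN hKG (Or.inl h')
      exact (QuotientGroup.eq.2 (by rw [inv_one, one_mul]; exact this : (1 : G0)⁻¹ * k ∈ N')).symm)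
    set u' := K⁻¹ * u * K with hu'
    have hu'N : u' ∈ N := by
      set q : G0 := (n * h)⁻¹ * k with hq
      have hqN : (q : G) ∈ N := hm'
      have eK : u' = (q : G)⁻¹ * ((h : G)⁻¹ * z * (h : G)) * q := by
        simp only [u', u, hq, K]; push_cast; group
      have hzh : InB z a x (m * l₁) g ((h : G)⁻¹ * z * (h : G)) := by
        have := hB_NB _ (NB.inv_mem hh) z (F.U_B D P R hm hzU)
        rwa [inv_inv] at this
      rw [eK]
      exact N.mul_mem (N.mul_mem (N.inv_mem hqN) (F.T_N D P R hm hv hG0 hN (F.B_T D P R hm hzh).1)) hqN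
    have hu2 : u' * u' = 1 := by
      calc u' * u' = K⁻¹ * (u * u) * K := by simp only [u']; group
        _ = 1 := by rw [(F.InA_T D hm huA).2.1]; group
    have hu's : u' * s = s * u' := by
      calc u' * s = K⁻¹ * (u * z) * K := by simp only [u', s]; group
        _ = K⁻¹ * (z * u) * K := by rw [(F.A_mul D P R hm huA (Or.inl hzU)).2]
        _ = s * u' := by simp only [u', s]; group
    have hu'U : InN z a u' := by
      intro w hw
      have h1 := ((hN _).1 hu'N).2 w (Or.inl hw)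
      refine (F.cross D P R hm hv h1 hsB ?_).resolve_right hsU
      rw [← cj_iff.2 hu's, ← cj_mul, ← cj_mul, F.U_comm hw (F.B_T D P R hm hsB).1.1]
    have hu'T := F.two_in_T D P R hm hv (hNG hu'N) hu'U hu2
    have hu'B : InB z a x (m * l₁) g u' := by
      rcases F.cover D P R hm hv hu'T hu2 with h' | h'
      · exact F.U_B D P R hm ((F.cross D P R hm hv h' hsB hu's).resolve_right hsU)
      · exact h'
    have huB : InB z a x (m * l₁) g u := by
      have := hB_NB K hk u' hu'B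
      rwa [hu', show K * (K⁻¹ * u * K) * K⁻¹ = u by group] at this
    have huU := F.meet D P R hm huA huB
    obtain ⟨i, hi⟩ := F.cyc_toz P.yz P.ya huU (fun e => F.B.z1 (conj_eq_one_iff.1 e))
    have h1 := hC0NB (y ^ i * (n : G)) (G0.mul_mem (G0.pow_mem (F.y_mem D P R hm hv) i) n.2)
      (cj_iff.1 (by rw [cj_cj]; exact hi))
    have := NB.mul_mem (NB.inv_mem (NB.pow_mem hyNB i)) h1
    rwa [inv_mul_cancel_left] at this
  -- five lines cover the plane
  have through : ∀ b : G0, o ∈ b • L0 → ∃ n : G0, n ∈ N' ∧ b • L0 = n • L0 := by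
    intro b hb
    obtain ⟨r, hr, e⟩ := Finset.mem_smul_finset.1 hb
    obtain ⟨-, h, hh, rfl⟩ := Finset.mem_filter.1 hr
    have hbh : b * h ∈ N' := by
      have := QuotientGroup.eq.1 e
      rw [mul_one] at this
      exact inv_inv (b * h) ▸ N'.inv_mem this
    exact ⟨b * h, hbh, by rw [mul_smul, hstab h hh]⟩
  have fixo : ∀ n : G0, n ∈ N' → n • o = o := fun n hn => QuotientGroup.eq.2 (by simpa using hn)
  let I : Subgroup N' := NB'.subgroupOf N'
  have hI5 : I.index = 5 := by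
    have h1 : Nat.card I = 576 := by
      rw [← hI]
      exact Nat.card_congr
        { toFun := fun p => ⟨⟨((p.1 : N') : G0), p.2⟩, p.1.2⟩
          invFun := fun p => ⟨⟨((p.1 : NB') : G0), p.2⟩, p.1.2⟩
          left_inv := fun _ => rfl
          right_inv := fun _ => rfl }
    have := I.card_mul_index
    rw [h1, hN'c] at this
    omega
  let f : (N' ⧸ I) × {q // q ∈ L0.erase o} → {q : α // q ≠ o} := fun p =>
    ⟨(p.1.out : G0) • p.2.1, fun e => (Finset.mem_erase.1 p.2.2).1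
      (MulAction.injective _ (e.trans (fixo _ p.1.out.2).symm))⟩
  have hf : Function.Injective f := by
    rintro ⟨p, q, hq⟩ ⟨p', q', hq'⟩ e
    have e' : (p.out : G0) • q = (p'.out : G0) • q' := congrArg Subtype.val e
    obtain ⟨hqo, hqL⟩ := Finset.mem_erase.1 hq
    obtain ⟨hq'o, hq'L⟩ := Finset.mem_erase.1 hq'
    have hmem : q ∈ ((p.out : G0)⁻¹ * (p'.out : G0)) • L0 :=
      Finset.mem_smul_finset.2 ⟨q', hq'L, by rw [mul_smul, ← e', inv_smul_smul]⟩
    obtain ⟨-, k, hk, rfl⟩ := Finset.mem_filter.1 hqL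
    have := uniq _ (N'.mul_mem (N'.inv_mem p.out.2) p'.out.2) k hk hqo hmem
    have hpp : p = p' := by
      rw [← QuotientGroup.out_eq' p, ← QuotientGroup.out_eq' p', QuotientGroup.eq]
      exact this
    subst hpp
    obtain rfl := MulAction.injective _ e'
    rfl
  have hsurj : Function.Surjective f := by
    refine (hf.bijective_of_nat_card_le (le_of_eq ?_)).2
    rw [Nat.card_prod, Nat.card_eq_finsetCard, Finset.card_erase_of_mem hoL, h5,
      show Nat.card (N' ⧸ I) = 5 from hI5]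
    rw [Nat.card_eq_fintype_card, Fintype.card_subtype_compl, Fintype.card_subtype_eq, hα]
  have base : ∀ q : α, q ≠ o → ∃! l, l ∈ L ∧ o ∈ l ∧ q ∈ l := by
    intro q hq
    obtain ⟨⟨p, r, hr⟩, e⟩ := hsurj ⟨q, hq⟩
    have e' : (p.out : G0) • r = q := congrArg Subtype.val e
    refine ⟨(p.out : G0) • L0, ⟨⟨_, rfl⟩, ?_, ?_⟩, ?_⟩
    · exact Finset.mem_smul_finset.2 ⟨o, hoL, fixo _ p.out.2⟩
    · exact Finset.mem_smul_finset.2 ⟨r, (Finset.mem_erase.1 hr).2, e'⟩
    rintro _ ⟨⟨b, rfl⟩, hbo, hbq⟩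
    obtain ⟨n, hn, hbn⟩ := through b hbo
    show b • L0 = _
    rw [hbn]
    change q ∈ b • L0 at hbq
    rw [hbn] at hbq
    obtain ⟨hro, hrL⟩ := Finset.mem_erase.1 hr
    obtain ⟨-, k, hk, rfl⟩ := Finset.mem_filter.1 hrL
    have hk' : (k : α) ∈ ((p.out : G0)⁻¹ * n) • L0 := by
      rw [mul_smul, ← Finset.smul_mem_smul_finset_iff (p.out : G0), smul_inv_smul, e']
      exact hbq
    have := hstab _ (uniq _ (N'.mul_mem (N'.inv_mem p.out.2) hn) k hk hro hk')
    rw [mul_smul, inv_smul_eq_iff] at this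
    exact this
  have hplane : Cfsg.Agent.Lib.PlaneFour.Basic.IsPlane L := by
    refine ⟨hα, ?_, fun s hs => ?_⟩
    · rintro _ ⟨b, rfl⟩
      show (b • L0).card = 5
      rw [Finset.card_smul_finset, h5]
    obtain ⟨p, q, hpq, rfl⟩ := Finset.card_eq_two.1 hs
    obtain ⟨k, rfl⟩ := QuotientGroup.mk_surjective p
    have hp : ((k : G0) : α) = k • o := by
      show _ = ((k * 1 : G0) : α); rw [mul_one]
    obtain ⟨l, ⟨⟨b, hb⟩, hlo, hlq⟩, hu⟩ := base (k⁻¹ • q) (fun e => hpq (by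
      rw [hp, ← e, smul_inv_smul]))
    refine ⟨k • l, ⟨⟨k * b, by show (k * b) • L0 = _; rw [mul_smul, ← hb]⟩, ?_⟩, ?_⟩
    · refine Finset.insert_subset ?_ (Finset.singleton_subset_iff.2 ?_)
      · rw [hp]; exact Finset.smul_mem_smul_finset hlo
      · rw [← smul_inv_smul k q]; exact Finset.smul_mem_smul_finset hlq
    · rintro l' ⟨⟨b', rfl⟩, hsub⟩
      have h1 := hsub (Finset.mem_insert_self _ _)
      have h2 := hsub (Finset.mem_insert_of_mem (Finset.mem_singleton_self _))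
      rw [hp] at h1
      have := hu (k⁻¹ • (b' • L0)) ⟨⟨k⁻¹ * b', mul_smul _ _ _⟩,
        by rw [← Finset.smul_mem_smul_finset_iff k, smul_inv_smul]; exact h1,
        by rw [Finset.smul_mem_smul_finset_iff k⁻¹]; exact h2⟩
      show b' • L0 = _
      rw [← this, smul_inv_smul]
  let φ : G0 →* Perm α := MulAction.toPermHom G0 α
  have hφ : ∀ k : G0, φ k ∈ setSystemAut L := by
    intro k
    refine PlanePSL.aut_of_maps ?_
    rintro _ ⟨b, rfl⟩
    refine ⟨k * b, ?_⟩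
    show (k * b) • L0 = φ k • (b • L0)
    rw [mul_smul]
    exact (Finset.image_congr fun q _ => rfl)
  -- faithfulness
  have kerN : ∀ k : G0, φ k = 1 → ∀ h : G, h ∈ G0 → h⁻¹ * (k : G) * h ∈ N := by
    intro k hk h hh
    have hfix : k • ((⟨h, hh⟩ : G0) : α) = ((⟨h, hh⟩ : G0) : α) := by
      show φ k ((⟨h, hh⟩ : G0) : α) = _
      rw [hk]; rfl
    have h' : ((⟨h, hh⟩ : G0))⁻¹ * (k * ⟨h, hh⟩) ∈ N' := QuotientGroup.eq.1 hfix.symm
    have h'' : h⁻¹ * ((k : G) * h) ∈ N := h'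
    rwa [← mul_assoc] at h''
  have ker_conj : ∀ k : G0, φ k = 1 → ∀ h : G, (hh : h ∈ G0) →
      φ ⟨h * (k : G) * h⁻¹, R.normal.conj_mem _ k.2 h⟩ = 1 := by
    intro k hk h hh
    rw [show (⟨h * (k : G) * h⁻¹, R.normal.conj_mem _ k.2 h⟩ : G0) = ⟨h, hh⟩ * k * (⟨h, hh⟩ : G0)⁻¹ from
      Subtype.ext (by push_cast; rfl), map_mul, map_mul, hk, mul_one, ← map_mul, mul_inv_cancel, map_one]
  have no2 : ∀ k : G0, φ k = 1 → (k : G) * k = 1 → k = 1 := by
    intro k hk hk2
    by_contra hk1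
    obtain ⟨h, hh, e⟩ := F.invol_G0 D P R hm hv k.2 hk2 (fun e => hk1 (Subtype.ext e))
    have allN : ∀ t, t ∈ G0 → t * t = 1 → t ≠ 1 → t ∈ N := by
      intro t ht ht2 ht1
      obtain ⟨h', hh', e'⟩ := F.invol_G0 D P R hm hv ht ht2 ht1
      have := kerN _ (ker_conj k hk (h' * h⁻¹) (G0.mul_mem hh' (G0.inv_mem hh))) 1 G0.one_mem
      simp only [inv_one, one_mul, mul_one] at this
      rwa [e, show h' * h⁻¹ * (h * z * h⁻¹) * (h' * h⁻¹)⁻¹ = h' * z * h'⁻¹ by group, ← e'] at this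
    have allT : ∀ p : {p : G // IsZ z p}, InT z a ψ p.1 := by
      rintro ⟨p, hp⟩
      obtain ⟨hpG, hp2, hp1⟩ := (F.z_iff D P R hm hv p).1 hp
      have h1 := allN p hpG hp2 hp1
      have h2 := allN (g * p * g⁻¹) (hgG p hpG) (by rw [← cj_mul, hp2]; group)
        (fun e => hp1 (conj_eq_one_iff.1 e))
      refine F.two_in_T D P R hm hv hpG (fun w hw => ?_) hp2
      exact F.meet D P R hm (((hN p).1 h1).2 w (Or.inl hw)) (hB_NB p ((hNB p).2 h2) w (F.U_B D P R hm hw))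
    have hZ : Nat.card {p : G // IsZ z p} * 192 = 60480 := by
      rw [← F.card_C0 D P R hm, ← hG0]
      refine orbit_card G0 z _ fun p => ⟨fun ⟨k, hk⟩ => ?_, fun ⟨h, _, hh⟩ => ⟨h, hh⟩⟩
      obtain ⟨h, hh, e⟩ := F.decomp_z D P R hm hv k
      exact ⟨h, hh, hk.trans e⟩
    obtain ⟨T, hT64, hT⟩ := F.exists_T D
    have hle : Nat.card {p : G // IsZ z p} ≤ Nat.card T :=
      Nat.card_le_card_of_injective (fun p => ⟨p.1, (hT _).2 (allT p)⟩)
        fun p q e => Subtype.ext (congrArg Subtype.val e :)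
    omega
  have kerT : ∀ k : G0, φ k = 1 → InT z a ψ (k : G) → k = 1 := by
    intro k hk hT
    have h4 : (k : G) * k * ((k : G) * k) = 1 := F.U_sq (F.T_sq hT)
    have h1 := no2 (k * k) (by rw [map_mul, hk, one_mul]) h4
    exact no2 k hk (congrArg Subtype.val h1)
  have kerz : ∀ k : G0, φ k = 1 → (k : G) * z = z * (k : G) → k = 1 := by
    intro k hk hkz
    obtain ⟨hkC, -⟩ := (R.mem _ hkz).1 k.2
    have comm : ∀ t, InT z a ψ t → (k : G) * t = t * k := by
      intro t ht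
      have hT : InT z a ψ ((k : G) * t * (k : G)⁻¹ * t⁻¹) := F.T_mul (F.V_conj hkC ht) (F.T_inv ht)
      have hq := kerT (k * (⟨t, F.T_mem D P R hm ht⟩ * k⁻¹ * (⟨t, F.T_mem D P R hm ht⟩ : G0)⁻¹)) (by
        simp only [map_mul, map_inv, hk, inv_one, mul_one, one_mul, mul_inv_cancel]) (by
        push_cast
        rwa [← mul_assoc, ← mul_assoc])
      have := congrArg Subtype.val hq
      push_cast at this
      rw [← mul_assoc, ← mul_assoc, mul_inv_eq_one] at this
      exact cj_iff.1 this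
    obtain ⟨hvT, hv2, hvE⟩ := F.v_facts D hm
    have hxvT := F.V_conj D.X.C hvT
    refine kerT k hk ⟨hkC, cent_two _ _ _ D.X.θ3 D.X.θ1 hvT.2
      (fun h => hvE ((F.B.ψ_ker _ hvT.1.1).1 h)) ?_ ?_⟩
    · rw [← F.B.ψ_mul _ _ hkz hvT.1.1, comm _ hvT, F.B.ψ_mul _ _ hvT.1.1 hkz]
    · rw [← F.B.ψ_conj D.X.C.1 hvT.1.1, ← F.B.ψ_mul _ _ hkz hxvT.1.1, comm _ hxvT, F.B.ψ_mul _ _ hxvT.1.1 hkz]
  have hφinj : Function.Injective φ := by
    rw [injective_iff_map_eq_one]
    -- three involutions would act without fixed points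
    have inverts : ∀ u, InU z a u → u ≠ 1 → ∀ k : G0, φ k = 1 → u * (k : G) * u = (k : G)⁻¹ := by
      intro u hu hu1 k hk
      obtain ⟨i, hi⟩ := F.cyc_toz P.yz P.ya hu hu1
      have hu2 := F.U_sq hu
      have huG := F.T_mem D P R hm (F.U_T hu)
      have hcG : y ^ i ∈ G0 := G0.pow_mem (F.y_mem D P R hm hv) i
      have cz : ∀ j : G0, φ j = 1 → (j : G) * u = u * j → j = 1 := by
        intro j hj hju
        have h1 := kerz _ (ker_conj j hj _ hcG) (by
          show y ^ i * (j : G) * (y ^ i)⁻¹ * z = z * (y ^ i * (j : G) * (y ^ i)⁻¹)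
          rw [← hi, ← cj_mul, hju, cj_mul])
        exact Subtype.ext (conj_eq_one_iff.1 (congrArg Subtype.val h1 :))
      let w : G0 := ⟨u, huG⟩
      have hw2 : w * w = 1 := Subtype.ext hu2
      let τ : φ.ker → φ.ker := fun j => ⟨(j : G0)⁻¹ * (w * j * w), by
        rw [MonoidHom.mem_ker, map_mul, map_inv, map_mul, map_mul, MonoidHom.mem_ker.1 j.2, inv_one, one_mul, mul_one,
          ← map_mul, hw2, map_one]⟩
      have hτ : Function.Injective τ := by
        rintro ⟨p, hp⟩ ⟨q, hq⟩ e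
        have e' : p⁻¹ * (w * p * w) = q⁻¹ * (w * q * w) := congrArg Subtype.val e
        have hwi := inv_sq hw2
        have hfix : w * (q * p⁻¹) * w = q * p⁻¹ := by
          calc w * (q * p⁻¹) * w = (w * q * w) * (w * p * w)⁻¹ := by
                rw [mul_inv_rev, mul_inv_rev, hwi, show w * q * w * (w * (p⁻¹ * w)) = w * q * (w * w) * (p⁻¹ * w) by
                  group, hw2]; group
            _ = (q * (q⁻¹ * (w * q * w))) * (p * (p⁻¹ * (w * p * w)))⁻¹ := by group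
            _ = (q * (q⁻¹ * (w * q * w))) * (p * (q⁻¹ * (w * q * w)))⁻¹ := by rw [e']
            _ = q * p⁻¹ := by group
        have hc : ((q * p⁻¹ : G0) : G) * u = u * ((q * p⁻¹ : G0) : G) := by
          have h : w * (w * (q * p⁻¹) * w) = w * (q * p⁻¹) := congrArg (fun t : G0 => w * t) hfix
          rw [← mul_assoc, ← mul_assoc, hw2, one_mul] at h
          exact congrArg Subtype.val h
        have := cz (q * p⁻¹) (by
          rw [map_mul, map_inv, MonoidHom.mem_ker.1 hp, MonoidHom.mem_ker.1 hq, inv_one, mul_one]) hc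
        exact Subtype.ext (mul_inv_eq_one.1 this).symm
      obtain ⟨⟨j, hj⟩, e⟩ := (Finite.injective_iff_surjective.1 hτ) ⟨k, hk⟩
      have e' : j⁻¹ * (w * j * w) = k := congrArg Subtype.val e
      rw [← e']
      push_cast
      show u * ((j : G)⁻¹ * (u * j * u)) * u = ((j : G)⁻¹ * (u * j * u))⁻¹
      rw [mul_inv_rev, mul_inv_rev, mul_inv_rev, inv_inv, inv_sq hu2,
        show u * ((j : G)⁻¹ * (u * j * u)) * u = u * (j : G)⁻¹ * u * (j : G) * (u * u) by group, hu2]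
      group
    intro k hk
    have h1 := inverts z (Or.inr (Or.inl rfl)) F.B.z1 k hk
    have h2 := inverts a (Or.inr (Or.inr (Or.inl rfl))) F.A.ne1 k hk
    have h3 := inverts (a * z) (Or.inr (Or.inr (Or.inr rfl))) (F.B.nci_mul_z F.A).ne1 k hk
    have hinv : ∀ u : G, u * u = 1 → u * (k : G) * u = (k : G)⁻¹ → u * (k : G)⁻¹ * u = k := fun u hu h => by
      rw [← h, show u * (u * (k : G) * u) * u = u * u * (k : G) * (u * u) by group, hu, one_mul, mul_one]
    have hkk : (k : G)⁻¹ = k := by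
      calc (k : G)⁻¹ = a * z * (k : G) * (a * z) := h3.symm
        _ = a * (z * (k : G) * z) * a := by rw [F.az]; nth_rewrite 1 [← F.az]; group
        _ = a * (k : G)⁻¹ * a := by rw [h1]
        _ = k := hinv a F.A.sq h2
    exact no2 k hk (by nth_rewrite 1 [← hkk]; exact inv_mul_cancel _)
  -- compare with the plane over the field
  letI : Fintype (Projectivization K (Fin 3 → K)) := Fintype.ofFinite _
  have Q := PlanePSL.isPlane_lines hK
  obtain ⟨H, hH⟩ := Cfsg.Agent.Lib.PlaneFour.Count.exists_oval Q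
  obtain ⟨H', hH'⟩ := Cfsg.Agent.Lib.PlaneFour.Count.exists_oval hplane
  obtain ⟨ε, ⟨hε, -⟩, -⟩ := Cfsg.Agent.Lib.PlaneFour.Extend.existsUnique_extend Q hplane hH hH'
    (Fintype.equivOfCardEq (by rw [Fintype.card_coe, Fintype.card_coe, hH.1, hH'.1]))
  let χ : Matrix.ProjectiveSpecialLinearGroup (Fin 3) K →* ↥(setSystemAut L) :=
    (Steiner.autEquiv ε hε).toMonoidHom.comp ((MulAction.toPermHom _ _).codRestrict _ (PlanePSL.psl_maps hK))
  have hχ : Function.Injective χ := fun p q h =>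
    MulAction.toPerm_injective (congrArg Subtype.val ((Steiner.autEquiv ε hε).injective h))
  haveI := ClassicalSL.isSimpleGroup_psl (ι := Fin 3) (F := K) (by simp)
  let φ' : G0 →* ↥(setSystemAut L) := φ.codRestrict _ hφ
  have hφ'inj : Function.Injective φ' := fun p q h => hφinj (congrArg Subtype.val h)
  have hY : Nat.card φ'.range = 60480 := by
    rw [← Nat.card_congr (MonoidHom.ofInjective hφ'inj).toEquiv, hG0]
  have hidx : φ'.range.index ≤ 2 := by
    have h := φ'.range.card_mul_index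
    have := PlanePSL.card_aut_le hplane
    rw [hY] at h
    omega
  have hYn : φ'.range.Normal := by
    have h0 : φ'.range.index ≠ 0 := Subgroup.index_ne_zero_of_finite
    by_cases h2 : φ'.range.index = 2
    · exact Subgroup.normal_of_index_eq_two h2
    · have h1 : φ'.range.index = 1 := by omega
      rw [Subgroup.index_eq_one] at h1
      rw [h1]; infer_instance
  have hsub : ∀ p, χ p ∈ φ'.range := by
    rcases (hYn.comap χ).eq_bot_or_eq_top with h | h
    · exfalso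
      have h1 : (φ'.range.comap χ).index ∣ φ'.range.index := by
        rw [Subgroup.index_comap]; exact φ'.range.relIndex_dvd_index_of_normal _
      rw [h, Subgroup.index_bot, Model.card_psl' K hK] at h1
      have := Nat.le_of_dvd (Nat.pos_of_ne_zero Subgroup.index_ne_zero_of_finite) h1
      omega
    · intro p
      have : p ∈ φ'.range.comap χ := by rw [h]; exact Subgroup.mem_top _
      exact this
  let χ' : Matrix.ProjectiveSpecialLinearGroup (Fin 3) K →* G0 :=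
    (MonoidHom.ofInjective hφ'inj).symm.toMonoidHom.comp (χ.codRestrict _ hsub)
  have hχ' : Function.Injective χ' := fun p q h =>
    hχ (congrArg Subtype.val ((MonoidHom.ofInjective hφ'inj).symm.injective h))
  exact ⟨χ'.range, by rw [← Nat.card_congr (MonoidHom.ofInjective hχ').toEquiv, Model.card_psl' K hK],
    ⟨(MonoidHom.ofInjective hχ').symm⟩⟩

omit hN in
/-- The identification. -/
theorem recognised {K : Type v} [Field K] [Fintype K] (hK : Fintype.card K = 4) :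
    Nonempty (G ≃* MulAut (GL (Fin 3) K ⧸ Subgroup.center (GL (Fin 3) K))) := by
  classical
  obtain ⟨N, -, hN⟩ := F.exists_N D P R hm hv
  obtain ⟨X, hX, ⟨ε⟩⟩ := F.exists_simple D P R hm hv hG0 hN hK
  haveI := ClassicalSL.isSimpleGroup_psl (ι := Fin 3) (F := K) (by simp)
  haveI : IsSimpleGroup X := SimpleCriteria.isSimpleGroup_congr ε.symm
  let Np : Subgroup G := X.map G0.subtype
  have hNpG : Np ≤ G0 := Subgroup.map_subtype_le X
  have hNpc : Nat.card Np = 20160 := by rw [Subgroup.card_map_of_injective G0.subtype_injective, hX]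
  haveI hn : Np.Normal := by
    refine ⟨?_⟩
    rintro _ ⟨p, hp, rfl⟩ k
    haveI := R.normal
    let c : MulAut G0 := MulAut.conjNormal k
    have e := PlanePSL.subgroup_eq X (X.map c.toMonoidHom) hX
      ((Subgroup.card_map_of_injective (f := c.toMonoidHom) c.injective).trans hX) (by rw [hG0]; norm_num)
    refine ⟨c p, ?_, MulAut.conjNormal_apply k p⟩
    show c p ∈ X
    rw [e]
    exact ⟨p, hp, rfl⟩
  have hTNp : ∀ t, InT z a ψ t → t ∈ Np := by
    intro t ht
    have htG := F.T_mem D P R hm ht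
    haveI : (Np.subgroupOf G0).Normal := hn.subgroupOf G0
    have h3 : (Np.subgroupOf G0).index = 3 := by
      have := (Np.subgroupOf G0).card_mul_index
      rw [Nat.card_congr (Subgroup.subgroupOfEquivOfLe hNpG).toEquiv, hNpc, hG0] at this
      omega
    refine (QuotientGroup.eq_one_iff (N := Np.subgroupOf G0) (⟨t, htG⟩ : G0)).1 (orderOf_eq_one_iff.1 ?_)
    have d1 : orderOf ((⟨t, htG⟩ : G0) : G0 ⧸ Np.subgroupOf G0) ∣ 3 := by
      rw [← h3]; exact orderOf_dvd_natCard _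
    have d2 : orderOf ((⟨t, htG⟩ : G0) : G0 ⧸ Np.subgroupOf G0) ∣ 4 := orderOf_dvd_iff_pow_eq_one.2 (by
      rw [← QuotientGroup.mk_pow, show (⟨t, htG⟩ : G0) ^ 4 = 1 from Subtype.ext (by
        show t ^ 4 = 1
        rw [show t ^ 4 = t * t * (t * t) by simp [pow_succ, mul_assoc], F.U_sq (F.T_sq ht)])]
      rfl)
    exact Nat.eq_one_of_dvd_coprimes (by norm_num : Nat.Coprime 3 4) d1 d2
  let εN : Np ≃* Matrix.ProjectiveSpecialLinearGroup (Fin 3) K :=
    (X.equivMapOfInjective G0.subtype G0.subtype_injective).symm.trans ε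
  have hinj : Function.Injective (MulAut.conjNormal : G →* MulAut Np) := by
    rw [injective_iff_map_eq_one]
    intro c hc
    have hcomm : ∀ t, t ∈ Np → c * t = t * c := fun t ht => by
      have := congrArg Subtype.val (DFunLike.congr_fun hc (⟨t, ht⟩ : Np))
      rw [MulAut.conjNormal_apply, MulAut.one_apply] at this
      exact cj_iff.1 this
    obtain ⟨hvT, hv2, hvE⟩ := F.v_facts D hm
    have hcz := hcomm z (hTNp z (F.U_T (Or.inr (Or.inl rfl))))
    have hca := hcomm a (hTNp a (F.U_T (Or.inr (Or.inr (Or.inl rfl)))))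
    have hxvT := F.V_conj D.X.C hvT
    have hcT : InT z a ψ c := ⟨⟨hcz, hca⟩, cent_two _ _ _ D.X.θ3 D.X.θ1 hvT.2
      (fun h => hvE ((F.B.ψ_ker _ hvT.1.1).1 h))
      (by rw [← F.B.ψ_mul _ _ hcz hvT.1.1, hcomm _ (hTNp _ hvT), F.B.ψ_mul _ _ hvT.1.1 hcz])
      (by rw [← F.B.ψ_conj D.X.C.1 hvT.1.1, ← F.B.ψ_mul _ _ hcz hxvT.1.1, hcomm _ (hTNp _ hxvT),
        F.B.ψ_mul _ _ hxvT.1.1 hcz])⟩
    have := Model.psl_center K hK (εN ⟨c, hTNp c hcT⟩) fun q => by
      obtain ⟨p, rfl⟩ := εN.surjective q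
      rw [← map_mul, ← map_mul]
      exact congrArg εN (Subtype.ext (hcomm p p.2))
    rw [MulEquiv.map_eq_one_iff] at this
    exact congrArg Subtype.val this
  haveI := Model.finite_aut K
  let ι : G →* MulAut (Matrix.ProjectiveSpecialLinearGroup (Fin 3) K) :=
    (MulAut.congr εN).toMonoidHom.comp MulAut.conjNormal
  have hι : Function.Injective ι := (MulAut.congr εN).injective.comp hinj
  have hG : Nat.card G = 241920 := by
    rw [← G0.card_mul_index, hG0, R.index]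
  obtain ⟨η⟩ := Model.aut_pgl K hK
  exact ⟨(MulEquiv.ofBijective ι (hι.bijective_of_nat_card_le (by
    rw [hG]; exact Model.card_aut_le K hK))).trans η⟩

end Frame

end Cfsg.Agent.L34Aut
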