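import Cfsg.Agent.Lib.L34Aut.Plane
import Cfsg.Agent.Lib.SEBrick.Basic
import Cfsg.Agent.Lib.Transfer.PGroup
import Cfsg.Agent.S0215
import Cfsg.Prelude.Def_Transfer
import Cfsg.Prelude.Def_CaseTheorems

/-!
The groups with an involution centraliser of shape `(D₈ * Q₈).S₄`: assembly.
-/

set_option autoImplicit false
set_option linter.style.haveILetI false
set_option linter.unusedSectionVars false

namespace Cfsg.Agent.L34Aut

open Equiv
open scoped commutatorElement

universe u v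

variable {G : Type u} [Group G] [Finite G] {z : G}

/-- The hypothesis on the centraliser, inside the group. -/
theorem exists_base (hz : orderOf z = 2)
    (E : Subgroup ↥(Subgroup.centralizer ({z} : Set G))) [E.Normal]
    (hE : Cfsg.IsExtraspecial 2 ↥E) (hE32 : Nat.card ↥E = 32)
    (hEminus : ∀ A : Subgroup ↥E, Cfsg.IsElementaryAbelian 2 A → Nat.card ↥A ≠ 8)
    (hCE : Subgroup.centralizer (E : Set ↥(Subgroup.centralizer ({z} : Set G))) ≤ E)
    (e : (↥(Subgroup.centralizer ({z} : Set G)) ⧸ E) ≃* Equiv.Perm (Fin 4)) :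
    ∃ ψ : G → S4, Base z (E.map (Subgroup.centralizer ({z} : Set G)).subtype) ψ := by
  classical
  haveI : Fact (Nat.Prime 2) := ⟨Nat.prime_two⟩
  have zz : z * z = 1 := by rw [← pow_two, ← hz, pow_orderOf_eq_one]
  have z1 : z ≠ 1 := fun h => by rw [h, orderOf_one] at hz; norm_num at hz
  let zH : (Subgroup.centralizer ({z} : Set G)) := ⟨z, mem_cent.2 rfl⟩
  have hzHE : zH ∈ E := hCE (Subgroup.mem_centralizer_iff.2 fun x _ => Subtype.ext (mem_cent.1 x.2))
  let zE : E := ⟨zH, hzHE⟩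
  have hzc : zE ∈ Subgroup.center E :=
    Subgroup.mem_center_iff.2 fun x => Subtype.ext (Subtype.ext (mem_cent.1 (x : (Subgroup.centralizer ({z} : Set G))).2))
  have hcen : ∀ x ∈ Subgroup.center E, x = 1 ∨ x = zE := by
    intro x hx
    refine or_iff_not_imp_left.2 fun h1 => congrArg Subtype.val
      (((Nat.card_eq_two_iff' (1 : Subgroup.center E)).1 hE.2).unique (y₁ := (⟨x, hx⟩ : Subgroup.center E))
        (y₂ := ⟨zE, hzc⟩) (fun h => h1 (congrArg Subtype.val h :)) fun h => z1 ?_)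
    exact congrArg (fun t : Subgroup.center E => (((t : E) : (Subgroup.centralizer ({z} : Set G))) : G)) h
  have hEz : ∀ x : E, ((x : (Subgroup.centralizer ({z} : Set G))) : G) * z = z * ((x : (Subgroup.centralizer ({z} : Set G))) : G) := fun x => mem_cent.1 (x : (Subgroup.centralizer ({z} : Set G))).2
  refine ⟨fun h => if hh : h ∈ (Subgroup.centralizer ({z} : Set G)) then e (QuotientGroup.mk ⟨h, hh⟩) else 1, ?_⟩
  constructor
  case zz => exact zz
  case z1 => exact z1
  case zE => exact ⟨zH, hzHE, rfl⟩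
  case card => rw [Subgroup.card_map_of_injective (Subgroup.centralizer ({z} : Set G)).subtype_injective, hE32]
  case Ez => rintro _ ⟨x, _, rfl⟩; exact mem_cent.1 x.2
  case norm =>
    rintro h hh _ ⟨x, hx, rfl⟩
    exact ⟨⟨h, mem_cent.2 hh⟩ * x * ⟨h, mem_cent.2 hh⟩⁻¹, ‹E.Normal›.conj_mem _ hx _, rfl⟩
  case comm =>
    rintro _ ⟨x, hx, rfl⟩ _ ⟨y, hy, rfl⟩
    have hm : (⁅(⟨x, hx⟩ : E), ⟨y, hy⟩⁆ : E) ∈ Subgroup.center E :=
      hE.1.2.2 ▸ Subgroup.commutator_mem_commutator (Subgroup.mem_top _) (Subgroup.mem_top _)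
    rcases hcen _ hm with h | h <;> have h' := congrArg (fun t : E => ((t : (Subgroup.centralizer ({z} : Set G))) : G)) h <;>
      simp only [commutatorElement_def, Subgroup.coe_mul, Subgroup.coe_inv, Subgroup.coe_one] at h'
    · left
      show (x : G) * y = y * x
      calc (x : G) * y = (x * y * (x : G)⁻¹ * (y : G)⁻¹) * (y * x) := by group
        _ = y * x := by rw [h', one_mul]
    · right
      show (x : G) * y = y * x * z
      have hyz := hEz ⟨y, hy⟩
      have hxz := hEz ⟨x, hx⟩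
      calc (x : G) * y = (x * y * (x : G)⁻¹ * (y : G)⁻¹) * (y * x) := by group
        _ = z * (y * x) := by rw [h']
        _ = y * x * z := (mul_comm' hyz hxz).symm
  case sq =>
    rintro _ ⟨x, hx, rfl⟩
    have hm : (⟨x, hx⟩ : E) ^ 2 ∈ Subgroup.center E :=
      hE.1.2.1 ▸ PGroupBasics.pow_mem_frattini hE.1.1 _
    rcases hcen _ hm with h | h <;> have h' := congrArg (fun t : E => ((t : (Subgroup.centralizer ({z} : Set G))) : G)) h <;>
      simp only [pow_two, Subgroup.coe_mul, Subgroup.coe_one] at h'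
    exacts [Or.inl h', Or.inr h']
  case center =>
    rintro _ ⟨x, hx, rfl⟩ hc
    have hm : (⟨x, hx⟩ : E) ∈ Subgroup.center E :=
      Subgroup.mem_center_iff.2 fun y => Subtype.ext (Subtype.ext (hc _ ⟨y, y.2, rfl⟩).symm)
    rcases hcen _ hm with h | h <;> have h' := congrArg (fun t : E => ((t : (Subgroup.centralizer ({z} : Set G))) : G)) h
    exacts [Or.inl h', Or.inr h']
  case minus =>
    intro A hA hA2
    by_contra hlt
    push Not at hlt
    let A' : Subgroup E := (A.comap (Subgroup.centralizer ({z} : Set G)).subtype).subgroupOf E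
    have hmem : ∀ a ∈ A', a * a = 1 := fun a ha => Subtype.ext (Subtype.ext (hA2 _ ha))
    have hcard : Nat.card A' = Nat.card A := by
      refine Nat.card_congr (Equiv.ofBijective (fun a : A' => (⟨(((a : E) : (Subgroup.centralizer ({z} : Set G))) : G), a.2⟩ : A)) ⟨?_, ?_⟩)
      · exact fun a b h => Subtype.ext (Subtype.ext (Subtype.ext (congrArg Subtype.val h :)))
      · intro ⟨a, ha⟩
        obtain ⟨x, hx, rfl⟩ := hA ha
        exact ⟨⟨⟨x, hx⟩, ha⟩, rfl⟩
    have hd : Nat.card A' ∣ 2 ^ 5 := (Subgroup.card_subgroup_dvd_card A').trans (hE32 ▸ dvd_refl _)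
    obtain ⟨k, hk, hk'⟩ := (Nat.dvd_prime_pow Nat.prime_two).1 hd
    have h8 : 2 ^ 3 ∣ Nat.card A' := by
      have h3 : 3 ≤ k := by
        by_contra h
        have := Nat.pow_le_pow_right (show 0 < 2 by norm_num) (show k ≤ 2 by omega)
        omega
      exact hk' ▸ pow_dvd_pow 2 h3
    obtain ⟨B, hB⟩ := Sylow.exists_subgroup_card_pow_prime 2 h8
    have hBA : ∀ b ∈ B.map A'.subtype, b * b = 1 := by
      rintro _ ⟨b, _, rfl⟩; exact hmem _ b.2
    refine hEminus (B.map A'.subtype) ⟨.of_setLike_mul_comm ?_, fun b hb => by rw [pow_two]; exact hBA b hb⟩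
      ((Subgroup.card_map_of_injective A'.subtype_injective).trans hB)
    intro a ha b hb
    have hab := hBA _ (mul_mem ha hb)
    rw [← inv_eq_of_mul_eq_one_right hab, mul_inv_rev, inv_eq_of_mul_eq_one_right (hBA a ha),
      inv_eq_of_mul_eq_one_right (hBA b hb)]
  case self =>
    intro h hh hc
    refine ⟨⟨h, mem_cent.2 hh⟩, hCE (Subgroup.mem_centralizer_iff.2 fun x hx => Subtype.ext ?_), rfl⟩
    exact (hc _ ⟨x, hx, rfl⟩).symm
  case ψ_mul =>
    intro a b ha hb
    have ha' : a ∈ (Subgroup.centralizer ({z} : Set G)) := mem_cent.2 ha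
    have hb' : b ∈ (Subgroup.centralizer ({z} : Set G)) := mem_cent.2 hb
    rw [dif_pos (mul_mem ha' hb'), dif_pos ha', dif_pos hb', ← map_mul]
    rfl
  case ψ_surj =>
    intro σ
    obtain ⟨h, hh⟩ := QuotientGroup.mk_surjective (e.symm σ)
    refine ⟨h, mem_cent.1 h.2, ?_⟩
    rw [dif_pos h.2, Subtype.coe_eta, hh, e.apply_symm_apply]
  case ψ_ker =>
    intro h hh
    rw [dif_pos (mem_cent.2 hh), MulEquiv.map_eq_one_iff, QuotientGroup.eq_one_iff]
    exact ⟨fun h' => ⟨_, h', rfl⟩, fun ⟨x, hx, hxe⟩ => by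
      rwa [show (⟨h, mem_cent.2 hh⟩ : (Subgroup.centralizer ({z} : Set G))) = x from Subtype.ext hxe.symm]⟩
  case cardH =>
    rw [← E.card_mul_index, hE32, Subgroup.index, Nat.card_congr e.toEquiv, Nat.card_perm, Nat.card_fin]
    rfl

namespace Base

variable {E : Subgroup G} {ψ : G → S4} (B : Base z E ψ)
include B

/-- A normal subgroup of odd order meets the centraliser trivially. -/
theorem odd_fpf {N : Subgroup G} (hn : N.Normal) (ho : Odd (Nat.card N)) {n : G} (hN : n ∈ N)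
    (hnz : n * z = z * n) : n = 1 := by
  have triv : ∀ q, q ∈ N → q ∈ E → q = 1 := fun q h1 h2 => orderOf_eq_one_iff.1
    (Nat.eq_one_of_dvd_coprimes ((Nat.coprime_two_right.2 ho).pow_right 5)
      (Subgroup.orderOf_dvd_natCard N h1)
      (show orderOf q ∣ 2 ^ 5 from (Subgroup.orderOf_dvd_natCard E h2).trans (by rw [B.card])))
  refine triv n hN (B.self n hnz fun x hx => ?_)
  have h1 : n * x * n⁻¹ * x⁻¹ ∈ N := by
    rw [show n * x * n⁻¹ * x⁻¹ = n * (x * n⁻¹ * x⁻¹) by group]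
    exact mul_mem hN (hn.conj_mem _ (inv_mem hN) _)
  have h2 := triv _ h1 (mul_mem (B.norm n hnz x hx) (inv_mem hx))
  exact cj_iff.1 (mul_inv_eq_one.1 h2)

theorem odd_surj {N : Subgroup G} (hn : N.Normal) (ho : Odd (Nat.card N)) {q : G} (hq : q ∈ N) :
    ∃ n ∈ N, n * z * n⁻¹ * z = q := by
  let f : N → N := fun n => ⟨(n : G) * z * (n : G)⁻¹ * z, by
    rw [show (n : G) * z * (n : G)⁻¹ * z = n * (z * (n : G)⁻¹ * z⁻¹) by
      rw [inv_sq B.zz]; group]
    exact mul_mem n.2 (hn.conj_mem _ (inv_mem n.2) _)⟩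
  have hf : Function.Injective f := fun n m h => by
    have e := mul_right_cancel (congrArg Subtype.val h)
    refine Subtype.ext (inv_mul_eq_one.1 (B.odd_fpf hn ho (mul_mem (inv_mem m.2) n.2) ?_)).symm
    refine cj_iff.1 ?_
    calc (m : G)⁻¹ * n * z * ((m : G)⁻¹ * n)⁻¹ = (m : G)⁻¹ * ((n : G) * z * (n : G)⁻¹) * m := by group
      _ = z := by rw [e]; group
  obtain ⟨n, hn'⟩ := (Finite.injective_iff_surjective.1 hf) ⟨q, hq⟩
  exact ⟨n, n.2, congrArg Subtype.val hn'⟩

theorem odd_inverts {N : Subgroup G} (hn : N.Normal) (ho : Odd (Nat.card N)) {q : G} (hq : q ∈ N) :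
    z * q * z = q⁻¹ := by
  obtain ⟨n, -, rfl⟩ := B.odd_surj hn ho hq
  calc z * (n * z * n⁻¹ * z) * z = z * n * z * n⁻¹ * (z * z) := by group
    _ = (n * z * n⁻¹ * z)⁻¹ := by rw [B.zz, mul_inv_rev, mul_inv_rev, mul_inv_rev, inv_sq B.zz]; group

theorem odd_comm {N : Subgroup G} (hn : N.Normal) (ho : Odd (Nat.card N)) {p q : G} (hp : p ∈ N)
    (hq : q ∈ N) : p * q = q * p := by
  have h := B.odd_inverts hn ho (mul_mem hq hp)
  have h' : z * q * z * (z * p * z) = (q * p)⁻¹ := by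
    rw [← h]
    calc z * q * z * (z * p * z) = z * q * (z * z) * p * z := by group
      _ = _ := by rw [B.zz]; group
  rw [B.odd_inverts hn ho hq, B.odd_inverts hn ho hp, ← mul_inv_rev] at h'
  exact inv_inj.1 h'

/-- Without fusion the group is solvable. -/
theorem solvable_of_no_fusion (hno : ∀ g, g * z * g⁻¹ * z = z * (g * z * g⁻¹) → g * z * g⁻¹ = z) :
    Group.IsSolvable G := by
  classical
  haveI : Fact (Nat.Prime 2) := ⟨Nat.prime_two⟩
  have two : IsPGroup 2 (Subgroup.zpowers z) := by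
    intro ⟨d, hd⟩
    obtain ⟨i, rfl⟩ := Subgroup.mem_zpowers_iff.1 hd
    exact ⟨1, Subtype.ext (by
      show (z ^ i) ^ (2 ^ 1) = 1
      rw [pow_one, ← zpow_natCast (z ^ i), ← zpow_mul, mul_comm, zpow_mul, zpow_natCast, pow_two, B.zz,
        one_zpow])⟩
  obtain ⟨P, hP⟩ := two.exists_le_sylow
  have hzP : z ∈ (P : Subgroup G) := hP (Subgroup.mem_zpowers _)
  let Q : Subgroup (P : Subgroup G) := (Subgroup.centralizer ({z} : Set G)).subgroupOf P
  have hQ : Q = ⊤ := by
    by_contra hne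
    haveI := P.isPGroup'.isNilpotent
    obtain ⟨r, hr, hrn⟩ := SetLike.exists_of_lt
      (Group.normalizerCondition_of_isNilpotent (G := (P : Subgroup G)) Q (lt_top_iff_ne_top.2 hne))
    refine hrn (mem_cent.2 (cj_iff.1 (hno r ?_)))
    have hZ : (⟨z, hzP⟩ : (P : Subgroup G)) ∈ Q := Subgroup.mem_subgroupOf.2 (mem_cent.2 rfl)
    exact mem_cent.1 (Subgroup.mem_subgroupOf.1 ((Subgroup.mem_normalizer_iff.1 hr _).1 hZ))
  have hord : orderOf z = 2 := orderOf_eq_prime (by rw [pow_two, B.zz]) B.z1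
  obtain ⟨N, hn, ho, hc⟩ := Cfsg.Agent.S0215.result P z hord hzP fun g hg => hno g (mem_cent.1
    (Subgroup.mem_subgroupOf.1 (show (⟨_, hg⟩ : (P : Subgroup G)) ∈ Q by rw [hQ]; exact Subgroup.mem_top _)))
  haveI := hn
  set H := Subgroup.centralizer ({z} : Set G)
  let φ : H →* S4 := MonoidHom.mk' (fun h => ψ (h : G)) fun a b => B.ψ_mul _ _ (mem_cent.1 a.2) (mem_cent.1 b.2)
  haveI : Group.IsSolvable H := by
    haveI := PermSmall.isSolvable_perm_fin_four
    haveI : Group.IsSolvable φ.ker := by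
      haveI : Group.IsNilpotent E := (IsPGroup.of_card (n := 5) (p := 2) B.card).isNilpotent
      let j : φ.ker →* E :=
        { toFun := fun h => ⟨((h : H) : G), (B.ψ_ker _ (mem_cent.1 (h : H).2)).1 h.2⟩
          map_one' := rfl
          map_mul' := fun _ _ => rfl }
      exact Group.isSolvable_of_isSolvable_injective (f := j)
        fun p q e => Subtype.ext (Subtype.ext (congrArg Subtype.val e :))
    exact Group.isSolvable_of_ker_le_range φ.ker.subtype φ (by rw [Subgroup.range_subtype])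
  haveI : Group.IsSolvable N := by
    exact Group.isSolvable_of_comm fun p q => Subtype.ext (B.odd_comm hn ho p.2 q.2)
  haveI : Group.IsSolvable (G ⧸ N) := by
    refine Group.isSolvable_of_surjective (f := (QuotientGroup.mk' N).comp H.subtype) fun x => ?_
    obtain ⟨g, rfl⟩ := QuotientGroup.mk'_surjective N x
    obtain ⟨n, hn', e⟩ := B.odd_surj hn ho (inv_mem (hc g))
    refine ⟨⟨n⁻¹ * g, mem_cent.2 (cj_iff.1 ?_)⟩, ?_⟩
    · have e' : n * z * n⁻¹ = g * z * g⁻¹ := mul_right_cancel (b := z) (e.trans (by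
        rw [mul_inv_rev, mul_inv_rev, mul_inv_rev, inv_inv, inv_inv, inv_sq B.zz]; group))
      calc n⁻¹ * g * z * (n⁻¹ * g)⁻¹ = n⁻¹ * (g * z * g⁻¹) * n := by group
        _ = z := by rw [← e']; group
    · show QuotientGroup.mk' N (n⁻¹ * g) = QuotientGroup.mk' N g
      rw [map_mul, show QuotientGroup.mk' N n⁻¹ = 1 from (QuotientGroup.eq_one_iff _).2 (inv_mem hn'), one_mul]
  exact Group.isSolvable_of_ker_le_range N.subtype (QuotientGroup.mk' N)
    (by rw [Subgroup.range_subtype, QuotientGroup.ker_mk'])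

end Base

/-- The recognition theorem. -/
theorem main (hz : orderOf z = 2)
    (E : Subgroup ↥(Subgroup.centralizer ({z} : Set G))) [E.Normal]
    (hE : Cfsg.IsExtraspecial 2 ↥E) (hE32 : Nat.card ↥E = 32)
    (hEminus : ∀ A : Subgroup ↥E, Cfsg.IsElementaryAbelian 2 A → Nat.card ↥A ≠ 8)
    (hCE : Subgroup.centralizer (E : Set ↥(Subgroup.centralizer ({z} : Set G))) ≤ E)
    (e : (↥(Subgroup.centralizer ({z} : Set G)) ⧸ E) ≃* Equiv.Perm (Fin 4))
    {K : Type v} [Field K] [Fintype K] (hK : Fintype.card K = 4) :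
    IsMulCommutative ↥(Cfsg.oddCore G) ∧
      (¬ Group.IsSolvable G → Nonempty (G ≃* MulAut (GL (Fin 3) K ⧸ Subgroup.center (GL (Fin 3) K)))) := by
  obtain ⟨ψ, B⟩ := exists_base hz E hE hE32 hEminus hCE e
  refine ⟨.of_setLike_mul_comm fun p hp q hq =>
    B.odd_comm (FittingCores.pPrimeCore_normal 2) SEBrick.oddCore_odd hp hq, fun hns => ?_⟩
  have hfus : ∃ g : G, g * z * g⁻¹ * z = z * (g * z * g⁻¹) ∧ g * z * g⁻¹ ≠ z := by
    by_contra h
    push Not at h
    exact hns (B.solvable_of_no_fusion h)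
  obtain ⟨a, ha, hfix⟩ := B.exists_fixed
  have F : Frame z a _ ψ := ⟨B, ha, hfix⟩
  obtain ⟨x, m, l₀, l₁, D⟩ := F.exists_data
  obtain ⟨hm, hza⟩ := F.central_conj D hfus
  obtain ⟨y, g, P⟩ := F.exists_pair D hm hza
  obtain ⟨c, G0, R⟩ := F.exists_res D P hm hza
  by_cases hv : ∃ k, k * z * k⁻¹ = m * l₁
  · exact F.recognised D P R hm hv (F.card_G0 D P R hm hv hns).1 hK
  · push Not at hv
    exact absurd (F.small_solvable D P R hm hv) hns

end Cfsg.Agent.L34Aut
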