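import Mathlib.GroupTheory.PGroup
import Mathlib.GroupTheory.Perm.Sign
import Mathlib.GroupTheory.GroupAction.Quotient
import Mathlib.Tactic.Group
import Mathlib.Tactic.IntervalCases
import Mathlib.Tactic.Linarith

/-!
An involution whose centraliser has a self-centralising normal subgroup `E = D₈ * Q₈` with quotient `S₄`:
elementary facts about `E`, and the four-group inside `E` fixed by the centraliser.
-/

set_option autoImplicit false
set_option linter.style.haveILetI false
set_option linter.unusedSectionVars false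

namespace Cfsg.Agent.L34Aut

open Equiv

/-- The symmetric group of degree four. -/
abbrev S4 := Perm (Fin 4)

/-- Membership of the normal four-group. -/
def InV (σ : S4) : Prop := σ * σ = 1 ∧ Perm.sign σ = 1

instance (σ : S4) : Decidable (InV σ) := inferInstanceAs (Decidable (_ ∧ _))

theorem inV_mul : ∀ σ τ : S4, InV σ → InV τ → InV (σ * τ) := by decide +kernel

theorem inV_conj : ∀ σ τ : S4, InV τ → InV (σ * τ * σ⁻¹) := by decide +kernel

theorem inV_comm : ∀ σ τ : S4, InV σ → InV τ → σ * τ = τ * σ := by decide +kernel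

theorem card_inV : (Finset.univ.filter fun σ : S4 => InV σ).card = 4 := by decide +kernel

universe u

variable {G : Type u} [Group G]

theorem mem_cent {a x : G} : x ∈ Subgroup.centralizer ({a} : Set G) ↔ x * a = a * x :=
  Subgroup.mem_centralizer_singleton_iff

theorem cj_mul (a x y : G) : a * (x * y) * a⁻¹ = a * x * a⁻¹ * (a * y * a⁻¹) := by group

theorem cj_cj (a b x : G) : a * b * x * (a * b)⁻¹ = a * (b * x * b⁻¹) * a⁻¹ := by group

theorem cj_iff {a x : G} : a * x * a⁻¹ = x ↔ a * x = x * a := mul_inv_eq_iff_eq_mul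

theorem cj_inj {a x y : G} (h : a * x * a⁻¹ = a * y * a⁻¹) : x = y :=
  mul_left_cancel (mul_right_cancel h)

theorem inv_sq {x : G} (h : x * x = 1) : x⁻¹ = x := inv_eq_of_mul_eq_one_right h

theorem comm_mul {a x y : G} (h1 : a * x = x * a) (h2 : a * y = y * a) : a * (x * y) = x * y * a :=
  (show Commute a x from h1).mul_right (show Commute a y from h2)

theorem mul_comm' {a x y : G} (h1 : x * a = a * x) (h2 : y * a = a * y) : x * y * a = a * (x * y) :=
  (show Commute x a from h1).mul_left (show Commute y a from h2)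

theorem inv_comm' {a x : G} (h : x * a = a * x) : x⁻¹ * a = a * x⁻¹ := (show Commute x a from h).inv_left

theorem card_le_two {p : G → Prop} (a b : G) (h : ∀ x, p x → x = a ∨ x = b) : Nat.card {x : G // p x} ≤ 2 := by
  classical
  refine le_trans (Nat.card_le_card_of_injective (β := ({a, b} : Finset G)) (fun x => ⟨x.1, ?_⟩)
    fun x y e => Subtype.ext (congrArg Subtype.val e :)) ?_
  · simpa using h x.1 x.2
  · rw [Nat.card_eq_finsetCard]; exact Finset.card_le_two

/-- The hypothesis on the centraliser of an involution, inside the group. -/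
structure Base (z : G) (E : Subgroup G) (ψ : G → S4) : Prop where
  zz : z * z = 1
  z1 : z ≠ 1
  zE : z ∈ E
  card : Nat.card E = 32
  Ez : ∀ x ∈ E, x * z = z * x
  norm : ∀ h, h * z = z * h → ∀ x ∈ E, h * x * h⁻¹ ∈ E
  comm : ∀ x ∈ E, ∀ y ∈ E, x * y = y * x ∨ x * y = y * x * z
  sq : ∀ x ∈ E, x * x = 1 ∨ x * x = z
  center : ∀ x ∈ E, (∀ y ∈ E, x * y = y * x) → x = 1 ∨ x = z
  minus : ∀ A : Subgroup G, A ≤ E → (∀ x ∈ A, x * x = 1) → Nat.card A ≤ 4
  self : ∀ h, h * z = z * h → (∀ x ∈ E, h * x = x * h) → h ∈ E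
  ψ_mul : ∀ a b, a * z = z * a → b * z = z * b → ψ (a * b) = ψ a * ψ b
  ψ_surj : ∀ σ, ∃ h, h * z = z * h ∧ ψ h = σ
  ψ_ker : ∀ h, h * z = z * h → (ψ h = 1 ↔ h ∈ E)
  cardH : Nat.card (Subgroup.centralizer ({z} : Set G)) = 768

/-- A non-central involution of `E`. -/
structure Nci (z : G) (E : Subgroup G) (a : G) : Prop where
  mem : a ∈ E
  sq : a * a = 1
  ne1 : a ≠ 1
  nez : a ≠ z

variable [Finite G] {z : G} {E : Subgroup G} {ψ : G → S4}

namespace Base

variable (B : Base z E ψ)
include B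

theorem ψ_one : ψ 1 = 1 := (B.ψ_ker 1 (by simp)).2 E.one_mem

theorem ψ_inv {a : G} (ha : a * z = z * a) : ψ a⁻¹ = (ψ a)⁻¹ := by
  refine eq_inv_of_mul_eq_one_left ?_
  rw [← B.ψ_mul _ _ (inv_comm' ha) ha, inv_mul_cancel, B.ψ_one]

theorem ψ_conj {a b : G} (ha : a * z = z * a) (hb : b * z = z * b) :
    ψ (a * b * a⁻¹) = ψ a * ψ b * (ψ a)⁻¹ := by
  rw [B.ψ_mul _ _ (mul_comm' ha hb) (inv_comm' ha), B.ψ_mul _ _ ha hb, B.ψ_inv ha]

theorem zcj {x y : G} (hx : x * z = z * x) (hy : y * z = z * y) : x * y * x⁻¹ * z = z * (x * y * x⁻¹) :=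
  mul_comm' (mul_comm' hx hy) (inv_comm' hx)

theorem conjE {q x : G} (hq : q ∈ E) (hx : x ∈ E) : q * x * q⁻¹ = x ∨ q * x * q⁻¹ = x * z := by
  rcases B.comm q hq x hx with h | h
  · exact Or.inl (cj_iff.2 h)
  · right
    rw [h, mul_assoc, ← (inv_comm' (B.Ez q hq)), mul_assoc x q, mul_inv_cancel_left]

theorem z_mul_z {x : G} : x * z * z = x := by rw [mul_assoc, B.zz, mul_one]

theorem xz_ne {x : G} : x * z ≠ x := fun e => B.z1 (mul_eq_left.1 e)

theorem sq_mul_z {x : G} (hx : x ∈ E) : x * z * (x * z) = x * x := by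
  rw [show x * z * (x * z) = x * (z * x) * z by group, ← B.Ez x hx]
  calc x * (x * z) * z = x * x * (z * z) := by group
    _ = x * x := by rw [B.zz, mul_one]

/-- A subgroup of `E` meets the centraliser of an element of `E` in index at most two. -/
theorem half (A : Subgroup G) (hA : A ≤ E) {x : G} (hx : x ∈ E) :
    Nat.card A ≤ 2 * Nat.card ↥(A ⊓ Subgroup.centralizer ({x} : Set G)) := by
  classical
  let f : ↥A → G := fun q => (q : G) * x * (q : G)⁻¹
  have hfib : ∀ q q' : ↥A, f q = f q' → (q' : G)⁻¹ * q ∈ A ⊓ Subgroup.centralizer ({x} : Set G) := by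
    intro q q' e
    refine ⟨A.mul_mem (A.inv_mem q'.2) q.2, mem_cent.2 (cj_iff.1 ?_)⟩
    calc (q' : G)⁻¹ * q * x * ((q' : G)⁻¹ * q)⁻¹ = (q' : G)⁻¹ * f q * q' := by simp only [f]; group
      _ = x := by rw [e]; simp only [f]; group
  have key : Nat.card A ≤ Nat.card ({x, x * z} : Finset G) *
      Nat.card ↥(A ⊓ Subgroup.centralizer ({x} : Set G)) := by
    rw [← Nat.card_prod]
    let g : ∀ y : ({x, x * z} : Finset G), ↥A := fun y =>
      if h : ∃ q, f q = y then h.choose else 1
    refine Nat.card_le_card_of_injective (fun q => (⟨f q, ?_⟩,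
      ⟨(g ⟨f q, ?_⟩ : G)⁻¹ * q, hfib q _ ?_⟩)) fun q q' e => ?_
    · rcases B.conjE (hA q.2) hx with h | h <;> simp [f, h]
    · rcases B.conjE (hA q.2) hx with h | h <;> simp [f, h]
    · have h : ∃ q', f q' = f q := ⟨q, rfl⟩
      simp only [g, dif_pos h]
      exact h.choose_spec.symm
    · rw [Prod.mk.injEq] at e
      have e1 : f q = f q' := congrArg Subtype.val e.1
      have e2 := congrArg Subtype.val e.2
      simp only [e1] at e2
      exact Subtype.ext (mul_left_cancel e2)
  have h2 : Nat.card ({x, x * z} : Finset G) ≤ 2 := by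
    rw [Nat.card_eq_finsetCard]; exact Finset.card_le_two
  exact key.trans (Nat.mul_le_mul_right _ h2)

/-- No abelian subgroup of order 16. -/
theorem no16 (A : Subgroup G) (hA : A ≤ E) (hab : ∀ x ∈ A, ∀ y ∈ A, x * y = y * x) : Nat.card A < 16 := by
  by_contra h
  push Not at h
  have hd : Nat.card A ∣ 32 := B.card ▸ Subgroup.card_dvd_of_le hA
  have hlt : Nat.card A ≠ 32 := by
    intro e
    have hAE := Subgroup.eq_of_le_of_card_ge hA (by rw [B.card, e])
    have : Nat.card E ≤ 2 := card_le_two 1 z fun x hx => B.center x hx fun y hy => hab x (hAE ▸ hx) y (hAE ▸ hy)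
    rw [B.card] at this; omega
  obtain ⟨m, hm, e⟩ := (Nat.dvd_prime_pow Nat.prime_two).1 (show _ ∣ 2 ^ 5 from hd)
  have h16 : Nat.card A = 16 := by interval_cases m <;> omega
  obtain ⟨x, hxE, hxA⟩ := SetLike.exists_of_lt (lt_of_le_of_ne hA fun e => by rw [e, B.card] at h16; omega)
  have hcen : ∀ y ∈ A, y * x = x * y → y = 1 ∨ y = z := by
    intro y hy hyx
    refine B.center y (hA hy) fun w hw => ?_
    have hle : A ≤ E ⊓ Subgroup.centralizer ({y} : Set G) := fun b hb => ⟨hA hb, mem_cent.2 (hab b hb y hy)⟩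
    have hlt' : A < E ⊓ Subgroup.centralizer ({y} : Set G) :=
      lt_of_le_of_ne hle fun e => hxA (e ▸ ⟨hxE, mem_cent.2 hyx.symm⟩)
    have hK : E ⊓ Subgroup.centralizer ({y} : Set G) = E := by
      refine Subgroup.eq_of_le_of_card_ge inf_le_left ?_
      have hd' : Nat.card ↥(E ⊓ Subgroup.centralizer ({y} : Set G)) ∣ 32 :=
        B.card ▸ Subgroup.card_dvd_of_le inf_le_left
      have hgt : Nat.card A < Nat.card ↥(E ⊓ Subgroup.centralizer ({y} : Set G)) :=
        lt_of_le_of_ne (Subgroup.card_le_of_le hle) fun e => hlt'.ne (Subgroup.eq_of_le_of_card_ge hle e.ge)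
      obtain ⟨m', hm', e'⟩ := (Nat.dvd_prime_pow Nat.prime_two).1 (show _ ∣ 2 ^ 5 from hd')
      rw [B.card]
      interval_cases m' <;> omega
    exact (mem_cent.1 (hK.symm ▸ hw : w ∈ E ⊓ Subgroup.centralizer ({y} : Set G)).2).symm
  have h1 := B.half A hA hxE
  have h2 : Nat.card ↥(A ⊓ Subgroup.centralizer ({x} : Set G)) ≤ 2 :=
    card_le_two 1 z fun y hy => hcen y hy.1 (mem_cent.1 hy.2)
  omega

theorem card_cent {x : G} (hx : x ∈ E) (h1 : x ≠ 1) (hz : x ≠ z) :
    Nat.card ↥(E ⊓ Subgroup.centralizer ({x} : Set G)) = 16 := by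
  have h := B.half E le_rfl hx
  rw [B.card] at h
  have hd : Nat.card ↥(E ⊓ Subgroup.centralizer ({x} : Set G)) ∣ 32 := B.card ▸ Subgroup.card_dvd_of_le inf_le_left
  have hne : Nat.card ↥(E ⊓ Subgroup.centralizer ({x} : Set G)) ≠ 32 := fun e => by
    have hK := Subgroup.eq_of_le_of_card_ge (inf_le_left : E ⊓ Subgroup.centralizer ({x} : Set G) ≤ E)
      (by rw [B.card, e])
    rcases B.center x hx (fun y hy =>
      (mem_cent.1 (hK.symm ▸ hy : y ∈ E ⊓ Subgroup.centralizer ({x} : Set G)).2).symm) with h' | h'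
    exacts [h1 h', hz h']
  obtain ⟨m, hm, e⟩ := (Nat.dvd_prime_pow Nat.prime_two).1 (show _ ∣ 2 ^ 5 from hd)
  interval_cases m <;> omega

theorem exists_nci : ∃ a, Nci z E a := by
  classical
  by_contra hcon
  push Not at hcon
  have hs : ∀ x ∈ E, x ≠ 1 → x ≠ z → x * x = z := fun x hx h1 hz =>
    (B.sq x hx).resolve_left fun h => hcon x ⟨hx, h, h1, hz⟩
  have hex : ∀ s : Finset G, s.card ≤ 4 → ∀ A : Subgroup G, 16 ≤ Nat.card A → ∃ x ∈ A, x ∉ s := by
    intro s hs A hA
    by_contra hc
    push Not at hc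
    have := Nat.card_le_card_of_injective (β := s) (fun x : A => ⟨x.1, hc x.1 x.2⟩)
      fun x y e => Subtype.ext (congrArg Subtype.val e :)
    rw [Nat.card_eq_finsetCard] at this
    omega
  obtain ⟨i, hi, his⟩ := hex {1, z} (Finset.card_le_two.trans (by norm_num)) E (by rw [B.card]; norm_num)
  simp only [Finset.mem_insert, Finset.mem_singleton, not_or] at his
  obtain ⟨k, hk, hks⟩ := hex {1, z, i, i * z} Finset.card_le_four (E ⊓ Subgroup.centralizer ({i} : Set G))
    (B.card_cent hi his.1 his.2).ge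
  simp only [Finset.mem_insert, Finset.mem_singleton, not_or] at hks
  have hii := hs i hi his.1 his.2
  have hkk := hs k hk.1 hks.1 hks.2.1
  refine hcon (i * k) ⟨E.mul_mem hi hk.1, ?_, fun e => ?_, fun e => ?_⟩
  · calc i * k * (i * k) = i * (k * i) * k := by group
      _ = i * i * (k * k) := by rw [mem_cent.1 hk.2]; group
      _ = 1 := by rw [hii, hkk, B.zz]
  · refine hks.2.2.2 ?_
    calc k = z * z * k := by rw [B.zz, one_mul]
      _ = z * i * (i * k) := by rw [show z * i * (i * k) = z * (i * i) * k by group, hii]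
      _ = i * z := by rw [e, mul_one, ← B.Ez i hi]
  · refine hks.2.2.1 ?_
    calc k = z * z * k := by rw [B.zz, one_mul]
      _ = z * i * (i * k) := by rw [show z * i * (i * k) = z * (i * i) * k by group, hii]
      _ = i * (z * z) := by rw [e, ← B.Ez i hi]; group
      _ = i := by rw [B.zz, mul_one]

/-- The involutions commuting with a given one. -/
theorem four_of_comm {a : G} (ha : Nci z E a) {y : G} (hy : y ∈ E) (hya : y * a = a * y) (hy2 : y * y = 1) :
    y = 1 ∨ y = z ∨ y = a ∨ y = a * z := by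
  classical
  by_contra hcon
  push Not at hcon
  obtain ⟨h1, h2, h3, h4⟩ := hcon
  let S : Set G := {z, a, y}
  have haz := B.Ez a ha.mem
  have hSc : ∀ p ∈ S, ∀ q ∈ S, p * q = q * p := by
    rintro p (rfl | rfl | rfl) q (rfl | rfl | rfl)
    exacts [rfl, haz.symm, (B.Ez _ hy).symm, haz, rfl, hya.symm, B.Ez _ hy, hya, rfl]
  have hA : Subgroup.closure S ≤ E := (Subgroup.closure_le _).2 (by
    rintro p (rfl | rfl | rfl)
    exacts [B.zE, ha.mem, hy])
  have hcomm := Subgroup.isMulCommutative_closure hSc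
  have hsq : ∀ p ∈ Subgroup.closure S, p * p = 1 := by
    intro p hp
    induction hp using Subgroup.closure_induction with
    | mem p hp =>
      rcases hp with rfl | rfl | rfl
      exacts [B.zz, ha.sq, hy2]
    | one => exact one_mul 1
    | mul p q hp hq ip iq =>
      have hpq : q * p = p * q := congrArg Subtype.val (hcomm.is_comm.comm ⟨q, hq⟩ ⟨p, hp⟩)
      calc p * q * (p * q) = p * (q * p) * q := by group
        _ = p * p * (q * q) := by rw [hpq]; group
        _ = 1 := by rw [ip, iq, one_mul]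
    | inv p _ ip => rw [← mul_inv_rev, ip, inv_one]
  have hle := B.minus _ hA hsq
  have hm : ({1, z, a, a * z, y} : Finset G).card ≤ Nat.card (Subgroup.closure S) := by
    rw [← Nat.card_eq_finsetCard]
    refine Nat.card_le_card_of_injective (fun p => ⟨p.1, ?_⟩) fun p q e => Subtype.ext (congrArg Subtype.val e :)
    have hp := p.2
    simp only [Finset.mem_insert, Finset.mem_singleton] at hp
    have mz : z ∈ Subgroup.closure S := Subgroup.subset_closure (Or.inl rfl)
    have ma : a ∈ Subgroup.closure S := Subgroup.subset_closure (Or.inr (Or.inl rfl))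
    rcases hp with h | h | h | h | h <;> rw [h]
    exacts [one_mem _, mz, ma, mul_mem ma mz, Subgroup.subset_closure (Or.inr (Or.inr rfl))]
  have haz1 : a * z ≠ 1 := fun e => ha.nez (by
    rw [← inv_sq B.zz]; exact eq_inv_of_mul_eq_one_left e)
  have hazz : a * z ≠ z := fun e => ha.ne1 (mul_eq_right.1 e)
  rw [Finset.card_insert_of_notMem (by simp [B.z1.symm, ha.ne1.symm, haz1.symm, Ne.symm h1]),
    Finset.card_insert_of_notMem (by simp [ha.nez.symm, hazz.symm, Ne.symm h2]),
    Finset.card_insert_of_notMem (by simp [B.xz_ne.symm, Ne.symm h3]),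
    Finset.card_pair (Ne.symm h4)] at hm
  omega

theorem nci_mul_z {a : G} (ha : Nci z E a) : Nci z E (a * z) :=
  ⟨E.mul_mem ha.mem B.zE, by rw [B.sq_mul_z ha.mem, ha.sq],
    fun e => ha.nez (by rw [← inv_sq B.zz]; exact eq_inv_of_mul_eq_one_left e),
    fun e => ha.ne1 (mul_eq_right.1 e)⟩

/-- Outside the centraliser of an involution `a`, exactly one of `w`, `w * a` is an involution. -/
theorem flip {a w : G} (ha : Nci z E a) (hw : w ∈ E) (hwa : w * a ≠ a * w) :
    w * a * (w * a) = w * w * z := by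
  have h : w * a = a * w * z := (B.comm w hw a ha.mem).resolve_left hwa
  calc w * a * (w * a) = w * a * (a * w * z) := by rw [← h]
    _ = w * (a * a) * w * z := by group
    _ = w * w * z := by rw [ha.sq, mul_one]

end Base

end Cfsg.Agent.L34Aut
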