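import Cfsg.Agent.Lib.L34Aut.Transfer
import Cfsg.Agent.S3277

/-!
When `m l₁` is not conjugate to `z`: the centraliser of `m l₁` in the subgroup of index four.
-/

set_option autoImplicit false
set_option linter.style.haveILetI false
set_option linter.unusedSectionVars false
set_option linter.unusedVariables false
set_option synthInstance.maxHeartbeats 400000
set_option synthInstance.maxSize 4000

namespace Cfsg.Agent.L34Aut

open Equiv
open scoped Pointwise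

theorem even_cent : ∀ σ ρ : S4, InV σ → σ ≠ 1 → Perm.sign ρ = 1 → ρ * σ = σ * ρ → InV ρ := by decide +kernel

universe u

variable {G : Type u} [Group G] [Finite G] {z a x m l₀ l₁ y g e w : G} {E G0 : Subgroup G} {ψ : G → S4}

/-- Normalising `⟨z, a⟩`. -/
def InN (z a h : G) : Prop := ∀ u, InU z a u → InU z a (h * u * h⁻¹)

/-- An element of order three of the subgroup of index four, cycling `z, a, az` and fixing `v`. -/
structure Cyc (z a v : G) (G0 : Subgroup G) (w : G) : Prop where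
  w3 : w ^ 3 = 1
  mem : w ∈ G0
  wv : w * v = v * w
  wz : w * z * w⁻¹ = a
  wa : w * a * w⁻¹ = a * z

theorem InN_mul {h k : G} (hh : InN z a h) (hk : InN z a k) : InN z a (h * k) := fun u hu => by
  rw [cj_cj]; exact hh _ (hk u hu)

theorem InN_pow {h : G} (hh : InN z a h) (n : ℕ) : InN z a (h ^ n) := by
  induction n with
  | zero => intro u hu; rwa [pow_zero, inv_one, one_mul, mul_one]
  | succ n ih => rw [pow_succ]; exact InN_mul ih hh

namespace Frame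

variable (F : Frame z a E ψ) (D : TData z a E ψ x m l₀ l₁)
include F

theorem cyc_U {h : G} (h1 : h * z * h⁻¹ = a) (h2 : h * a * h⁻¹ = a * z) :
    h * (a * z) * h⁻¹ = z ∧ InN z a h := by
  have h3 : h * (a * z) * h⁻¹ = z := by rw [cj_mul, h1, h2, F.az, mul_assoc, F.A.sq, mul_one]
  refine ⟨h3, ?_⟩
  rintro u (rfl | rfl | rfl | rfl)
  · left; group
  · rw [h1]; exact Or.inr (Or.inr (Or.inl rfl))
  · rw [h2]; exact Or.inr (Or.inr (Or.inr rfl))
  · rw [h3]; exact Or.inr (Or.inl rfl)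

theorem cyc_cube {h : G} (h1 : h * z * h⁻¹ = a) (h2 : h * a * h⁻¹ = a * z) : InC z a (h ^ 3) := by
  have h3 := (F.cyc_U h1 h2).1
  have e : h ^ 3 = h * h * h := by simp [pow_succ]
  constructor
  · refine cj_iff.1 ?_
    rw [e, cj_cj, h1, cj_cj, h2, h3]
  · refine cj_iff.1 ?_
    rw [e, cj_cj, h2, cj_cj, h3, h1]

theorem cyc_four {h : G} (h1 : h * z * h⁻¹ = a) (h2 : h * a * h⁻¹ = a * z) :
    h ^ 4 * z * (h ^ 4)⁻¹ = a ∧ h ^ 4 * a * (h ^ 4)⁻¹ = a * z := by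
  have hc := F.cyc_cube h1 h2
  rw [pow_succ', cj_cj, cj_cj, cj_iff.2 hc.1, cj_iff.2 hc.2]
  exact ⟨h1, h2⟩

/-- A cyclic mover takes each of `z, a, az` to `z`. -/
theorem cyc_toz {h : G} (h1 : h * z * h⁻¹ = a) (h2 : h * a * h⁻¹ = a * z) {u : G} (hu : InU z a u) (hu1 : u ≠ 1) :
    ∃ i : ℕ, h ^ i * u * (h ^ i)⁻¹ = z := by
  have h3 := (F.cyc_U h1 h2).1
  rcases hu with rfl | rfl | rfl | rfl
  · exact absurd rfl hu1
  · exact ⟨0, by group⟩
  · exact ⟨2, by rw [pow_two, cj_cj, h2, h3]⟩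
  · exact ⟨1, by rw [pow_one, h3]⟩

theorem N_inv {h : G} (hh : InN z a h) (hD : TData z a E ψ x m l₀ l₁) : InN z a h⁻¹ := fun u hu => by
  rw [inv_inv]; exact F.norm_U_inv hh u hu

variable (P : Pair z a x ψ y g) (R : Res z a E ψ g e G0) (hm : m * m = a * z)
  (hns : ∀ k, k * z * k⁻¹ ≠ m * l₁)
include D P hns

/-- A conjugate of `z` commuting with `z` lies in `⟨z, a⟩`. -/
theorem z_in_U {p : G} (hp : ∃ k, p = k * z * k⁻¹) (hpz : p * z = z * p) : InU z a p := by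
  obtain ⟨k, rfl⟩ := hp
  by_contra hU
  have hT := F.fused_T D hpz
  obtain ⟨c, hc, e⟩ := F.invol_conj D hT (by rw [← cj_mul, F.B.zz]; group) hU
  exact hns (c⁻¹ * k) (by rw [cj_cj, ← e]; group)

theorem U_conjz {u : G} (hu : InU z a u) (hu1 : u ≠ 1) : ∃ k, u = k * z * k⁻¹ := by
  obtain ⟨i, hi⟩ := F.cyc_toz P.yz P.ya hu hu1
  exact ⟨(y ^ i)⁻¹, by rw [← hi]; group⟩

/-- A conjugate of `z` commuting with an element of `⟨z, a⟩` lies there. -/
theorem triang {p u : G} (hp : ∃ k, p = k * z * k⁻¹) (hu : InU z a u) (hu1 : u ≠ 1) (hpu : p * u = u * p) :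
    InU z a p := by
  obtain ⟨i, hi⟩ := F.cyc_toz P.yz P.ya hu hu1
  obtain ⟨k, hk⟩ := hp
  have hN := InN_pow (F.cyc_U P.yz P.ya).2 i
  have h := F.z_in_U D P hns (p := y ^ i * p * (y ^ i)⁻¹) ⟨y ^ i * k, by rw [cj_cj, hk]⟩
    (by rw [← hi, ← cj_mul, hpu, cj_mul])
  have := F.norm_U_inv hN _ h
  rwa [show (y ^ i)⁻¹ * (y ^ i * p * (y ^ i)⁻¹) * y ^ i = p by group] at this

theorem N_of {h u : G} (hu : InU z a u) (hu1 : u ≠ 1) (hhu : InU z a (h * u * h⁻¹)) : InN z a h := by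
  intro u' hu'
  by_cases h1 : u' = 1
  · left; rw [h1]; group
  obtain ⟨k, hk⟩ := F.U_conjz D P hns hu' h1
  refine F.triang D P hns ⟨h * k, by rw [cj_cj, hk]⟩ hhu (fun e => hu1 (conj_eq_one_iff.1 e)) ?_
  rw [← cj_mul, ← cj_mul, (F.U_cases hu' hu).2.1]

include R

theorem G0_T {t : G} (ht : InT z a ψ t) : t ∈ G0 := (R.mem t ht.1.1).2 ⟨ht.1, ht.2.2⟩

include hm

theorem T_cent_v {h : G} (hh : InT z a ψ h) (hv : h * (m * l₁) = m * l₁ * h) : InA z a x (m * l₁) h := by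
  obtain ⟨hvT, hv2, hvE⟩ := F.v_facts D hm
  obtain ⟨A, hA16, hA⟩ := F.exists_A D hm
  have hψv : ψ (m * l₁) ≠ 1 := fun h => hvE ((F.B.ψ_ker _ hvT.1.1).1 h)
  -- remove a representative of the class
  obtain ⟨α, hα, hψ⟩ : ∃ α, α ∈ A ∧ ψ α = ψ h := by
    by_cases h1 : ψ h = 1
    · exact ⟨1, A.one_mem, by rw [h1, F.B.ψ_one]⟩
    have hxC := D.X.C
    rcases V_orbit (ψ x) (ψ (m * l₁)) (ψ h) D.X.θ3 D.X.θ1 hvT.2 hψv hh.2 h1 with e | e | e
    · exact ⟨m * l₁, (hA _).2 (Or.inr (Or.inl (by rw [inv_mul_cancel]; exact Or.inl rfl))), e.symm⟩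
    · exact ⟨x * (m * l₁) * x⁻¹, (hA _).2 (Or.inr (Or.inr (Or.inl (by rw [inv_mul_cancel]; exact Or.inl rfl)))),
        (F.B.ψ_conj hxC.1 hvT.1.1).trans e.symm⟩
    · refine ⟨x * x * (m * l₁) * (x * x)⁻¹,
        (hA _).2 (Or.inr (Or.inr (Or.inr (by rw [inv_mul_cancel]; exact Or.inl rfl)))), ?_⟩
      rw [F.B.ψ_conj (F.C_mul hxC hxC).1 hvT.1.1, F.B.ψ_mul _ _ hxC.1 hxC.1]; exact e.symm
  obtain ⟨hαT, hα2, hαv⟩ := F.InA_T D hm ((hA α).1 hα)
  have hq : InE1 a E (α⁻¹ * h) := by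
    refine ⟨(F.B.ψ_ker _ (F.C_mul (F.C_inv hαT.1) hh.1).1).1 ?_, (F.C_mul (F.C_inv hαT.1) hh.1).2⟩
    rw [F.B.ψ_mul _ _ (F.C_inv hαT.1).1 hh.1.1, F.B.ψ_inv hαT.1.1, hψ, inv_mul_cancel]
  have hqv := mul_comm' (inv_comm' hαv) hv
  suffices hU : InU z a (α⁻¹ * h) by
    have := A.mul_mem hα ((hA _).2 (Or.inl hU))
    rw [mul_inv_cancel_left] at this
    exact (hA h).1 this
  set q := α⁻¹ * h
  by_contra hU
  -- conjugation by `v` moves each class of `E ∩ C(a)`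
  obtain ⟨w, hw, hu⟩ := F.E1_forms D hq
  have hwC : InC z a w := by
    rcases hw with rfl | rfl | rfl | rfl
    exacts [⟨by simp, by simp⟩, F.E1_C D.h₀, F.E1_C D.h₁, F.C_mul (F.E1_C D.h₀) (F.E1_C D.h₁)]
  have hwv : m * l₁ * w * (m * l₁)⁻¹ = w := by
    have e : w = q * (w⁻¹ * q)⁻¹ := by group
    rw [e, cj_mul, cj_iff.2 hqv.symm, F.U_conj hvT.1 (F.U_inv hu)]
  have i0 : m * l₁ * l₀ * (m * l₁)⁻¹ = l₀ * z := by
    rw [cj_cj, F.l1_conj_l0 D, cj_mul, cj_iff.2 D.m_T.1.1, show m * l₀ * m⁻¹ = l₀ from cj_iff.2 D.c₀]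
  have i1 : m * l₁ * l₁ * (m * l₁)⁻¹ = l₁ * a := by
    rw [cj_cj, show l₁ * l₁ * l₁⁻¹ = l₁ by group, D.c₁]
  rcases hw with rfl | rfl | rfl | rfl
  · rw [inv_one, one_mul] at hu; exact hU hu
  · rw [i0] at hwv; exact F.B.xz_ne hwv
  · rw [i1] at hwv; exact F.A.ne1 (mul_eq_left.1 hwv)
  · rw [cj_mul, i0, i1, show l₀ * z * (l₁ * a) = l₀ * (z * l₁) * a by group, ← F.B.Ez _ D.h₁.1,
      show l₀ * (l₁ * z) * a = l₀ * l₁ * (z * a) by group, ← F.az] at hwv
    exact (F.B.nci_mul_z F.A).ne1 (mul_eq_left.1 hwv)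

theorem cent_z {h : G} (hh : h ∈ G0) (hv : h * (m * l₁) = m * l₁ * h) (hz : h * z = z * h) :
    InA z a x (m * l₁) h := by
  obtain ⟨hC, hs⟩ := (R.mem h hz).1 hh
  obtain ⟨hvT, hv2, hvE⟩ := F.v_facts D hm
  refine F.T_cent_v D P R hm hns ⟨hC, even_cent _ _ hvT.2 (fun h' => hvE ((F.B.ψ_ker _ hvT.1.1).1 h')) hs ?_⟩ hv
  rw [← F.B.ψ_mul _ _ hz hvT.1.1, hv, F.B.ψ_mul _ _ hvT.1.1 hz]

theorem exists_cyc : ∃ w, Cyc z a (m * l₁) G0 w := by
  obtain ⟨hvT, hv2, hvE⟩ := F.v_facts D hm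
  set v := m * l₁ with hvd
  have hyN := (F.cyc_U P.yz P.ya).2
  have hT := F.norm_T D hyN hvT
  obtain ⟨c, hc, ec⟩ := F.invol_conj D hT (by rw [← cj_mul, hv2]; group) (fun h => hvE (by
    have := F.norm_U_inv hyN _ h
    rw [show y⁻¹ * (y * v * y⁻¹) * y = v by group] at this
    exact (F.U_E this).1))
  set w0 := c⁻¹ * y with hw0
  have h0z : w0 * z * w0⁻¹ = a := by rw [cj_cj, P.yz]; exact cj_iff.2 (F.C_inv hc).2
  have h0a : w0 * a * w0⁻¹ = a * z := by
    rw [cj_cj, P.ya]; exact F.U_conj (F.C_inv hc) (Or.inr (Or.inr (Or.inr rfl)))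
  have h0v : w0 * v = v * w0 := cj_iff.1 (by rw [cj_cj, ← ec, hvd]; group)
  set k := w0 ^ 4 with hk
  have hkG : k ∈ G0 := by
    haveI := R.normal
    have h4 : ((w0 : G ⧸ G0)) ^ 4 = 1 := by
      rw [← R.index]
      exact pow_card_eq_one'
    rw [← QuotientGroup.mk_pow] at h4
    exact (QuotientGroup.eq_one_iff _).1 h4
  obtain ⟨hkz, hka⟩ := F.cyc_four h0z h0a
  have hkv : k * v = v * k := ((show Commute w0 v from h0v).pow_left 4).eq
  obtain ⟨-, h6, -⟩ := F.InA_T D hm (F.cent_z D P R hm hns (G0.pow_mem hkG 3)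
    ((show Commute k v from hkv).pow_left 3).eq (F.cyc_cube hkz hka).1)
  refine ⟨k ^ 4, ⟨?_, G0.pow_mem hkG 4, ((show Commute k v from hkv).pow_left 4).eq, (F.cyc_four hkz hka).1,
    (F.cyc_four hkz hka).2⟩⟩
  rw [← pow_mul, show 4 * 3 = 3 + 3 + (3 + 3) from rfl, pow_add (a := k) (3 + 3) (3 + 3), pow_add k 3 3, h6, one_mul]

variable (W : Cyc z a (m * l₁) G0 w)
include W

/-- Elements fixing `v` and normalising `⟨z, a⟩`. -/
theorem N_cent {h : G} (hh : h ∈ G0) (hv : h * (m * l₁) = m * l₁ * h) (hN : InN z a h) :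
    ∃ i : ℕ, InA z a x (m * l₁) (w ^ i * h) := by
  obtain ⟨i, hi⟩ := F.cyc_toz W.wz W.wa (hN z (Or.inr (Or.inl rfl))) (fun e => F.B.z1 (conj_eq_one_iff.1 e))
  refine ⟨i, F.cent_z D P R hm hns (G0.mul_mem (G0.pow_mem W.mem i) hh)
    (mul_comm' ((show Commute w _ from W.wv).pow_left i).eq hv) (cj_iff.1 ?_)⟩
  rw [cj_cj, hi]

theorem cent_U {h u : G} (hh : h ∈ G0) (hv : h * (m * l₁) = m * l₁ * h) (hu : InU z a u) (hu1 : u ≠ 1)
    (hhu : h * u = u * h) : InA z a x (m * l₁) h := by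
  refine F.cent_z D P R hm hns hh hv ?_
  have hN : InN z a h := F.N_of D P hns hu hu1 (by rw [cj_iff.2 hhu]; exact hu)
  obtain ⟨i, hi⟩ := F.N_cent D P R hm hns W hh hv hN
  have hT := (F.InA_T D hm hi).1
  -- the power of `w` fixes `u`
  have hwu : w ^ i * u = u * w ^ i := by
    have h1 := F.U_conj hT.1 hu
    rw [cj_cj, cj_iff.2 hhu] at h1
    exact cj_iff.1 h1
  have hwz : w ^ i * z = z * w ^ i := by
    obtain ⟨j, hj⟩ := F.cyc_toz W.wz W.wa hu hu1
    rw [← hj]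
    exact comm_mul (comm_mul ((Commute.refl w).pow_pow i j).eq hwu) ((Commute.refl w).pow_pow i j).inv_right.eq
  have := mul_comm' (inv_comm' hwz) hT.1.1
  rwa [inv_mul_cancel_left] at this

/-- A two-element normalising `⟨z, a⟩` and fixing `v` lies in the elementary group. -/
theorem two_N {h : G} {n : ℕ} (hh : h ∈ G0) (hv : h * (m * l₁) = m * l₁ * h) (hN : InN z a h)
    (h2 : h ^ (2 ^ n) = 1) : InA z a x (m * l₁) h := by
  obtain ⟨hzaz, hwN⟩ := F.cyc_U W.wz W.wa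
  have hz1 : InU z a (h * z * h⁻¹) := hN z (Or.inr (Or.inl rfl))
  have ha1 : InU z a (h * a * h⁻¹) := hN a (Or.inr (Or.inr (Or.inl rfl)))
  have fix := fun u hu hu1 e => F.cent_U D P R hm hns W hh hv (u := u) hu hu1 (cj_iff.1 e)
  have cyc : ∀ u, InU z a u → u ≠ 1 → h ^ 3 * u * (h ^ 3)⁻¹ = u → h * (h * u * h⁻¹) * h⁻¹ ≠ u → False := by
    intro u hu hu1 h3 hne
    obtain ⟨-, h6, -⟩ := F.InA_T D hm (F.cent_U D P R hm hns W (G0.pow_mem hh 3)
      ((show Commute h _ from hv).pow_left 3).eq hu hu1 (cj_iff.1 h3))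
    have hsq : h ^ 2 = 1 := by
      refine orderOf_dvd_iff_pow_eq_one.1 ?_
      have d1 : orderOf h ∣ 6 := orderOf_dvd_iff_pow_eq_one.2 (by rw [pow_add h 3 3]; exact h6)
      obtain ⟨k, -, hk⟩ := (Nat.dvd_prime_pow Nat.prime_two).1 (orderOf_dvd_iff_pow_eq_one.2 h2)
      rw [hk] at d1 ⊢
      rcases k with _ | _ | k
      · simp
      · simp
      · exfalso
        rw [pow_succ, pow_succ, mul_assoc] at d1
        have h4 := (dvd_mul_left _ _).trans d1
        norm_num at h4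
    exact hne (by rw [← cj_cj, ← pow_two, hsq]; group)
  have e3 : ∀ u, h ^ 3 * u * (h ^ 3)⁻¹ = h * (h * (h * u * h⁻¹) * h⁻¹) * h⁻¹ := fun u => by
    simp only [pow_succ, pow_zero, one_mul]; group
  have ne_one : ∀ u, u ≠ 1 → h * u * h⁻¹ ≠ 1 := fun u hu e => hu (conj_eq_one_iff.1 e)
  have hazU : InU z a (a * z) := Or.inr (Or.inr (Or.inr rfl))
  have haU : InU z a a := Or.inr (Or.inr (Or.inl rfl))
  have hzU : InU z a z := Or.inr (Or.inl rfl)
  have haz1 := (F.B.nci_mul_z F.A).ne1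
  rcases hz1 with e | e | e | e
  · exact absurd e (ne_one z F.B.z1)
  · exact fix z hzU F.B.z1 e
  · rcases ha1 with e' | e' | e' | e'
    · exact absurd e' (ne_one a F.A.ne1)
    · exact fix _ hazU haz1 (by rw [cj_mul, e, e', F.az])
    · exact fix a haU F.A.ne1 e'
    · exfalso
      have e'' : h * (a * z) * h⁻¹ = z := by rw [cj_mul, e, e', F.az, mul_assoc, F.A.sq, mul_one]
      exact cyc z hzU F.B.z1 (by rw [e3, e, e', e'']) (by rw [e, e']; exact (F.B.nci_mul_z F.A).nez)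
  · rcases ha1 with e' | e' | e' | e'
    · exact absurd e' (ne_one a F.A.ne1)
    · exfalso
      have e'' : h * (a * z) * h⁻¹ = a := by rw [cj_mul, e, e', F.az, ← mul_assoc, F.B.zz, one_mul]
      exact cyc a haU F.A.ne1 (by rw [e3, e', e, e'']) (by
        rw [e', e]; intro h'; exact F.B.z1 (mul_eq_left.1 h'))
    · exact fix a haU F.A.ne1 e'
    · exact absurd (cj_inj (e'.trans e.symm)) F.A.nez

/-- The projection onto the fixed points of `w` in the elementary group. -/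
theorem proj (α : G) (hα : InA z a x (m * l₁) α) :
    InA z a x (m * l₁) (w * α * w⁻¹) ∧
      InU z a (α⁻¹ * (w * α * w⁻¹)) := by
  obtain ⟨hvT, hv2, hvE⟩ := F.v_facts D hm
  have hwN := (F.cyc_U W.wz W.wa).2
  have hw3 : w * w * w = 1 := by rw [← W.w3]; simp [pow_succ]
  obtain ⟨A, hA16, hA⟩ := F.exists_A D hm
  set v := m * l₁ with hv
  have conjA : ∀ p, p ∈ A → w * p * w⁻¹ ∈ A := by
    intro p hp
    obtain ⟨hpT, hp2, hpv⟩ := F.InA_T D hm ((hA p).1 hp)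
    refine (hA _).2 (F.mem_A_of_comm D hm (F.norm_T D hwN hpT) (by rw [← cj_mul, hp2]; group) ?_)
    show w * p * w⁻¹ * v = v * (w * p * w⁻¹)
    rw [← cj_iff.2 W.wv, ← cj_mul, ← cj_mul, hpv]
  refine ⟨(hA _).1 (conjA α ((hA α).2 hα)), ?_⟩
  have hvA : v ∈ A := (hA v).2 (Or.inr (Or.inl (by rw [inv_mul_cancel]; exact Or.inl rfl)))
  have cA : ∀ p q, p ∈ A → q ∈ A → p * q = q * p := by
    intro p q hp hq
    have h1 := (F.InA_T D hm ((hA _).1 (A.mul_mem hp hq))).2.1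
    have h2 := inv_sq h1
    rw [mul_inv_rev, inv_sq (F.InA_T D hm ((hA q).1 hq)).2.1, inv_sq (F.InA_T D hm ((hA p).1 hp)).2.1] at h2
    exact h2.symm
  let B : Subgroup G :=
    { carrier := {p | InU z a p ∨ InU z a (v * p)}
      one_mem' := Or.inl (Or.inl rfl)
      mul_mem' := fun {p q} hp hq => by
        rcases hp with hp | hp <;> rcases hq with hq | hq
        · exact Or.inl (F.U_mul hp hq)
        · right
          have := F.U_comm hp hvT.1
          rw [← mul_assoc, this, mul_assoc]; exact F.U_mul hp hq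
        · right; rw [← mul_assoc]; exact F.U_mul hp hq
        · left
          have h := F.U_mul hp hq
          have e : v * p * (v * q) = v * (p * v) * q := by group
          have hpC : p = v * (v * p) := by rw [← mul_assoc, hv2, one_mul]
          have hpv : p * v = v * p := by
            rw [hpC, mul_assoc, ← F.U_comm hp hvT.1]
          rwa [e, hpv, ← mul_assoc, hv2, one_mul] at h
      inv_mem' := fun {p} hp => by
        rcases hp with hp | hp
        · exact Or.inl (F.U_inv hp)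
        · right
          have hpC : p = v * (v * p) := by rw [← mul_assoc, hv2, one_mul]
          have hpp : p * p = 1 := by rw [hpC, F.sq_mul_U D hvT.1 hp, hv2]
          rw [inv_sq hpp]; exact hp }
  have hBA : B ≤ A := by
    rintro p (hp | hp)
    · exact (hA p).2 (Or.inl hp)
    · exact (hA p).2 (Or.inr (Or.inl (by rw [inv_sq hv2]; exact hp)))
  have hB8 : Nat.card B = 8 := by
    have e : {u : G // InU z a u} ⊕ {u : G // InU z a u} ≃ B := by
      refine Equiv.ofBijective (Sum.elim (fun u => ⟨u.1, Or.inl u.2⟩)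
        (fun u => ⟨v * u.1, Or.inr (by rw [← mul_assoc, hv2, one_mul]; exact u.2)⟩)) ⟨?_, ?_⟩
      · have nv : ∀ u u', InU z a u → InU z a u' → u ≠ v * u' := fun u u' hu hu' e => hvE (by
          have := (F.U_E (F.U_mul hu (F.U_inv hu'))).1
          rwa [e, mul_inv_cancel_right] at this)
        rintro (⟨u, hu⟩ | ⟨u, hu⟩) (⟨u', hu'⟩ | ⟨u', hu'⟩) e <;> have e' := congrArg Subtype.val e <;>
          simp only [Sum.elim_inl, Sum.elim_inr] at e'
        · subst e'; rfl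
        · exact absurd e' (nv _ _ hu hu')
        · exact absurd e'.symm (nv _ _ hu' hu)
        · obtain rfl := mul_left_cancel e'; rfl
      · rintro ⟨p, hp | hp⟩
        · exact ⟨Sum.inl ⟨p, hp⟩, rfl⟩
        · exact ⟨Sum.inr ⟨v * p, hp⟩, Subtype.ext (by show v * (v * p) = p; rw [← mul_assoc, hv2, one_mul])⟩
    rw [← Nat.card_congr e, Nat.card_sum, F.card_U]
  have h2 : (B.subgroupOf A).index = 2 := by
    have h := (B.subgroupOf A).card_mul_index
    rw [Nat.card_congr (Subgroup.subgroupOfEquivOfLe hBA).toEquiv, hB8, hA16] at h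
    omega
  have hwB : ∀ p, p ∈ A → (w * p * w⁻¹ ∈ B ↔ p ∈ B) := by
    have fwd : ∀ p, p ∈ B → w * p * w⁻¹ ∈ B := by
      rintro p (hp | hp)
      · exact Or.inl (hwN p hp)
      · right
        have := hwN _ hp
        rwa [cj_mul, cj_iff.2 W.wv] at this
    intro p _
    refine ⟨fun h => ?_, fwd p⟩
    have := fwd _ (fwd _ h)
    rwa [← cj_cj, ← cj_cj, hw3, inv_one, one_mul, mul_one] at this
  set β := α⁻¹ * (w * α * w⁻¹) with hβ
  have hαA := (hA α).2 hα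
  have hβB : β ∈ B := by
    by_cases h : α ∈ B
    · exact B.mul_mem (B.inv_mem h) ((hwB α hαA).2 h)
    · have hh := Subgroup.mul_mem_iff_of_index_two h2 (a := (⟨α, hαA⟩ : A)⁻¹)
        (b := ⟨w * α * w⁻¹, conjA α hαA⟩)
      refine hh.2 (iff_of_false ?_ ?_)
      · rw [inv_mem_iff]; exact h
      · exact fun h' => h ((hwB α hαA).1 h')
  rcases hβB with hU | hU
  · exact hU
  exfalso
  -- three steps would return `α` multiplied by `v`
  have hβA : β ∈ A := A.mul_mem (A.inv_mem hαA) (conjA α hαA)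
  set b := v * β with hb
  have e1 : w * α * w⁻¹ = α * (v * b) := by
    rw [hb, ← mul_assoc v v, hv2, one_mul, hβ]; group
  have hbC : ∀ p, p ∈ A → p * b = b * p := fun p hp => cA p b hp ((hA b).2 (Or.inl hU))
  have key : α = α * (v * (b * (w * b * w⁻¹) * (w * (w * b * w⁻¹) * w⁻¹))) := by
    have e2 : w * (w * α * w⁻¹) * w⁻¹ = α * (v * b) * (v * (w * b * w⁻¹)) := by
      rw [e1, cj_mul, e1, cj_mul, cj_iff.2 W.wv]
    have e3 : w * (w * (w * α * w⁻¹) * w⁻¹) * w⁻¹ = α * (v * b) * (v * (w * b * w⁻¹)) *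
        (v * (w * (w * b * w⁻¹) * w⁻¹)) := by
      rw [e2, cj_mul, cj_mul, e1, cj_mul w v b, cj_mul w v (w * b * w⁻¹), cj_iff.2 W.wv]
    have hb1 := hwN b hU
    rw [← cj_cj, ← cj_cj, hw3, inv_one, one_mul, mul_one] at e3
    refine e3.trans ?_
    have q1 : v * (w * b * w⁻¹) = w * b * w⁻¹ * v := cA v _ hvA ((hA _).2 (Or.inl hb1))
    calc α * (v * b) * (v * (w * b * w⁻¹)) * (v * (w * (w * b * w⁻¹) * w⁻¹))
        = α * v * b * (v * (w * b * w⁻¹) * v) * (w * (w * b * w⁻¹) * w⁻¹) := by group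
      _ = α * v * b * (w * b * w⁻¹ * (v * v)) * (w * (w * b * w⁻¹) * w⁻¹) := by rw [q1]; group
      _ = _ := by rw [hv2]; group
  have hsum : InU z a (b * (w * b * w⁻¹) * (w * (w * b * w⁻¹) * w⁻¹)) :=
    F.U_mul (F.U_mul hU (hwN b hU)) (hwN _ (hwN b hU))
  have := eq_inv_of_mul_eq_one_left (mul_eq_left.1 key.symm)
  exact hvE (this ▸ (F.U_E (F.U_inv hsum)).1)

end Frame

end Cfsg.Agent.L34Aut
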