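import Cfsg.Agent.Lib.L34Aut.Small1

/-!
When `m l₁` is not conjugate to `z`: its centraliser modulo the fixed points of an element of order three.
-/

set_option autoImplicit false
set_option linter.style.haveILetI false
set_option linter.unusedSectionVars false
set_option linter.unusedVariables false
set_option synthInstance.maxHeartbeats 400000
set_option synthInstance.maxSize 4000

namespace Cfsg.Agent.L34Aut

open Equiv
open scoped Pointwise

theorem card_invol_five : (Finset.univ.filter fun σ : Perm (Fin 5) =>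
    Perm.sign σ = 1 ∧ σ * σ = 1 ∧ σ ≠ 1).card = 15 := by decide +kernel

theorem card_invol_A5 {K : Type*} [Group K] (h : Nonempty (K ≃* alternatingGroup (Fin 5))) :
    Nat.card {k : K // k * k = 1 ∧ k ≠ 1} = 15 := by
  classical
  obtain ⟨f⟩ := h
  refine Eq.trans (Nat.card_congr ?_) ((Nat.card_eq_finsetCard _).trans card_invol_five)
  refine Equiv.ofBijective
    (fun k : {k : K // k * k = 1 ∧ k ≠ 1} => (⟨(f k.1 : Perm (Fin 5)), by
      refine Finset.mem_filter.2 ⟨Finset.mem_univ _, Equiv.Perm.mem_alternatingGroup.1 (f k.1).2, ?_, ?_⟩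
      · rw [← Subgroup.coe_mul, ← map_mul, k.2.1, map_one, Subgroup.coe_one]
      · exact fun h => k.2.2 (f.injective (by rw [map_one]; exact Subtype.ext h))⟩ :
      {σ // σ ∈ Finset.univ.filter fun σ : Perm (Fin 5) => Perm.sign σ = 1 ∧ σ * σ = 1 ∧ σ ≠ 1})) ⟨?_, ?_⟩
  · intro p q e
    exact Subtype.ext (f.injective (Subtype.ext (congrArg Subtype.val e :)))
  · rintro ⟨σ, hσ⟩
    obtain ⟨-, h1, h2, h3⟩ := Finset.mem_filter.1 hσ
    obtain ⟨k, hk⟩ := f.surjective ⟨σ, Equiv.Perm.mem_alternatingGroup.2 h1⟩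
    refine ⟨⟨k, f.injective ?_, fun e => h3 ?_⟩, Subtype.ext (congrArg Subtype.val hk :)⟩
    · rw [map_mul, map_one, hk]; exact Subtype.ext h2
    · rw [e, map_one] at hk; exact (congrArg Subtype.val hk).symm

universe u

variable {G : Type u} [Group G] [Finite G] {z a x m l₀ l₁ y g e w : G} {E G0 : Subgroup G} {ψ : G → S4}

/-- The product of the three translates under `w`. -/
def proj3 (w p : G) : G := p * (w * p * w⁻¹) * (w * (w * p * w⁻¹) * w⁻¹)

/-- A homomorphism on the centraliser of `v` onto the fixed points of `w` in the elementary group. -/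
structure Proj (z a x v w : G) (G0 M : Subgroup G) (V : G → G) : Prop where
  mem : ∀ h, h ∈ M ↔ h ∈ G0 ∧ h * v = v * h
  hom : ∀ p q, p ∈ M → q ∈ M → V (p * q) = V p * V q
  onA : ∀ α, InA z a x v α → V α = proj3 w α
  im : ∀ h, h ∈ M → InA z a x v (V h) ∧ proj3 w (V h) = V h
  conjA : ∀ q, q ∈ M → q * q = 1 → ∃ h α, h ∈ M ∧ InA z a x v α ∧ q = h * α * h⁻¹
  sub : ∀ Q : Subgroup G, IsPGroup 2 Q → Q ≤ M → ∃ h, h ∈ M ∧ ∀ q, q ∈ Q → InA z a x v (h⁻¹ * q * h)

namespace Frame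

variable (F : Frame z a E ψ) (D : TData z a E ψ x m l₀ l₁) (P : Pair z a x ψ y g)
  (R : Res z a E ψ g e G0) (hm : m * m = a * z) (hns : ∀ k, k * z * k⁻¹ ≠ m * l₁)
  (W : Cyc z a (m * l₁) G0 w)
include F D P R hm hns W

theorem A_facts {p q : G} (hp : InA z a x (m * l₁) p) (hq : InA z a x (m * l₁) q) :
    InA z a x (m * l₁) (p * q) ∧ p * q = q * p ∧ p * p = 1 ∧ InA z a x (m * l₁) (w * p * w⁻¹) := by
  obtain ⟨A, -, hA⟩ := F.exists_A D hm
  have hpq := (hA _).1 (A.mul_mem ((hA p).2 hp) ((hA q).2 hq))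
  refine ⟨hpq, ?_, (F.InA_T D hm hp).2.1, (F.proj D P R hm hns W p hp).1⟩
  have h2 := inv_sq (F.InA_T D hm hpq).2.1
  rw [mul_inv_rev, inv_sq (F.InA_T D hm hq).2.1, inv_sq (F.InA_T D hm hp).2.1] at h2
  exact h2.symm

theorem proj3_facts {p : G} (hp : InA z a x (m * l₁) p) :
    InA z a x (m * l₁) (proj3 w p) ∧ w * proj3 w p * w⁻¹ = proj3 w p ∧ proj3 w (w * p * w⁻¹) = proj3 w p ∧
      proj3 w (proj3 w p) = proj3 w p ∧ InU z a (p⁻¹ * proj3 w p) := by
  obtain ⟨-, -, hp2, h1⟩ := F.A_facts D P R hm hns W hp hp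
  obtain ⟨-, -, -, h2⟩ := F.A_facts D P R hm hns W h1 h1
  have h12 := (F.A_facts D P R hm hns W h1 h2).1
  obtain ⟨hin, -, -, -⟩ := F.A_facts D P R hm hns W (F.A_facts D P R hm hns W hp h1).1 h2
  have hw3 : w * w * w = 1 := by rw [← W.w3]; simp [pow_succ]
  have h30 : w * (w * (w * p * w⁻¹) * w⁻¹) * w⁻¹ = p := by rw [← cj_cj, ← cj_cj, hw3]; group
  have hc := (F.A_facts D P R hm hns W h12 hp).2.1
  have hfix : w * proj3 w p * w⁻¹ = proj3 w p := by
    rw [proj3, cj_mul, cj_mul, h30, hc, ← mul_assoc]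
  have hin' : InA z a x (m * l₁) (proj3 w p) := hin
  refine ⟨hin', hfix, ?_, ?_, ?_⟩
  · rw [proj3, h30, hc, ← mul_assoc, ← proj3]
  · conv_lhs => rw [proj3, hfix, hfix, (F.A_facts D P R hm hns W hin' hin').2.2.1, one_mul]
  · obtain ⟨-, hu⟩ := F.proj D P R hm hns W p hp
    set u := p⁻¹ * (w * p * w⁻¹)
    have e1 : w * p * w⁻¹ = p * u := by simp only [u]; group
    have c1 : p * u = u * p := (F.A_facts D P R hm hns W hp (Or.inl hu)).2.1
    have e2 : proj3 w p = p * (u * (u * (w * u * w⁻¹))) := by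
      rw [proj3, e1, cj_mul, e1]
      calc p * (p * u) * (p * u * (w * u * w⁻¹)) = p * p * (u * p) * (u * (w * u * w⁻¹)) := by group
        _ = _ := by rw [hp2, ← c1]; group
    rw [e2, inv_mul_cancel_left]
    exact F.U_mul hu (F.U_mul hu ((F.cyc_U W.wz W.wa).2 u hu))

theorem proj3_mul {p q : G} (hp : InA z a x (m * l₁) p) (hq : InA z a x (m * l₁) q) :
    proj3 w (p * q) = proj3 w p * proj3 w q := by
  obtain ⟨A, -, hA⟩ := F.exists_A D hm
  have hp1 := (F.A_facts D P R hm hns W hp hp).2.2.2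
  have hq1 := (F.A_facts D P R hm hns W hq hq).2.2.2
  have hp2 := (F.A_facts D P R hm hns W hp1 hp1).2.2.2
  have hq2 := (F.A_facts D P R hm hns W hq1 hq1).2.2.2
  have c1 : Commute q (w * p * w⁻¹) := (F.A_facts D P R hm hns W hq hp1).2.1
  have c2 : Commute (q * (w * q * w⁻¹)) (w * (w * p * w⁻¹) * w⁻¹) :=
    (F.A_facts D P R hm hns W (F.A_facts D P R hm hns W hq hq1).1 hp2).2.1
  have e1 : w * (p * q) * w⁻¹ = w * p * w⁻¹ * (w * q * w⁻¹) := cj_mul w p q
  have e2 : w * (w * p * w⁻¹ * (w * q * w⁻¹)) * w⁻¹ = w * (w * p * w⁻¹) * w⁻¹ * (w * (w * q * w⁻¹) * w⁻¹) :=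
    cj_mul _ _ _
  simp only [proj3]
  rw [e1, e2]
  generalize w * p * w⁻¹ = p1, w * q * w⁻¹ = q1, w * (w * p * w⁻¹) * w⁻¹ = p2,
    w * (w * q * w⁻¹) * w⁻¹ = q2 at c1 c2 ⊢
  rw [c1.mul_mul_mul_comm p q1, c2.mul_mul_mul_comm (p * p1) q2]

theorem proj3_U {u : G} (hu : InU z a u) : proj3 w u = 1 := by
  have h3 := (F.cyc_U W.wz W.wa).1
  have hazz : a * (a * z) = z := by rw [← mul_assoc, F.A.sq, one_mul]
  rcases hu with rfl | rfl | rfl | rfl <;> simp only [proj3]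
  · group
  · rw [W.wz, W.wa, ← F.az, F.U_sq (Or.inr (Or.inr (Or.inr rfl)))]
  · rw [W.wa, h3, hazz, F.B.zz]
  · rw [h3, W.wz, F.B.z_mul_z, F.A.sq]

theorem exists_proj : ∃ M V, Proj z a x (m * l₁) w G0 M V := by
  classical
  haveI : Fact (Nat.Prime 2) := ⟨Nat.prime_two⟩
  obtain ⟨A, hA16, hA⟩ := F.exists_A D hm
  set v := m * l₁ with hvd
  let M : Subgroup G := G0 ⊓ Subgroup.centralizer ({v} : Set G)
  have hM : ∀ h, h ∈ M ↔ h ∈ G0 ∧ h * v = v * h := fun h => by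
    rw [Subgroup.mem_inf, mem_cent]
  have hAM : A ≤ M := fun p hp => by
    obtain ⟨hpT, -, hpv⟩ := F.InA_T D hm ((hA p).1 hp)
    exact (hM p).2 ⟨F.G0_T D P R hns hpT, hpv⟩
  have cA : ∀ p q, p ∈ A → q ∈ A → p * q = q * p := fun p q hp hq =>
    (F.A_facts D P R hm hns W ((hA p).1 hp) ((hA q).1 hq)).2.1
  have hzA : z ∈ A := (hA z).2 (Or.inl (Or.inr (Or.inl rfl)))
  have zA : ∀ k, k * z * k⁻¹ ∈ A → InU z a (k * z * k⁻¹) := fun k hk =>
    F.z_in_U D P hns ⟨k, rfl⟩ (cA _ z hk hzA)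
  -- the elementary group is a Sylow subgroup
  let A' : Subgroup M := A.subgroupOf M
  have hA'c : Nat.card A' = 16 := (Nat.card_congr (Subgroup.subgroupOfEquivOfLe hAM).toEquiv).trans hA16
  have hAp : IsPGroup 2 A' := IsPGroup.of_card (n := 4) hA'c
  obtain ⟨S, hS⟩ := hAp.exists_le_sylow
  have hSA : (S : Subgroup M) = A' := by
    refine (le_antisymm hS ?_).symm
    by_contra hne
    have hlt : A'.subgroupOf (S : Subgroup M) < ⊤ :=
      lt_top_iff_ne_top.2 fun e => hne (Subgroup.subgroupOf_eq_top.1 e)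
    haveI := S.isPGroup'.isNilpotent
    obtain ⟨⟨r, hrS⟩, hr, hrn⟩ := SetLike.exists_of_lt
      (Group.normalizerCondition_of_isNilpotent (G := (S : Subgroup M)) _ hlt)
    refine hrn ?_
    rw [Subgroup.mem_subgroupOf]
    show (r : G) ∈ A
    have hz' : (⟨z, hAM hzA⟩ : M) ∈ A' := hzA
    have := (Subgroup.mem_normalizer_iff.1 hr ⟨_, hS hz'⟩).1 (Subgroup.mem_subgroupOf.2 hz')
    have h1 : (r : G) * z * (r : G)⁻¹ ∈ A := Subgroup.mem_subgroupOf.1 this
    obtain ⟨n, hn⟩ := S.isPGroup' ⟨r, hrS⟩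
    have hn' : (r : G) ^ 2 ^ n = 1 := by
      simpa using congrArg (fun t : (S : Subgroup M) => ((t : M) : G)) hn
    obtain ⟨hrG, hrv⟩ := (hM _).1 r.2
    exact (hA _).2 (F.two_N D P R hm hns W hrG hrv
      (F.N_of D P hns (Or.inr (Or.inl rfl)) F.B.z1 (zA _ h1)) hn')
  have memS : ∀ p : M, p ∈ (S : Subgroup M) ↔ (p : G) ∈ A := fun p => by rw [hSA]; rfl
  letI : CommGroup A := { (inferInstance : Group A) with mul_comm := fun p q => Subtype.ext (cA p q p.2 q.2) }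
  have hπA : ∀ p, p ∈ A → proj3 w p ∈ A := fun p hp => (hA _).2 (F.proj3_facts D P R hm hns W ((hA p).1 hp)).1
  have hπm : ∀ p q, p ∈ A → q ∈ A → proj3 w (p * q) = proj3 w p * proj3 w q := fun p q hp hq =>
    F.proj3_mul D P R hm hns W ((hA p).1 hp) ((hA q).1 hq)
  let φ : A' →* A :=
    { toFun := fun p => ⟨proj3 w ((p : M) : G), hπA _ p.2⟩
      map_one' := Subtype.ext (by show proj3 w ((1 : A') : M) = 1; simp [proj3])
      map_mul' := fun p q => Subtype.ext (hπm _ _ p.2 q.2) }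
  haveI : IsMulCommutative (S : Subgroup M) :=
    ⟨⟨fun p q => Subtype.ext (Subtype.ext (cA _ _ ((memS _).1 p.2) ((memS _).1 q.2)))⟩⟩
  -- fusion preserves the projection
  have fusion : ∀ b h : M, (b : G) ∈ A → (h : G)⁻¹ * b * h ∈ A → proj3 w ((h : G)⁻¹ * b * h) = proj3 w b := by
    intro b h hb hh
    obtain ⟨n, hn, en⟩ := S.conj_eq_normalizer_conj_of_mem b h ((memS b).2 hb) ((memS _).2 hh)
    have en' : (h : G)⁻¹ * b * h = (n : G)⁻¹ * b * n := congrArg Subtype.val en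
    have hh' : (n : G)⁻¹ * b * n ∈ A := en' ▸ hh
    rw [en']
    have hz : ((n⁻¹ : M) : G) * z * ((n⁻¹ : M) : G)⁻¹ ∈ A := (memS _).1
      ((Subgroup.mem_normalizer_iff.1 (inv_mem hn) (⟨z, hAM hzA⟩ : M)).1 ((memS _).2 hzA))
    obtain ⟨hnG, hnv⟩ := (hM _).1 (n⁻¹).2
    obtain ⟨i, hi⟩ := F.N_cent D P R hm hns W hnG hnv (F.N_of D P hns (Or.inr (Or.inl rfl)) F.B.z1 (zA _ hz))
    set α := w ^ i * ((n⁻¹ : M) : G) with hα
    have hwi : ∀ i : ℕ, ∀ p, p ∈ A → (w ^ i) * p * (w ^ i)⁻¹ ∈ A ∧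
        proj3 w (w ^ i * p * (w ^ i)⁻¹) = proj3 w p := by
      intro i
      induction i with
      | zero => intro p hp; rw [pow_zero, inv_one, one_mul, mul_one]; exact ⟨hp, rfl⟩
      | succ k ih =>
        intro p hp
        obtain ⟨h1, h2⟩ := ih p hp
        rw [pow_succ', cj_cj]
        have h1' := (hA _).1 h1
        exact ⟨(hA _).2 (F.A_facts D P R hm hns W h1' h1').2.2.2,
          (F.proj3_facts D P R hm hns W h1').2.2.1.trans h2⟩
    have e2 : w ^ i * ((n : G)⁻¹ * b * n) * (w ^ i)⁻¹ = b := by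
      calc w ^ i * ((n : G)⁻¹ * b * n) * (w ^ i)⁻¹ = α * b * α⁻¹ := by
            rw [hα, Subgroup.coe_inv]; group
        _ = b := cj_iff.2 (cA α b ((hA α).2 hi) hb)
    have := (hwi i _ hh').2
    rw [e2] at this
    exact this.symm
  have hodd : Odd A'.index := by
    rw [← hSA]
    exact Nat.not_even_iff_odd.1 fun h => S.not_dvd_index h.two_dvd
  have key : ∀ b : M, (b : G) ∈ A → (MonoidHom.transfer φ b : G) = proj3 w b := by
    intro b hb
    haveI : Fintype (Quotient (MulAction.orbitRel (Subgroup.zpowers b) (M ⧸ A'))) := Fintype.ofFinite _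
    have h2 : (⟨proj3 w b, hπA _ hb⟩ : A) ^ 2 = 1 := Subtype.ext (by
      rw [pow_two]; exact (F.InA_T D hm ((hA _).1 (hπA _ hb))).2.1)
    have hV : MonoidHom.transfer φ b = (⟨proj3 w b, hπA _ hb⟩ : A) ^ A'.index := by
      rw [Subgroup.index_eq_sum_minimalPeriod A' b, ← Finset.prod_pow_eq_pow_sum,
        MonoidHom.transfer_eq_prod_quotient_orbitRel_zpowers_quot]
      refine Finset.prod_congr rfl fun q _ => ?_
      suffices hgen : ∀ (k : ℕ) (hmem : q.out.out⁻¹ * b ^ k * q.out.out ∈ A'),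
          φ ⟨_, hmem⟩ = (⟨proj3 w b, hπA _ hb⟩ : A) ^ k from hgen _ _
      intro k hmem
      have hbk : ((b ^ k : M) : G) ∈ A := by rw [Subgroup.coe_pow]; exact A.pow_mem hb k
      refine Subtype.ext ?_
      show proj3 w ((q.out.out⁻¹ * b ^ k * q.out.out : M) : G) = _
      rw [Subgroup.coe_mul, Subgroup.coe_mul, Subgroup.coe_inv, fusion _ _ hbk hmem]
      clear hmem hbk
      induction k with
      | zero => simp [proj3]
      | succ k ih =>
        rw [pow_succ, Subgroup.coe_mul, hπm _ _ (by rw [Subgroup.coe_pow]; exact A.pow_mem hb k) hb, ih]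
        rw [pow_succ, Subgroup.coe_mul]
    obtain ⟨j, hj⟩ := hodd
    rw [hV, hj, pow_succ, pow_mul, h2, one_pow, one_mul]
  have himg : ∀ b : M, ∃ p, p ∈ A ∧ (MonoidHom.transfer φ b : G) = proj3 w p := by
    intro b
    haveI : Fintype (Quotient (MulAction.orbitRel (Subgroup.zpowers b) (M ⧸ A'))) := Fintype.ofFinite _
    obtain ⟨s, hs⟩ : MonoidHom.transfer φ b ∈ φ.range := by
      rw [MonoidHom.transfer_eq_prod_quotient_orbitRel_zpowers_quot]
      exact Subgroup.prod_mem _ fun q _ => ⟨_, rfl⟩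
    exact ⟨((s : M) : G), s.2, (congrArg Subtype.val hs).symm⟩
  have sub : ∀ Q : Subgroup G, IsPGroup 2 Q → Q ≤ M →
      ∃ h, h ∈ M ∧ ∀ q, q ∈ Q → InA z a x v (h⁻¹ * q * h) := by
    intro Q hQ hQM
    obtain ⟨S', hS'⟩ := (hQ.comap_of_injective M.subtype M.subtype_injective).exists_le_sylow
    obtain ⟨h, rfl⟩ := MulAction.exists_smul_eq M S S'
    refine ⟨h, h.2, fun q hq => ?_⟩
    have hmem := hS' (show (⟨q, hQM hq⟩ : M) ∈ _ from hq)
    rw [Sylow.coe_subgroup_smul, Subgroup.mem_pointwise_smul_iff_inv_smul_mem, ← map_inv,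
      MulAut.smul_def, MulAut.conj_apply, inv_inv] at hmem
    exact (hA _).1 ((memS _).1 hmem)
  refine ⟨M, fun h => if hh : h ∈ M then (MonoidHom.transfer φ ⟨h, hh⟩ : G) else 1, hM, ?_, ?_, ?_, ?_, sub⟩
  · intro p q hp hq
    rw [dif_pos (M.mul_mem hp hq), dif_pos hp, dif_pos hq, ← Subgroup.coe_mul, ← map_mul]
    rfl
  · intro α hα
    rw [dif_pos (hAM ((hA α).2 hα))]
    exact key _ ((hA α).2 hα)
  · intro h hh
    rw [dif_pos hh]
    obtain ⟨p, hp, e⟩ := himg ⟨h, hh⟩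
    rw [e]
    have hf := F.proj3_facts D P R hm hns W ((hA p).1 hp)
    exact ⟨hf.1, hf.2.2.2.1⟩
  · intro q hq hq2
    obtain ⟨h, hh, hQ⟩ := sub (Subgroup.zpowers q) (fun ⟨c, hc⟩ => by
        obtain ⟨i, rfl⟩ := Subgroup.mem_zpowers_iff.1 hc
        refine ⟨1, Subtype.ext ?_⟩
        show (q ^ i) ^ 2 ^ 1 = 1
        rw [pow_one, pow_two, ← zpow_add, ← two_mul, zpow_mul, zpow_ofNat, pow_two, hq2, one_zpow])
      (by rw [Subgroup.zpowers_le]; exact hq)
    exact ⟨h, h⁻¹ * q * h, hh, hQ q (Subgroup.mem_zpowers q), by group⟩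

variable {M : Subgroup G} {V : G → G} (J : Proj z a x (m * l₁) w G0 M V)
include J

theorem A_M {α : G} (hα : InA z a x (m * l₁) α) : α ∈ M := by
  obtain ⟨hT, -, hv⟩ := F.InA_T D hm hα
  exact (J.mem α).2 ⟨F.G0_T D P R hns hT, hv⟩

theorem ker_A {α : G} (hα : InA z a x (m * l₁) α) (h1 : V α = 1) : InU z a α := by
  have h := (F.proj3_facts D P R hm hns W hα).2.2.2.2
  rw [← J.onA α hα, h1, mul_one] at h
  have := F.U_inv h
  rwa [inv_inv] at this

/-- The kernel of the projection. -/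
theorem exists_K : ∃ K : Subgroup G, ∀ k, k ∈ K ↔ k ∈ M ∧ V k = 1 := by
  have h1 : V 1 = 1 := (J.onA 1 (Or.inl (Or.inl rfl))).trans (F.proj3_U D P R hm hns W (Or.inl rfl))
  refine ⟨{ carrier := {k | k ∈ M ∧ V k = 1}
            one_mem' := ⟨M.one_mem, h1⟩
            mul_mem' := fun {p q} hp hq => ⟨M.mul_mem hp.1 hq.1, by rw [J.hom _ _ hp.1 hq.1, hp.2, hq.2, one_mul]⟩
            inv_mem' := fun {p} hp => ⟨M.inv_mem hp.1, ?_⟩ }, fun k => Iff.rfl⟩
  have := J.hom _ _ hp.1 (M.inv_mem hp.1)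
  rw [mul_inv_cancel, h1, hp.2, one_mul] at this
  exact this.symm

theorem dichotomy :
    (∀ h, h ∈ M → InN z a h) ∨ ∃ K : Subgroup G, (∀ k, k ∈ K ↔ k ∈ M ∧ V k = 1) ∧
      Nat.card {k : G // k ∈ K ∧ k * k = 1 ∧ k ≠ 1} = 15 ∧
      (∀ k, k ∈ K → k * k = 1 → k ≠ 1 → ∃ h u, h ∈ M ∧ InU z a u ∧ u ≠ 1 ∧ k = h * u * h⁻¹) := by
  classical
  by_cases hall : ∀ h, h ∈ M → InN z a h
  · exact Or.inl hall
  right
  haveI : Fact (Nat.Prime 2) := ⟨Nat.prime_two⟩
  obtain ⟨K, hK⟩ := F.exists_K D P R hm hns W J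
  have hwM : w ∈ M := (J.mem w).2 ⟨W.mem, W.wv⟩
  have hUK : ∀ u, InU z a u → u ∈ K := fun u hu => (hK u).2
    ⟨F.A_M D P R hm hns W J (Or.inl hu), (J.onA u (Or.inl hu)).trans (F.proj3_U D P R hm hns W hu)⟩
  have hKn : ∀ h k, h ∈ M → k ∈ K → h * k * h⁻¹ ∈ K := by
    intro h k hh hk
    obtain ⟨hkM, hk1⟩ := (hK k).1 hk
    refine (hK _).2 ⟨M.mul_mem (M.mul_mem hh hkM) (M.inv_mem hh), ?_⟩
    rw [J.hom _ _ (M.mul_mem hh hkM) (M.inv_mem hh), J.hom _ _ hh hkM, hk1, mul_one, ← J.hom _ _ hh (M.inv_mem hh),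
      mul_inv_cancel]
    exact (J.onA 1 (Or.inl (Or.inl rfl))).trans (F.proj3_U D P R hm hns W (Or.inl rfl))
  have hcK : ∀ k u, k ∈ K → InU z a u → u ≠ 1 → k * u = u * k → InU z a k := by
    intro k u hk hu hu1 hku
    obtain ⟨hkM, hk1⟩ := (hK k).1 hk
    obtain ⟨hkG, hkv⟩ := (J.mem k).1 hkM
    exact F.ker_A D P R hm hns W J (F.cent_U D P R hm hns W hkG hkv hu hu1 hku) hk1
  have hwK : w ∈ K := by
    refine (hK w).2 ⟨hwM, ?_⟩
    have h1 : V 1 = 1 := (J.onA 1 (Or.inl (Or.inl rfl))).trans (F.proj3_U D P R hm hns W (Or.inl rfl))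
    have h3 : V w * V w * V w = 1 := by
      rw [← J.hom _ _ hwM hwM, ← J.hom _ _ (M.mul_mem hwM hwM) hwM, show w * w * w = 1 by
        rw [← W.w3]; simp [pow_succ], h1]
    have hi := (J.im w hwM).1
    rwa [(F.A_facts D P R hm hns W hi hi).2.2.1, one_mul] at h3
  have hKinv : ∀ k, k ∈ K → k * k = 1 → k ≠ 1 → ∃ h u, h ∈ M ∧ InU z a u ∧ u ≠ 1 ∧ k = h * u * h⁻¹ := by
    intro k hk hk2 hk1
    obtain ⟨h, α, hh, hα, e⟩ := J.conjA k ((hK k).1 hk).1 hk2
    refine ⟨h, α, hh, ?_, fun e' => hk1 (by rw [e, e']; group), e⟩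
    have hαK := hKn h⁻¹ k (M.inv_mem hh) hk
    rw [e, show h⁻¹ * (h * α * h⁻¹) * h⁻¹⁻¹ = α by group] at hαK
    exact F.ker_A D P R hm hns W J hα ((hK α).1 hαK).2
  have hzU : InU z a z := Or.inr (Or.inl rfl)
  let zK : K := ⟨z, hUK z hzU⟩
  let wK : K := ⟨w, hwK⟩
  have hC4 : Nat.card (Subgroup.centralizer ({zK} : Set K)) = 4 := by
    refine Eq.trans (Nat.card_congr ?_) F.card_U
    refine
      { toFun := fun k => ⟨((k : K) : G), hcK _ z (k : K).2 hzU F.B.z1 (congrArg Subtype.val (mem_cent.1 k.2))⟩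
        invFun := fun u => ⟨⟨u.1, hUK u.1 u.2⟩, mem_cent.2 (Subtype.ext (F.U_comm u.2 ⟨rfl, F.az.symm⟩).symm)⟩
        left_inv := fun _ => rfl
        right_inv := fun _ => rfl }
  have hA5 := Cfsg.Agent.S3277.result zK
    (orderOf_eq_prime (by rw [pow_two]; exact Subtype.ext F.B.zz) fun e => F.B.z1 (congrArg Subtype.val e))
    hC4 (fun c hc => by
      rw [pow_two]
      exact Subtype.ext (F.U_sq (hcK _ z c.2 hzU F.B.z1 (congrArg Subtype.val (mem_cent.1 hc)))))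
    (by
      rintro ⟨Q, N, hN, hc⟩
      haveI := hN
      have hNodd : ¬ 2 ∣ Nat.card N := fun h => Q.not_dvd_index (by rw [hc.index_eq_card]; exact h)
      obtain ⟨n, hn⟩ := IsPGroup.iff_card.1 Q.isPGroup'
      have hNi : N.index = 2 ^ n := by
        have h1 := hc.card_mul
        rw [hn, ← N.card_mul_index] at h1
        exact (mul_left_cancel₀ Nat.card_pos.ne' h1).symm
      have hwN : wK ∈ N := by
        refine (QuotientGroup.eq_one_iff wK).1 (orderOf_eq_one_iff.1 ?_)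
        have d1 : orderOf (wK : K ⧸ N) ∣ 3 := orderOf_dvd_iff_pow_eq_one.2 (by
          rw [← QuotientGroup.mk_pow, show wK ^ 3 = 1 from Subtype.ext W.w3]; rfl)
        have d2 : orderOf (wK : K ⧸ N) ∣ 2 ^ n := by
          rw [← hNi]; exact orderOf_dvd_natCard _
        exact Nat.eq_one_of_dvd_coprimes (Nat.Coprime.pow_right n (by norm_num)) d1 d2
      have haz : wK * (zK * wK⁻¹ * zK⁻¹) ∈ N := N.mul_mem hwN (hN.conj_mem _ (N.inv_mem hwN) zK)
      have e : ((wK * (zK * wK⁻¹ * zK⁻¹) : K) : G) = a * z := by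
        push_cast
        show w * (z * w⁻¹ * z⁻¹) = a * z
        rw [inv_sq F.B.zz, show w * (z * w⁻¹ * z) = w * z * w⁻¹ * z by group, W.wz]
      refine hNodd ((dvd_of_eq ?_).trans (Subgroup.orderOf_dvd_natCard N haz))
      rw [← Subgroup.orderOf_coe, e]
      exact (orderOf_eq_prime (by rw [pow_two]; exact F.U_sq (Or.inr (Or.inr (Or.inr rfl))))
        (F.B.nci_mul_z F.A).ne1).symm)
    (by
      intro E' hEn hEe
      by_contra hcon
      have hle : 2 ≤ Nat.card E' := by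
        rcases not_and_or.1 hcon with h | h <;> rw [not_not] at h <;> rw [h]
        norm_num
      haveI : Nontrivial E' := Finite.one_lt_card_iff_nontrivial.1 (by omega)
      obtain ⟨c, hc, hc1⟩ := (Subgroup.nontrivial_iff_exists_ne_one E').1 inferInstance
      have hzz : zK * zK = 1 := Subtype.ext F.B.zz
      have hEc : ∀ p q : K, p ∈ E' → q ∈ E' → p * q = q * p := fun p q hp hq => by
        haveI := hEe.1
        exact congrArg Subtype.val (hEe.1.is_comm.comm (⟨p, hp⟩ : E') ⟨q, hq⟩)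
      obtain ⟨d, hd, hd1, hdz⟩ : ∃ d, d ∈ E' ∧ d ≠ 1 ∧ d * zK = zK * d := by
        set c' := zK * c * zK⁻¹ with hc'
        have hc'E : c' ∈ E' := hEn.conj_mem c hc zK
        by_cases h : c * c' = 1
        · refine ⟨c, hc, hc1, (cj_iff.1 ?_).symm⟩
          have h2 : c * c = 1 := by rw [← pow_two]; exact hEe.2 c hc
          exact (eq_inv_of_mul_eq_one_right h).trans (inv_sq h2)
        · refine ⟨c * c', E'.mul_mem hc hc'E, h, (cj_iff.1 ?_).symm⟩
          rw [cj_mul, show zK * c' * zK⁻¹ = c by rw [hc', ← cj_cj, hzz]; group]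
          exact hEc _ _ hc'E hc
      have hdU : InU z a (d : G) := hcK d z d.2 hzU F.B.z1 (congrArg Subtype.val hdz)
      have hd1' : (d : G) ≠ 1 := fun e => hd1 (Subtype.ext e)
      have hallU : ∀ u (hu : InU z a u), (⟨u, hUK u hu⟩ : K) ∈ E' := by
        intro u hu
        by_cases hu1 : u = 1
        · subst hu1; exact E'.one_mem
        obtain ⟨i, hi⟩ := F.cyc_toz W.wz W.wa hdU hd1'
        obtain ⟨j, hj⟩ := F.cyc_toz W.wz W.wa hu hu1
        have hzE : zK ∈ E' := by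
          have := hEn.conj_mem d hd (wK ^ i)
          convert this using 1
          exact Subtype.ext (by push_cast; exact hi.symm)
        have := hEn.conj_mem zK hzE (wK ^ j)⁻¹
        convert this using 1
        refine Subtype.ext ?_
        push_cast
        show u = (w ^ j)⁻¹ * z * (w ^ j)⁻¹⁻¹
        rw [← hj]; group
      refine hall fun h hhM => ?_
      have hE4 : ∀ k : K, k ∈ E' → InU z a (k : G) := fun k hk =>
        hcK k z k.2 hzU F.B.z1 (congrArg Subtype.val (hEc k _ hk (hallU z hzU)))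
      have hNK : ∀ k, k ∈ K → InN z a k := fun k hk u hu =>
        hE4 _ (hEn.conj_mem _ (hallU u hu) ⟨k, hk⟩)
      obtain ⟨hfA, hfix⟩ := J.im h hhM
      have hfM := F.A_M D P R hm hns W J hfA
      have hk : h * V h ∈ K := by
        refine (hK _).2 ⟨M.mul_mem hhM hfM, ?_⟩
        rw [J.hom _ _ hhM hfM, J.onA _ hfA, hfix, (F.A_facts D P R hm hns W hfA hfA).2.2.1]
      have hfN : InN z a (V h) := fun u hu => by
        rw [cj_iff.2 (F.A_facts D P R hm hns W hfA (Or.inl hu)).2.1]; exact hu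
      have := InN_mul (hNK _ hk) hfN
      rwa [mul_assoc, (F.A_facts D P R hm hns W hfA hfA).2.2.1, mul_one] at this)
  refine ⟨K, hK, ?_, hKinv⟩
  rw [← card_invol_A5 hA5]
  exact Nat.card_congr
    { toFun := fun k => ⟨⟨k.1, k.2.1⟩, Subtype.ext k.2.2.1, fun e => k.2.2.2 (congrArg Subtype.val e)⟩
      invFun := fun k => ⟨k.1.1, k.1.2, congrArg Subtype.val k.2.1, fun e => k.2.2 (Subtype.ext e)⟩
      left_inv := fun _ => rfl
      right_inv := fun _ => rfl }

end Frame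

end Cfsg.Agent.L34Aut
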