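import Cfsg.Agent.Lib.L34Aut.Small2
import Cfsg.Agent.Lib.Involutions.Basic
import Cfsg.Agent.Lib.FiniteGroup.PermSmall
import Mathlib.GroupTheory.GroupAction.Quotient

/-!
When `m l₁` is not conjugate to `z` the group is solvable: a count of pairs and Burnside's lemma.
-/

set_option autoImplicit false
set_option linter.style.haveILetI false
set_option linter.unusedSectionVars false
set_option linter.unusedVariables false
set_option synthInstance.maxHeartbeats 400000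
set_option synthInstance.maxSize 4000

namespace Cfsg.Agent.L34Aut

open Equiv
open scoped Pointwise

theorem even_invol : ∀ σ : S4, σ * σ = 1 → Perm.sign σ = 1 → InV σ := fun σ h h' => ⟨h, h'⟩

universe u

variable {G : Type u} [Group G] [Finite G] {z a x m l₀ l₁ y g e w : G} {E G0 : Subgroup G} {ψ : G → S4}

/-- A conjugate of `z`. -/
def IsZ (z p : G) : Prop := ∃ k, p = k * z * k⁻¹

/-- An involution of the subgroup of index four not conjugate to `z`. -/
def IsW (z : G) (G0 : Subgroup G) (q : G) : Prop := q ∈ G0 ∧ q * q = 1 ∧ q ≠ 1 ∧ ¬ IsZ z q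

namespace Frame

variable (F : Frame z a E ψ) (D : TData z a E ψ x m l₀ l₁)
include F D

theorem card_T_invol (hm : m * m = a * z) :
    Nat.card {t : G // InT z a ψ t ∧ t * t = 1 ∧ ¬ InU z a t} = 24 := by
  classical
  haveI := Fintype.ofFinite G
  obtain ⟨T, hT64, hT⟩ := F.exists_T D
  have hyC : ∀ i : Fin 3, InC z a (x ^ (i : ℕ)) := fun i => F.C_pow D.X.C _
  -- translates parametrise `T \ E`
  let f : Fin 3 × {q : G // InE1 a E q} → {t : G // InT z a ψ t ∧ t ∉ E} := fun p =>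
    ⟨x ^ (p.1 : ℕ) * (m * p.2) * (x ^ (p.1 : ℕ))⁻¹, F.V_conj (hyC p.1) (F.T_mul D.m_T (F.E1_T p.2.2)), fun h => by
      have h' := F.B.norm _ (inv_comm' (hyC p.1).1) _ h
      rw [inv_inv, show (x ^ (p.1 : ℕ))⁻¹ * (x ^ (p.1 : ℕ) * (m * p.2) * (x ^ (p.1 : ℕ))⁻¹) * x ^ (p.1 : ℕ) =
        m * p.2 by group] at h'
      exact D.m_E (by simpa using E.mul_mem h' (E.inv_mem p.2.2.1))⟩
  have hsurj : Function.Surjective f := by
    rintro ⟨t, ht, htE⟩
    obtain ⟨y', hy', q, hq, rfl⟩ := F.orbit D ht htE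
    rcases hy' with rfl | rfl | rfl
    · exact ⟨(0, ⟨q, hq⟩), Subtype.ext (by simp [f])⟩
    · exact ⟨(1, ⟨q, hq⟩), Subtype.ext (by simp [f])⟩
    · exact ⟨(2, ⟨q, hq⟩), Subtype.ext (by simp [f, pow_two])⟩
  have h48 : Nat.card {t : G // InT z a ψ t ∧ t ∉ E} = 48 := by
    have h1 : Nat.card {t : G // InT z a ψ t} = 64 := by
      rw [← hT64]; exact Nat.card_congr (Equiv.subtypeEquivRight fun t => (hT t).symm)
    have h2 : Nat.card {t : G // InT z a ψ t ∧ t ∈ E} = 16 := by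
      rw [← F.card_E1]
      exact Nat.card_congr (Equiv.subtypeEquivRight fun t => ⟨fun h => ⟨h.2, h.1.1.2⟩, fun h => ⟨F.E1_T h, h.1⟩⟩)
    have h3 := Nat.card_congr (Equiv.sumCompl (fun t : {t : G // InT z a ψ t} => (t : G) ∈ E))
    rw [Nat.card_sum, Nat.card_congr (Equiv.subtypeSubtypeEquivSubtypeInter (InT z a ψ) (· ∈ E)),
      Nat.card_congr (Equiv.subtypeSubtypeEquivSubtypeInter (InT z a ψ) (fun t => t ∉ E)), h1, h2] at h3
    omega
  have hbij : Function.Bijective f := by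
    haveI := Fintype.ofFinite {t : G // InT z a ψ t ∧ t ∉ E}
    haveI := Fintype.ofFinite {q : G // InE1 a E q}
    refine (Fintype.bijective_iff_surjective_and_card f).2 ⟨hsurj, ?_⟩
    rw [← Nat.card_eq_fintype_card, ← Nat.card_eq_fintype_card, Nat.card_prod, F.card_E1, h48, Nat.card_fin]
  -- squares
  have hsq : ∀ q, InE1 a E q → (m * q * (m * q) = 1 ↔ InU z a (l₁⁻¹ * q) ∨ InU z a ((l₀ * l₁)⁻¹ * q)) := by
    intro q hq
    obtain ⟨w', hw', hu⟩ := F.E1_forms D hq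
    have hwC : InC z a w' := by
      rcases hw' with rfl | rfl | rfl | rfl
      exacts [⟨by simp, by simp⟩, F.E1_C D.h₀, F.E1_C D.h₁, F.C_mul (F.E1_C D.h₀) (F.E1_C D.h₁)]
    have e : m * q * (m * q) = m * w' * (m * w') := by
      rw [show m * q = m * w' * (w'⁻¹ * q) by group, F.sq_mul_U D (F.C_mul D.m_T.1 hwC) hu]
    have haz := (F.B.nci_mul_z F.A).ne1
    have haz2 := F.U_sq (Or.inr (Or.inr (Or.inr rfl)) : InU z a (a * z))
    have key : ∀ {r}, InU z a (r⁻¹ * q) → InU z a (w'⁻¹ * r) := fun {r} h => by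
      have := F.U_mul hu (F.U_inv h)
      rwa [show w'⁻¹ * q * (r⁻¹ * q)⁻¹ = w'⁻¹ * r by group] at this
    constructor
    · intro h
      rw [e] at h
      rcases hw' with rfl | rfl | rfl | rfl
      · rw [mul_one, hm] at h; exact absurd h haz
      · rw [F.sq_l0 D, hm, F.B.z_mul_z] at h; exact absurd h F.A.ne1
      · exact Or.inl hu
      · exact Or.inr hu
    · intro h
      rw [e]
      rcases hw' with rfl | rfl | rfl | rfl
      · exfalso
        rcases h with h | h <;> have := key h <;> rw [inv_one, one_mul] at this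
        exacts [D.n₁ this, F.l01_nU D this]
      · exfalso
        rcases h with h | h <;> have := key h
        · exact F.l_diff D this
        · rw [inv_mul_cancel_left] at this; exact D.n₁ this
      · rw [F.sq_l1 D, hm, haz2]
      · rw [F.sq_l01 D, hm, haz2]
  have h8 : Nat.card {q : G // InE1 a E q ∧ m * q * (m * q) = 1} = 8 := by
    let k : {u : G // InU z a u} ⊕ {u : G // InU z a u} → {q : G // InE1 a E q ∧ m * q * (m * q) = 1} :=
      Sum.elim
        (fun u => ⟨l₁ * u.1, F.E1_mul D.h₁ (F.U_E u.2),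
          (hsq _ (F.E1_mul D.h₁ (F.U_E u.2))).2 (Or.inl (by rw [inv_mul_cancel_left]; exact u.2))⟩)
        (fun u => ⟨l₀ * l₁ * u.1, F.E1_mul (F.E1_mul D.h₀ D.h₁) (F.U_E u.2),
          (hsq _ (F.E1_mul (F.E1_mul D.h₀ D.h₁) (F.U_E u.2))).2 (Or.inr (by rw [inv_mul_cancel_left]; exact u.2))⟩)
    have hk : Function.Bijective k := by
      constructor
      · have ne : ∀ u u', InU z a u → InU z a u' → l₁ * u ≠ l₀ * l₁ * u' := fun u u' hu hu' e => D.n₀ (by
          have h1 := F.U_mul hu (F.U_inv hu')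
          have h2 : l₀ = l₁ * (u * u'⁻¹) * l₁⁻¹ := by rw [← mul_assoc, e]; group
          rw [h2, F.U_conj (F.E1_C D.h₁) h1]; exact h1)
        rintro (⟨u, hu⟩ | ⟨u, hu⟩) (⟨u', hu'⟩ | ⟨u', hu'⟩) e <;> have e' := congrArg Subtype.val e <;>
          simp only [k, Sum.elim_inl, Sum.elim_inr] at e'
        · obtain rfl := mul_left_cancel e'; rfl
        · exact absurd e' (ne _ _ hu hu')
        · exact absurd e'.symm (ne _ _ hu' hu)
        · obtain rfl := mul_left_cancel e'; rfl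
      · rintro ⟨q, hq, hq2⟩
        rcases (hsq q hq).1 hq2 with h | h
        · exact ⟨Sum.inl ⟨_, h⟩, Subtype.ext (mul_inv_cancel_left l₁ q)⟩
        · exact ⟨Sum.inr ⟨_, h⟩, Subtype.ext (mul_inv_cancel_left (l₀ * l₁) q)⟩
    rw [← Nat.card_congr (Equiv.ofBijective k hk), Nat.card_sum, F.card_U]
  refine Eq.trans (Nat.card_congr ?_ : _ = Nat.card (Fin 3 × {q : G // InE1 a E q ∧ m * q * (m * q) = 1})) ?_
  swap
  · rw [Nat.card_prod, h8, Nat.card_fin]
  refine (Equiv.ofBijective (fun p : Fin 3 × {q : G // InE1 a E q ∧ m * q * (m * q) = 1} =>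
    (⟨x ^ (p.1 : ℕ) * (m * p.2) * (x ^ (p.1 : ℕ))⁻¹, F.V_conj (hyC p.1) (F.T_mul D.m_T (F.E1_T p.2.2.1)),
      by rw [← cj_mul, p.2.2.2]; group,
      fun h => (f (p.1, ⟨p.2, p.2.2.1⟩)).2.2 (F.U_E h).1⟩ :
      {t : G // InT z a ψ t ∧ t * t = 1 ∧ ¬ InU z a t})) ⟨?_, ?_⟩).symm
  · rintro ⟨i, q, hq⟩ ⟨i', q', hq'⟩ e
    have := hbij.1 (a₁ := (i, ⟨q, hq.1⟩)) (a₂ := (i', ⟨q', hq'.1⟩)) (Subtype.ext (congrArg Subtype.val e :))
    simp only [Prod.mk.injEq, Subtype.mk.injEq] at this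
    obtain ⟨rfl, rfl⟩ := this
    rfl
  · rintro ⟨t, ht, ht2, htU⟩
    obtain ⟨⟨i, q, hq⟩, e⟩ := hbij.2 ⟨t, ht, fun h => htU (F.B.four_of_comm F.A h ht.1.2 ht2)⟩
    have e' : x ^ (i : ℕ) * (m * q) * (x ^ (i : ℕ))⁻¹ = t := congrArg Subtype.val e
    refine ⟨(i, ⟨q, hq, ?_⟩), Subtype.ext e'⟩
    rw [← e', ← cj_mul] at ht2
    exact cj_inj (a := x ^ (i : ℕ)) (ht2.trans (by group))

variable (P : Pair z a x ψ y g)
  (R : Res z a E ψ g e G0) (hm : m * m = a * z) (hns : ∀ k, k * z * k⁻¹ ≠ m * l₁)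
include P R hm hns

theorem z_G0 {p : G} (hp : IsZ z p) : p ∈ G0 := by
  obtain ⟨k, rfl⟩ := hp
  exact R.normal.conj_mem z (F.G0_T D P R hns (F.U_T (Or.inr (Or.inl rfl)))) k

theorem W_conj {q : G} (hq : IsW z G0 q) : ∃ k, q = k * (m * l₁) * k⁻¹ := by
  classical
  haveI : Fact (Nat.Prime 2) := ⟨Nat.prime_two⟩
  obtain ⟨hqG, hq2, hq1, hqz⟩ := hq
  obtain ⟨hγ, hγV, hγs⟩ := F.gψ2 D P
  obtain ⟨S, -, hS⟩ := F.exists_S D hγ hγV
  have hp : IsPGroup 2 (Subgroup.zpowers q) := by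
    intro ⟨c, hc⟩
    obtain ⟨i, rfl⟩ := Subgroup.mem_zpowers_iff.1 hc
    refine ⟨1, Subtype.ext ?_⟩
    show (q ^ i) ^ 2 ^ 1 = 1
    rw [pow_one, pow_two, ← zpow_add, ← two_mul, zpow_mul, zpow_ofNat, pow_two, hq2, one_zpow]
  obtain ⟨S', hS'⟩ := hp.exists_le_sylow
  obtain ⟨k, rfl⟩ := MulAction.exists_smul_eq G S S'
  have h := hS' (Subgroup.mem_zpowers q)
  rw [Sylow.coe_subgroup_smul, Subgroup.mem_pointwise_smul_iff_inv_smul_mem, ← map_inv, MulAut.smul_def,
    MulAut.conj_apply, inv_inv] at h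
  set t := k⁻¹ * q * k with ht
  obtain ⟨htz, -⟩ := (hS t).1 h
  have ht2 : t * t = 1 := by
    calc t * t = k⁻¹ * (q * q) * k := by simp only [t]; group
      _ = 1 := by rw [hq2]; group
  have htG : t ∈ G0 := by
    have := R.normal.conj_mem q hqG k⁻¹
    rwa [inv_inv] at this
  obtain ⟨htC, hts⟩ := (R.mem t htz).1 htG
  have htT : InT z a ψ t := ⟨htC, even_invol _ (by rw [← F.B.ψ_mul _ _ htz htz, ht2, F.B.ψ_one]) hts⟩
  have e : q = k * t * k⁻¹ := by simp only [t]; group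
  have htU : ¬ InU z a t := by
    intro hU
    by_cases h1 : t = 1
    · exact hq1 (by rw [e, h1]; group)
    obtain ⟨j, hj⟩ := F.U_conjz D P hns hU h1
    exact hqz ⟨k * j, by rw [cj_cj, ← hj]; exact e⟩
  obtain ⟨c, hc, ec⟩ := F.invol_conj D htT ht2 htU
  exact ⟨k * c, by rw [cj_cj, ec]; exact e⟩

theorem v_W : IsW z G0 (m * l₁) := by
  obtain ⟨hvT, hv2, hvE⟩ := F.v_facts D hm
  exact ⟨F.G0_T D P R hns hvT, hv2, fun h => hvE (h ▸ E.one_mem), fun ⟨k, hk⟩ => hns k hk.symm⟩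

/-- The number of conjugates of `z` is the number of pairs lying above `v`. -/
theorem count : Nat.card {p : G // IsZ z p} =
    Nat.card {pq : G × G // IsZ z pq.1 ∧ IsW z G0 pq.2 ∧ m * l₁ ∈ Subgroup.zpowers (pq.1 * pq.2)} := by
  classical
  haveI := Fintype.ofFinite G
  set n := Nat.card {pq : G × G // IsZ z pq.1 ∧ IsW z G0 pq.2 ∧ m * l₁ ∈ Subgroup.zpowers (pq.1 * pq.2)}
  have hzc : ∀ k p, IsZ z p → IsZ z (k * p * k⁻¹) := by
    rintro k p ⟨j, rfl⟩; exact ⟨k * j, (cj_cj _ _ _).symm⟩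
  have hWc : ∀ k q, IsW z G0 q → IsW z G0 (k * q * k⁻¹) := by
    rintro k q ⟨h1, h2, h3, h4⟩
    refine ⟨R.normal.conj_mem q h1 k, by rw [← cj_mul, h2]; group, fun e => h3 (conj_eq_one_iff.1 e), fun h => h4 ?_⟩
    have := hzc k⁻¹ _ h
    rwa [show k⁻¹ * (k * q * k⁻¹) * k⁻¹⁻¹ = q by group] at this
  have same : ∀ t, IsW z G0 t →
      Nat.card {pq : G × G // IsZ z pq.1 ∧ IsW z G0 pq.2 ∧ t ∈ Subgroup.zpowers (pq.1 * pq.2)} = n := by
    intro t ht
    obtain ⟨k, rfl⟩ := F.W_conj D P R hm hns ht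
    have push : ∀ (c : G) {p q r : G}, IsZ z p ∧ IsW z G0 q ∧ r ∈ Subgroup.zpowers (p * q) →
        IsZ z (c * p * c⁻¹) ∧ IsW z G0 (c * q * c⁻¹) ∧
          c * r * c⁻¹ ∈ Subgroup.zpowers (c * p * c⁻¹ * (c * q * c⁻¹)) := by
      rintro c p q r ⟨hp, hq, i, rfl⟩
      exact ⟨hzc c p hp, hWc c q hq, i, by show _ ^ i = _; rw [← cj_mul, conj_zpow]⟩
    exact (Nat.card_congr
      { toFun := fun pq : {pq : G × G // IsZ z pq.1 ∧ IsW z G0 pq.2 ∧
              m * l₁ ∈ Subgroup.zpowers (pq.1 * pq.2)} =>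
          (⟨(k * pq.1.1 * k⁻¹, k * pq.1.2 * k⁻¹), push k pq.2⟩ :
            {pq : G × G // IsZ z pq.1 ∧ IsW z G0 pq.2 ∧ k * (m * l₁) * k⁻¹ ∈ Subgroup.zpowers (pq.1 * pq.2)})
        invFun := fun pq => ⟨(k⁻¹ * pq.1.1 * k⁻¹⁻¹, k⁻¹ * pq.1.2 * k⁻¹⁻¹), by
          have := push k⁻¹ pq.2
          rwa [show k⁻¹ * (k * (m * l₁) * k⁻¹) * k⁻¹⁻¹ = m * l₁ by group] at this⟩
        left_inv := fun pq => Subtype.ext (Prod.ext (by simp [mul_assoc]) (by simp [mul_assoc]))
        right_inv := fun pq => Subtype.ext (Prod.ext (by simp [mul_assoc]) (by simp [mul_assoc])) }).symm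
  have two : ∀ {p}, IsZ z p → orderOf p = 2 := by
    rintro p ⟨k, rfl⟩
    rw [Invol.order_conj]; exact Invol.order_two_of_sq F.B.zz F.B.z1
  have pick : ∀ (p q : G), IsZ z p → IsW z G0 q → ∃ t, IsW z G0 t ∧ t ∈ Subgroup.zpowers (p * q) := by
    intro p q hp hq
    have hp2 := two hp
    have hq2 : orderOf q = 2 := Invol.order_two_of_sq hq.2.1 hq.2.2.1
    have hev : Even (orderOf (p * q)) := by
      by_contra h
      obtain ⟨d, -, hd⟩ := Invol.conj_of_odd hp2 hq2 (Nat.not_even_iff_odd.1 h)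
      exact hq.2.2.2 (hd ▸ hzc d p hp)
    have ht := Invol.half_order hp2 hq2 hev (orderOf_pos _)
    obtain ⟨ctp, ctq⟩ := Invol.half_commute hp2 hq2 hev
    set t := (p * q) ^ (orderOf (p * q) / 2) with htd
    refine ⟨t, ⟨G0.pow_mem (G0.mul_mem (F.z_G0 D P R hm hns hp) hq.1) _, Invol.mul_self ht, Invol.ne_one ht, ?_⟩,
      Subgroup.npow_mem_zpowers _ _⟩
    rintro ⟨j, hj⟩
    -- move `t` to `z`
    obtain ⟨i, hi⟩ := Subgroup.npow_mem_zpowers (p * q) (orderOf (p * q) / 2)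
    set p' := j⁻¹ * p * j⁻¹⁻¹ with hp'
    set q' := j⁻¹ * q * j⁻¹⁻¹ with hq'
    have ez : j⁻¹ * t * j⁻¹⁻¹ = z := by rw [hj]; group
    have hp'z : p' * z = z * p' := by rw [← ez, hp', ← cj_mul, ← cj_mul, ctp.eq]
    have hq'z : q' * z = z * q' := by rw [← ez, hq', ← cj_mul, ← cj_mul, ctq.eq]
    obtain ⟨hqG, hq'2, hq'1, hq'n⟩ := hWc j⁻¹ q hq
    obtain ⟨hC, hs⟩ := (R.mem q' hq'z).1 hqG
    have hpU := F.z_in_U D P hns (hzc j⁻¹ p hp) hp'z
    have hc : (p' * q') ^ 2 = 1 := by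
      rw [pow_two, show p' * q' * (p' * q') = p' * (q' * p') * q' by group, F.U_comm hpU hC,
        show p' * (p' * q') * q' = p' * p' * (q' * q') by group, F.U_sq hpU, hq'2, one_mul]
    have hzm : z = (p' * q') ^ i := by
      rw [← ez, hp', hq', ← cj_mul, conj_zpow]
      show j⁻¹ * t * _ = _
      rw [show (p * q) ^ i = t from hi]
    have hzq : z = p' * q' := by
      rcases Int.even_or_odd i with ⟨d, hd⟩ | ⟨d, hd⟩
      · exfalso
        rw [hd, ← two_mul, zpow_mul, zpow_ofNat, hc, one_zpow] at hzm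
        exact F.B.z1 hzm
      · rwa [hd, zpow_add, zpow_mul, zpow_ofNat, hc, one_zpow, one_mul, zpow_one] at hzm
    have hqU : InU z a q' := by
      have := F.U_mul hpU (Or.inr (Or.inl rfl) : InU z a z)
      have e : p' * z = q' := by
        calc p' * z = p' * (p' * q') := congrArg (p' * ·) hzq
          _ = q' := by rw [← mul_assoc, F.U_sq hpU, one_mul]
      rwa [e] at this
    exact hq'n (F.U_conjz D P hns hqU hq'1)
  let f : ({p : G // IsZ z p} × {q : G // IsW z G0 q}) ≃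
      (Σ t : {t : G // IsW z G0 t},
        {pq : G × G // IsZ z pq.1 ∧ IsW z G0 pq.2 ∧ (t : G) ∈ Subgroup.zpowers (pq.1 * pq.2)}) :=
    { toFun := fun p => ⟨⟨(pick p.1 p.2 p.1.2 p.2.2).choose, (pick p.1 p.2 p.1.2 p.2.2).choose_spec.1⟩,
          ⟨(p.1.1, p.2.1), p.1.2, p.2.2, (pick p.1 p.2 p.1.2 p.2.2).choose_spec.2⟩⟩
      invFun := fun s => (⟨s.2.1.1, s.2.2.1⟩, ⟨s.2.1.2, s.2.2.2.1⟩)
      left_inv := fun _ => rfl
      right_inv := by
        rintro ⟨⟨t, ht⟩, ⟨⟨p, q⟩, hp, hq, hmem⟩⟩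
        have hsp := (pick p q hp hq).choose_spec
        have h1 := (Invol.eq_half (Invol.order_two_of_sq hsp.1.2.1 hsp.1.2.2.1) hsp.2).2
        have h2 := (Invol.eq_half (Invol.order_two_of_sq ht.2.1 ht.2.2.1) hmem).2
        exact Sigma.subtype_ext (Subtype.ext (h1.trans h2.symm)) rfl }
  have h := Nat.card_congr f
  rw [Nat.card_prod, Nat.card_sigma, Finset.sum_congr rfl fun t _ => same t.1 t.2, Finset.sum_const,
    smul_eq_mul, Finset.card_univ, ← Nat.card_eq_fintype_card, mul_comm] at h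
  haveI : Nonempty {t : G // IsW z G0 t} := ⟨⟨_, F.v_W D P R hm hns⟩⟩
  exact Nat.eq_of_mul_eq_mul_left Nat.card_pos h

variable (W : Cyc z a (m * l₁) G0 w) {M : Subgroup G} {V : G → G} (J : Proj z a x (m * l₁) w G0 M V)
include W J

theorem pair_mem {p q : G} (hp : IsZ z p) (hq : IsW z G0 q) (h : m * l₁ ∈ Subgroup.zpowers (p * q)) :
    p ∈ M ∧ q ∈ M := by
  obtain ⟨hvT, hv2, hvE⟩ := F.v_facts D hm
  have hp2 : orderOf p = 2 := by
    obtain ⟨k, rfl⟩ := hp
    rw [Invol.order_conj]; exact Invol.order_two_of_sq F.B.zz F.B.z1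
  have hq2 : orderOf q = 2 := Invol.order_two_of_sq hq.2.1 hq.2.2.1
  obtain ⟨hev, e⟩ := Invol.eq_half (Invol.order_two_of_sq hv2 fun h => hvE (h ▸ E.one_mem)) h
  obtain ⟨ctp, ctq⟩ := Invol.half_commute hp2 hq2 hev
  rw [← e] at ctp ctq
  exact ⟨(J.mem p).2 ⟨F.z_G0 D P R hm hns hp, ctp.eq.symm⟩, (J.mem q).2 ⟨hq.1, ctq.eq.symm⟩⟩

/-- A partner of `z` projects onto `v`. -/
theorem partner {p q : G} (hp : p ∈ M) (hpV : V p = 1) (hq : q ∈ M) (hq2 : q * q = 1)
    (h : m * l₁ ∈ Subgroup.zpowers (p * q)) : V q = m * l₁ := by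
  obtain ⟨hvT, hv2, hvE⟩ := F.v_facts D hm
  set v := m * l₁
  have hvA : InA z a x v v := Or.inr (Or.inl (by rw [inv_mul_cancel]; exact Or.inl rfl))
  have hvV : V v = v := by
    rw [J.onA v hvA, proj3, cj_iff.2 W.wv, cj_iff.2 W.wv, hv2, one_mul]
  have hVq : V q * V q = 1 := by
    obtain ⟨h1, -⟩ := J.im q hq
    exact (F.InA_T D hm h1).2.1
  have h1V : V 1 = 1 := (J.onA 1 (Or.inl (Or.inl rfl))).trans (F.proj3_U D P R hm hns W (Or.inl rfl))
  obtain ⟨n, hn⟩ := (mem_powers_iff_mem_zpowers (x := p * q)).mpr h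
  have hn' : (p * q) ^ n = v := hn
  have hpow : ∀ n, V ((p * q) ^ n) = V q ^ n := by
    intro n
    induction n with
    | zero => rw [pow_zero, pow_zero, h1V]
    | succ k ih => rw [pow_succ, J.hom _ _ (M.pow_mem (M.mul_mem hp hq) k) (M.mul_mem hp hq), ih,
        J.hom _ _ hp hq, hpV, one_mul, pow_succ]
  have e := hpow n
  rw [hn', hvV] at e
  rcases Nat.even_or_odd n with ⟨d, hd⟩ | ⟨d, hd⟩
  · exfalso
    rw [hd, ← two_mul, pow_mul, pow_two, hVq, one_pow] at e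
    exact hvE (e ▸ E.one_mem)
  · rw [hd, pow_succ, pow_mul, pow_two, hVq, one_pow, one_mul] at e
    exact e.symm

/-- The only case is that all conjugates of `z` lie in `⟨z, a⟩`. -/
theorem all_U : ∀ k, InU z a (k * z * k⁻¹) := by
  classical
  haveI := Fintype.ofFinite G
  obtain ⟨hvT, hv2, hvE⟩ := F.v_facts D hm
  set v := m * l₁ with hvd
  have hzU : InU z a z := Or.inr (Or.inl rfl)
  have hU3 : Nat.card {u : G // InU z a u ∧ u ≠ 1} = 3 := by
    have h := Nat.card_congr (Equiv.sumCompl (fun u : {u : G // InU z a u} => (u : G) ≠ 1))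
    rw [Nat.card_sum, Nat.card_congr (Equiv.subtypeSubtypeEquivSubtypeInter (InU z a) (· ≠ 1)), F.card_U] at h
    have h1 : Nat.card {u : {u : G // InU z a u} // ¬ (u : G) ≠ 1} = 1 :=
      Nat.card_eq_one_iff_exists.2 ⟨⟨⟨1, Or.inl rfl⟩, fun h => h rfl⟩, fun u =>
        Subtype.ext (Subtype.ext (not_not.1 u.2))⟩
    omega
  have hJ := F.count D P R hm hns
  rcases F.dichotomy D P R hm hns W J with hN | ⟨K, hK, hK15, hKinv⟩
  · -- three pairs
    have hle : Nat.card {p : G // IsZ z p} ≤ 3 := by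
      rw [hJ, ← hU3]
      have key : ∀ pq : {pq : G × G // IsZ z pq.1 ∧ IsW z G0 pq.2 ∧ v ∈ Subgroup.zpowers (pq.1 * pq.2)},
          InU z a pq.1.1 ∧ pq.1.1 ≠ 1 ∧ pq.1.2 = pq.1.1 * v := by
        rintro ⟨⟨p, q⟩, hp, hq, hmem⟩
        obtain ⟨hpM, hqM⟩ := F.pair_mem D P R hm hns W J hp hq hmem
        have inA : ∀ r, r ∈ M → r * r = 1 → InA z a x v r := fun r hr hr2 => by
          obtain ⟨hrG, hrv⟩ := (J.mem r).1 hr
          exact F.two_N D P R hm hns W (n := 1) hrG hrv (hN r hr) (by rw [pow_one, pow_two, hr2])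
        obtain ⟨k, hk⟩ := id hp
        have hk : p = k * z * k⁻¹ := hk
        have hp2 : p * p = 1 := by rw [hk, ← cj_mul, F.B.zz]; group
        have hpA := inA p hpM hp2
        have hqA := inA q hqM hq.2.1
        have hpU : InU z a p :=
          F.z_in_U D P hns hp (F.A_facts D P R hm hns W hpA (Or.inl hzU)).2.1
        have hpq := (F.A_facts D P R hm hns W hpA hqA)
        refine ⟨hpU, fun e => F.B.z1 (conj_eq_one_iff.1 (hk.symm.trans e)), ?_⟩
        have hsq : p * q * (p * q) = 1 := (F.InA_T D hm hpq.1).2.1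
        obtain ⟨i, hi⟩ := hmem
        rcases Int.even_or_odd i with ⟨d, hd⟩ | ⟨d, hd⟩
        · exfalso
          simp only at hi
          rw [hd, ← two_mul, zpow_mul, zpow_ofNat, pow_two, hsq, one_zpow] at hi
          exact hvE (hi ▸ E.one_mem)
        · simp only at hi
          rw [hd, zpow_add, zpow_mul, zpow_ofNat, pow_two, hsq, one_zpow, one_mul, zpow_one] at hi
          show q = p * v
          rw [← hi, ← mul_assoc, hp2, one_mul]
      refine Nat.card_le_card_of_injective (fun pq => ⟨pq.1.1, (key pq).1, (key pq).2.1⟩) fun p q e => ?_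
      have e1 : p.1.1 = q.1.1 := congrArg Subtype.val e
      exact Subtype.ext (Prod.ext e1 (by rw [(key p).2.2, (key q).2.2, e1]))
    intro k
    have hinj : Function.Injective (fun u : {u : G // InU z a u ∧ u ≠ 1} =>
        (⟨u.1, F.U_conjz D P hns u.2.1 u.2.2⟩ : {p : G // IsZ z p})) := fun p q e =>
      Subtype.ext (congrArg Subtype.val e :)
    have hbij := hinj.bijective_of_nat_card_le (hU3 ▸ hle)
    obtain ⟨u, hu⟩ := hbij.2 ⟨k * z * k⁻¹, ⟨k, rfl⟩⟩
    have hu' : u.1 = k * z * k⁻¹ := congrArg Subtype.val hu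
    exact hu' ▸ u.2.1
  exfalso
  have hVz : ∀ p, p ∈ M → IsZ z p → V p = 1 ∧ p ∈ K := by
    intro p hp hpz
    obtain ⟨k, hk⟩ := id hpz
    obtain ⟨h, α, hh, hα, e⟩ := J.conjA p hp (by rw [hk, ← cj_mul, F.B.zz]; group)
    have hαU : InU z a α := F.z_in_U D P hns ⟨h⁻¹ * k, by rw [cj_cj, ← hk, e]; group⟩
      (F.A_facts D P R hm hns W hα (Or.inl hzU)).2.1
    have : V p = 1 := by
      have hαM := F.A_M D P R hm hns W J hα
      rw [e, J.hom _ _ (M.mul_mem hh hαM) (M.inv_mem hh), J.hom _ _ hh hαM,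
        show V α = 1 from (J.onA α hα).trans (F.proj3_U D P R hm hns W hαU), mul_one,
        ← J.hom _ _ hh (M.inv_mem hh), mul_inv_cancel]
      exact (J.onA 1 (Or.inl (Or.inl rfl))).trans (F.proj3_U D P R hm hns W (Or.inl rfl))
    exact ⟨this, (hK p).2 ⟨hp, this⟩⟩
  have toZ : ∀ k, k ∈ K → k * k = 1 → k ≠ 1 → ∃ h, h ∈ M ∧ k = h * z * h⁻¹ := by
    intro k hk hk2 hk1
    obtain ⟨h, u, hh, hu, hu1, e⟩ := hKinv k hk hk2 hk1
    obtain ⟨i, hi⟩ := F.cyc_toz W.wz W.wa hu hu1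
    refine ⟨h * (w ^ i)⁻¹, M.mul_mem hh (M.inv_mem (M.pow_mem ((J.mem w).2 ⟨W.mem, W.wv⟩) i)), ?_⟩
    rw [e, ← hi]; group
  have hP15 : Nat.card {p : G // IsZ z p ∧ p ∈ M} = 15 := by
    rw [← hK15]
    refine Nat.card_congr (Equiv.subtypeEquivRight fun p => ⟨fun h => ?_, fun h => ?_⟩)
    · obtain ⟨k, hk⟩ := id h.1
      exact ⟨(hVz p h.2 h.1).2, by rw [hk, ← cj_mul, F.B.zz]; group,
        fun e => F.B.z1 (conj_eq_one_iff.1 (hk.symm.trans e))⟩
    · obtain ⟨h', hh', e⟩ := toZ p h.1 h.2.1 h.2.2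
      exact ⟨⟨h', e⟩, ((hK p).1 h.1).1⟩
  -- partners
  let Par : G → Type u := fun p => {q : G // IsW z G0 q ∧ v ∈ Subgroup.zpowers (p * q)}
  have hsame : ∀ p, IsZ z p → p ∈ M → Nat.card (Par p) = Nat.card (Par z) := by
    intro p hpz hp
    obtain ⟨-, hpK⟩ := hVz p hp hpz
    obtain ⟨k, hk⟩ := id hpz
    obtain ⟨h, hh, e⟩ := toZ p hpK (by rw [hk, ← cj_mul, F.B.zz]; group)
      (fun e => F.B.z1 (conj_eq_one_iff.1 (hk.symm.trans e)))
    obtain ⟨hhG, hhv⟩ := (J.mem h).1 hh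
    have push : ∀ (c : G), c * v = v * c → ∀ {r q : G}, IsW z G0 q ∧ v ∈ Subgroup.zpowers (r * q) →
        IsW z G0 (c * q * c⁻¹) ∧ v ∈ Subgroup.zpowers (c * r * c⁻¹ * (c * q * c⁻¹)) := by
      rintro c hc r q ⟨⟨h1, h2, h3, h4⟩, i, hi⟩
      refine ⟨⟨R.normal.conj_mem q h1 c, by rw [← cj_mul, h2]; group, fun e => h3 (conj_eq_one_iff.1 e),
        fun ⟨j, hj⟩ => h4 ⟨c⁻¹ * j, by rw [cj_cj, ← hj]; group⟩⟩, i, ?_⟩
      show _ ^ i = v
      rw [← cj_mul, conj_zpow, show (r * q) ^ i = v from hi, cj_iff.2 hc]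
    exact (Nat.card_congr
      { toFun := fun q : Par z => (⟨h * q.1 * h⁻¹, by rw [e]; exact push h hhv q.2⟩ : Par p)
        invFun := fun q => ⟨h⁻¹ * q.1 * h⁻¹⁻¹, by
          have := push h⁻¹ (inv_comm' hhv) q.2
          rwa [show h⁻¹ * p * h⁻¹⁻¹ = z by rw [e]; group] at this⟩
        left_inv := fun q => Subtype.ext (by simp [mul_assoc])
        right_inv := fun q => Subtype.ext (by simp [mul_assoc]) }).symm
  have hJ15 : Nat.card {p : G // IsZ z p} = 15 * Nat.card (Par z) := by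
    rw [hJ, ← hP15]
    have f : {pq : G × G // IsZ z pq.1 ∧ IsW z G0 pq.2 ∧ v ∈ Subgroup.zpowers (pq.1 * pq.2)} ≃
        (Σ p : {p : G // IsZ z p ∧ p ∈ M}, Par p.1) :=
      { toFun := fun pq => ⟨⟨pq.1.1, pq.2.1, (F.pair_mem D P R hm hns W J pq.2.1 pq.2.2.1 pq.2.2.2).1⟩,
          ⟨pq.1.2, pq.2.2.1, pq.2.2.2⟩⟩
        invFun := fun s => ⟨(s.1.1, s.2.1), s.1.2.1, s.2.2.1, s.2.2.2⟩
        left_inv := fun _ => rfl
        right_inv := fun _ => rfl }
    rw [Nat.card_congr f, Nat.card_sigma, Finset.sum_congr rfl fun p _ => hsame p.1 p.2.1 p.2.2,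
      Finset.sum_const, smul_eq_mul, Finset.card_univ, ← Nat.card_eq_fintype_card]
  have h13 : Nat.card (Par z) ≤ 13 := by
    have hzM : z ∈ M := F.A_M D P R hm hns W J (Or.inl hzU)
    have hzV : V z = 1 := (J.onA z (Or.inl hzU)).trans (F.proj3_U D P R hm hns W hzU)
    have hvA : InA z a x v v := Or.inr (Or.inl (by rw [inv_mul_cancel]; exact Or.inl rfl))
    have hvM := F.A_M D P R hm hns W J hvA
    have key : ∀ q : Par z, v * q.1 ∈ K ∧ v * q.1 * (v * q.1) = 1 ∧ v * q.1 ≠ 1 ∧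
        (v * q.1 = z ∨ ¬ InU z a (v * q.1)) := by
      rintro ⟨q, hq, hmem⟩
      obtain ⟨-, hqM⟩ := F.pair_mem D P R hm hns W J (⟨1, by group⟩ : IsZ z z) hq hmem
      obtain ⟨hqG, hqv⟩ := (J.mem q).1 hqM
      have hVq := F.partner D P R hm hns W J hzM hzV hqM hq.2.1 hmem
      have h1 : v * q ∈ K := (hK _).2 ⟨M.mul_mem hvM hqM, by
        rw [J.hom _ _ hvM hqM, hVq, show V v = v from
          (J.onA v hvA).trans (by rw [proj3, cj_iff.2 W.wv, cj_iff.2 W.wv, hv2, one_mul]), hv2]⟩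
      have hcase : ∀ u, InU z a u → v * q = u → u = z := by
        intro u hu e
        have eq : q = v * u := by rw [← e, ← mul_assoc, hv2, one_mul]
        obtain ⟨i, hi⟩ := hmem
        have hi' : (z * q) ^ i = v := hi
        have e2 : z * q = v * (z * u) := by rw [eq, ← mul_assoc, ← hvT.1.1, mul_assoc]
        have hzu := F.U_mul hzU hu
        have hsq : z * q * (z * q) = 1 := by rw [e2, F.sq_mul_U D hvT.1 hzu, hv2]
        rcases Int.even_or_odd i with ⟨d, hd⟩ | ⟨d, hd⟩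
        · exfalso
          rw [hd, ← two_mul, zpow_mul, zpow_ofNat, pow_two, hsq, one_zpow] at hi'
          exact hvE (hi' ▸ E.one_mem)
        · rw [hd, zpow_add, zpow_mul, zpow_ofNat, pow_two, hsq, one_zpow, one_mul, zpow_one, e2] at hi'
          exact ((inv_sq F.B.zz).symm.trans (inv_eq_of_mul_eq_one_right (mul_eq_left.1 hi'))).symm
      refine ⟨h1, ?_, fun e => F.B.z1 (hcase 1 (Or.inl rfl) e).symm, ?_⟩
      · rw [show v * q * (v * q) = v * (q * v) * q by group, hqv,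
          show v * (v * q) * q = v * v * (q * q) by group, hv2, hq.2.1, one_mul]
      · by_cases hU : InU z a (v * q)
        · exact Or.inl (hcase _ hU rfl)
        · exact Or.inr hU
    have hle : Nat.card (Par z) ≤
        Nat.card {k : G // (k ∈ K ∧ k * k = 1 ∧ k ≠ 1) ∧ (k = z ∨ ¬ InU z a k)} :=
      Nat.card_le_card_of_injective
        (fun q : Par z => (⟨v * q.1, ⟨(key q).1, (key q).2.1, (key q).2.2.1⟩, (key q).2.2.2⟩ :
          {k : G // (k ∈ K ∧ k * k = 1 ∧ k ≠ 1) ∧ (k = z ∨ ¬ InU z a k)}))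
        fun p q e => Subtype.ext (mul_left_cancel (congrArg Subtype.val e :))
    refine hle.trans ?_
    have h := Nat.card_congr (Equiv.sumCompl
      (fun k : {k : G // k ∈ K ∧ k * k = 1 ∧ k ≠ 1} => (k : G) = z ∨ ¬ InU z a (k : G)))
    rw [Nat.card_sum, hK15, Nat.card_congr (Equiv.subtypeSubtypeEquivSubtypeInter
      (fun k : G => k ∈ K ∧ k * k = 1 ∧ k ≠ 1) (fun k => k = z ∨ ¬ InU z a k))] at h
    have h2 : 2 ≤ Nat.card {k : {k : G // k ∈ K ∧ k * k = 1 ∧ k ≠ 1} // ¬ ((k : G) = z ∨ ¬ InU z a (k : G))} := by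
      have inK : ∀ u, InU z a u → u ∈ K := fun u hu =>
        (hK u).2 ⟨F.A_M D P R hm hns W J (Or.inl hu), (J.onA u (Or.inl hu)).trans (F.proj3_U D P R hm hns W hu)⟩
      have haU : InU z a a := Or.inr (Or.inr (Or.inl rfl))
      have hazU : InU z a (a * z) := Or.inr (Or.inr (Or.inr rfl))
      refine le_trans (le_of_eq (Nat.card_fin 2).symm) (Nat.card_le_card_of_injective (fun i : Fin 2 =>
        if i = 0 then ⟨⟨a, inK a haU, F.A.sq, F.A.ne1⟩, fun h => h.elim F.A.nez (fun h => h haU)⟩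
        else ⟨⟨a * z, inK _ hazU, F.U_sq hazU, (F.B.nci_mul_z F.A).ne1⟩,
          fun h => h.elim (F.B.nci_mul_z F.A).nez (fun h => h hazU)⟩) ?_)
      intro i j e
      fin_cases i <;> fin_cases j <;> simp only [Fin.isValue] at e ⊢ <;> exfalso <;>
        have e' := congrArg (fun k => ((k.1 : {k : G // k ∈ K ∧ k * k = 1 ∧ k ≠ 1}) : G)) e <;>
        simp only [Fin.isValue, Fin.zero_eta, Fin.mk_one, if_true, one_ne_zero, if_false] at e'
      · exact F.B.z1 (mul_eq_left.1 e'.symm)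
      · exact F.B.z1 (mul_eq_left.1 e')
    omega
  -- Burnside's lemma for `T`
  obtain ⟨T, hT64, hT⟩ := F.exists_T D
  letI : MulAction T {p : G // IsZ z p} :=
    { smul := fun t p => ⟨(t : G) * p.1 * (t : G)⁻¹, by
        obtain ⟨k, hk⟩ := p.2; exact ⟨(t : G) * k, by rw [cj_cj, ← hk]⟩⟩
      one_smul := fun p => Subtype.ext (by show ((1 : T) : G) * p.1 * ((1 : T) : G)⁻¹ = p.1; simp)
      mul_smul := fun s t p => Subtype.ext (cj_cj _ _ _) }
  haveI : Fintype (Quotient (MulAction.orbitRel T {p : G // IsZ z p})) := Fintype.ofFinite _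
  have hB := MulAction.sum_card_fixedBy_eq_card_orbits_mul_card_group T {p : G // IsZ z p}
  have hfix : ∀ t : T, Fintype.card (MulAction.fixedBy {p : G // IsZ z p} t) =
      Nat.card {p : G // IsZ z p ∧ p * (t : G) = t * p} := by
    intro t
    rw [← Nat.card_eq_fintype_card]
    refine Nat.card_congr
      { toFun := fun p => ⟨p.1.1, p.1.2, (cj_iff.1 (congrArg Subtype.val p.2 :)).symm⟩
        invFun := fun p => ⟨⟨p.1, p.2.1⟩, Subtype.ext (cj_iff.2 p.2.2.symm)⟩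
        left_inv := fun _ => rfl
        right_inv := fun _ => rfl }
  have big : ∀ t, InT z a ψ t → t * t = 1 → ¬ InU z a t →
      Nat.card {p : G // IsZ z p ∧ p * t = t * p} = 15 := by
    intro t ht ht2 htU
    obtain ⟨c, hc, rfl⟩ := F.invol_conj D ht ht2 htU
    rw [← hP15]
    refine Nat.card_congr
      { toFun := fun p => ⟨c⁻¹ * p.1 * c⁻¹⁻¹, ?_, ?_⟩
        invFun := fun p => ⟨c * p.1 * c⁻¹, ?_, ?_⟩
        left_inv := fun p => Subtype.ext (by simp [mul_assoc])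
        right_inv := fun p => Subtype.ext (by simp [mul_assoc]) }
    · obtain ⟨k, hk⟩ := p.2.1; exact ⟨c⁻¹ * k, by rw [cj_cj, ← hk]⟩
    · refine (J.mem _).2 ⟨R.normal.conj_mem _ (F.z_G0 D P R hm hns p.2.1) _, ?_⟩
      refine cj_inj (a := c) ?_
      rw [cj_mul, cj_mul c (m * l₁), show c * (c⁻¹ * p.1 * c⁻¹⁻¹) * c⁻¹ = p.1 by group]
      exact p.2.2
    · obtain ⟨k, hk⟩ := p.2.1; exact ⟨c * k, by rw [cj_cj, ← hk]⟩
    · rw [← cj_mul, ← cj_mul, ((J.mem _).1 p.2.2).2]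
  have small : ∀ t, InT z a ψ t → t ≠ 1 → (t * t ≠ 1 ∨ InU z a t) →
      Nat.card {p : G // IsZ z p ∧ p * t = t * p} = 3 := by
    intro t ht ht1 hcase
    rw [← hU3]
    refine Nat.card_congr (Equiv.subtypeEquivRight fun p => ⟨fun h => ?_, fun h => ?_⟩)
    · obtain ⟨k, hk⟩ := id h.1
      refine ⟨?_, fun e => F.B.z1 (conj_eq_one_iff.1 (hk.symm.trans e))⟩
      rcases hcase with h' | h'
      · exact F.triang D P hns h.1 (F.T_sq ht) h' (comm_mul h.2 h.2)
      · exact F.triang D P hns h.1 h' ht1 h.2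
    · exact ⟨F.U_conjz D P hns h.1 h.2, (F.U_comm h.1 ht.1).symm⟩
  have hval : ∀ t : T, Fintype.card (MulAction.fixedBy {p : G // IsZ z p} t) =
      (if (t : G) = 1 then Nat.card {p : G // IsZ z p} else 3) +
      (if (t : G) * t = 1 ∧ ¬ InU z a (t : G) then 12 else 0) := by
    intro t
    rw [hfix t]
    have ht := (hT _).1 t.2
    by_cases h1 : (t : G) = 1
    · rw [if_pos h1, if_neg (fun h => h.2 (by rw [h1]; exact Or.inl rfl)), add_zero]
      exact Nat.card_congr (Equiv.subtypeEquivRight fun p => ⟨fun h => h.1, fun h => ⟨h, by rw [h1]; simp⟩⟩)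
    rw [if_neg h1]
    by_cases h2 : (t : G) * t = 1 ∧ ¬ InU z a (t : G)
    · rw [if_pos h2, big _ ht h2.1 h2.2]
    · rw [if_neg h2, add_zero]
      refine small _ ht h1 ?_
      by_cases h : (t : G) * t = 1
      · exact Or.inr (not_not.1 fun h' => h2 ⟨h, h'⟩)
      · exact Or.inl h
  rw [Finset.sum_congr rfl fun t _ => hval t, Finset.sum_add_distrib] at hB
  have hs1 : ∑ t : T, (if (t : G) = 1 then Nat.card {p : G // IsZ z p} else 3) =
      Nat.card {p : G // IsZ z p} + 63 * 3 := by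
    rw [Finset.sum_ite, Finset.sum_const, Finset.sum_const, smul_eq_mul, smul_eq_mul]
    have hc : (Finset.univ.filter fun t : T => (t : G) = 1).card = 1 := by
      rw [Finset.card_eq_one]
      exact ⟨1, by ext t; simp⟩
    have hc' := Finset.card_filter_add_card_filter_not (s := (Finset.univ : Finset T)) (fun t : T => (t : G) = 1)
    rw [hc, Finset.card_univ, ← Nat.card_eq_fintype_card, hT64] at hc'
    rw [hc, one_mul]
    congr 2
    omega
  have hs2 : ∑ t : T, (if (t : G) * t = 1 ∧ ¬ InU z a (t : G) then 12 else 0) = 24 * 12 := by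
    rw [Finset.sum_ite, Finset.sum_const, Finset.sum_const, smul_eq_mul, smul_eq_mul, mul_zero, add_zero]
    congr 1
    rw [← Fintype.card_subtype, ← Nat.card_eq_fintype_card, ← F.card_T_invol D hm]
    exact Nat.card_congr
      { toFun := fun t => ⟨((t.1 : T) : G), (hT _).1 t.1.2, t.2⟩
        invFun := fun t => ⟨⟨t.1, (hT _).2 t.2.1⟩, t.2.2⟩
        left_inv := fun _ => rfl
        right_inv := fun _ => rfl }
  rw [hs1, hs2, ← Nat.card_eq_fintype_card (α := T), hT64, hJ15] at hB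
  omega

theorem solvable_of_all_U (hall : ∀ k, InU z a (k * z * k⁻¹)) : Group.IsSolvable G := by
  classical
  haveI := Fintype.ofFinite G
  have hN : ∀ k, InN z a k := fun k => F.N_of D P hns (Or.inr (Or.inl rfl)) F.B.z1 (hall k)
  -- the action on the four elements
  letI : MulAction G {u : G // InU z a u} :=
    { smul := fun k u => ⟨k * u.1 * k⁻¹, hN k u.1 u.2⟩
      one_smul := fun u => Subtype.ext (by show (1 : G) * u.1 * (1 : G)⁻¹ = u.1; simp)
      mul_smul := fun s t u => Subtype.ext (cj_cj _ _ _) }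
  let f : G →* Perm {u : G // InU z a u} := MulAction.toPermHom G _
  have hperm : Group.IsSolvable (Perm {u : G // InU z a u}) := by
    haveI := PermSmall.isSolvable_perm_fin_four
    have hc : Fintype.card {u : G // InU z a u} = 4 := by rw [← Nat.card_eq_fintype_card]; exact F.card_U
    let ε : Perm (Fin 4) ≃* Perm {u : G // InU z a u} :=
      ((Fintype.equivFinOfCardEq hc).symm).permCongrHom
    exact Group.isSolvable_of_surjective (f := ε.toMonoidHom) ε.surjective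
  -- the kernel centralises `z`
  have hker : ∀ k : f.ker, (k : G) * z = z * k := fun k => by
    have h := DFunLike.congr_fun (MonoidHom.mem_ker.1 k.2) (⟨z, Or.inr (Or.inl rfl)⟩ : {u : G // InU z a u})
    exact cj_iff.1 (congrArg Subtype.val h :)
  let φ : f.ker →* S4 :=
    { toFun := fun k => ψ (k : G)
      map_one' := F.B.ψ_one
      map_mul' := fun p q => F.B.ψ_mul _ _ (hker p) (hker q) }
  have hkk : Group.IsSolvable φ.ker := by
    haveI : Fact (Nat.Prime 2) := ⟨Nat.prime_two⟩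
    have hE : IsPGroup 2 E := IsPGroup.of_card (n := 5) F.B.card
    haveI := hE.isNilpotent
    let j : φ.ker →* E :=
      { toFun := fun k => ⟨((k : f.ker) : G), (F.B.ψ_ker _ (hker k.1)).1 k.2⟩
        map_one' := rfl
        map_mul' := fun _ _ => rfl }
    exact Group.isSolvable_of_isSolvable_injective (f := j)
      fun p q e => Subtype.ext (Subtype.ext (congrArg Subtype.val e :))
  haveI := PermSmall.isSolvable_perm_fin_four
  haveI : Group.IsSolvable f.ker := Group.isSolvable_of_ker_le_range φ.ker.subtype φ (by rw [Subgroup.range_subtype])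
  exact Group.isSolvable_of_ker_le_range f.ker.subtype f (by rw [Subgroup.range_subtype])

omit W J in
/-- The small case. -/
theorem small_solvable : Group.IsSolvable G := by
  obtain ⟨w, W⟩ := F.exists_cyc D P R hm hns
  obtain ⟨M, V, J⟩ := F.exists_proj D P R hm hns W
  exact F.solvable_of_all_U D P R hm hns W J (F.all_U D P R hm hns W J)

end Frame

end Cfsg.Agent.L34Aut
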