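import Cfsg.Agent.Lib.L34Aut.TStruct

/-!
Squares in `T`: the element `m` squares to `a` or `az`; in the second case the involutions of `T` outside
`⟨z, a⟩` form one class under `C(⟨z, a⟩)`, in the first there are none.
-/

set_option autoImplicit false
set_option linter.style.haveILetI false
set_option linter.unusedSectionVars false
set_option linter.unusedVariables false
set_option synthInstance.maxHeartbeats 400000
set_option synthInstance.maxSize 4000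

namespace Cfsg.Agent.L34Aut

universe u

variable {G : Type u} [Group G] [Finite G] {z a x m l₀ l₁ : G} {E : Subgroup G} {ψ : G → S4}

/-- The three translating elements. -/
def InY (x y : G) : Prop := y = 1 ∨ y = x ∨ y = x * x

namespace Frame

variable (F : Frame z a E ψ) (D : TData z a E ψ x m l₀ l₁)
include F D

theorem Y_C {y : G} (hy : InY x y) : InC z a y := by
  rcases hy with rfl | rfl | rfl
  exacts [⟨by simp, by simp⟩, D.X.C, F.C_mul D.X.C D.X.C]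

theorem ψm : InV (ψ m) ∧ ψ m ≠ 1 :=
  ⟨D.m_T.2, fun h => D.m_E ((F.B.ψ_ker m D.m_T.1.1).1 h)⟩

theorem mem_mE1 {t : G} (ht : InC z a t) (h : ψ t = ψ m) : InE1 a E (m⁻¹ * t) := by
  refine ⟨(F.B.ψ_ker _ (mul_comm' (inv_comm' D.m_T.1.1) ht.1)).1 ?_, mul_comm' (inv_comm' D.m_T.1.2) ht.2⟩
  rw [F.B.ψ_mul _ _ (inv_comm' D.m_T.1.1) ht.1, F.B.ψ_inv D.m_T.1.1, h, inv_mul_cancel]

/-- Every element of `T \ E` is a translate of an element of `m(E ∩ C(a))`. -/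
theorem orbit {t : G} (ht : InT z a ψ t) (htE : t ∉ E) :
    ∃ y, InY x y ∧ ∃ q, InE1 a E q ∧ t = y * (m * q) * y⁻¹ := by
  have hτ : ψ t ≠ 1 := fun h => htE ((F.B.ψ_ker t ht.1.1).1 h)
  have key : ∀ y, InY x y → ψ t = ψ y * ψ m * (ψ y)⁻¹ →
      ∃ y, InY x y ∧ ∃ q, InE1 a E q ∧ t = y * (m * q) * y⁻¹ := by
    intro y hy e
    have hyC := F.Y_C D hy
    have hC := F.C_conj (F.C_inv hyC) ht.1
    refine ⟨y, hy, _, F.mem_mE1 D hC ?_, by group⟩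
    rw [F.B.ψ_conj (inv_comm' hyC.1) ht.1.1, F.B.ψ_inv hyC.1, e]; group
  rcases V_orbit (ψ x) (ψ m) (ψ t) D.X.θ3 D.X.θ1 (F.ψm D).1 (F.ψm D).2 ht.2 hτ with e | e | e
  · exact key 1 (Or.inl rfl) (by rw [F.B.ψ_one]; simpa using e)
  · exact key x (Or.inr (Or.inl rfl)) e
  · exact key (x * x) (Or.inr (Or.inr rfl)) (by rw [F.B.ψ_mul _ _ D.X.C.1 D.X.C.1]; exact e)

theorem l_ne : l₀ * l₁ ≠ l₁ * l₀ := by
  intro hc
  have hp : InE1 a E (l₀ * l₁) := F.E1_mul D.h₀ D.h₁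
  have hU : InU z a (l₀ * l₁) := F.B.four_of_comm F.A hp.1 hp.2 (by
    calc l₀ * l₁ * (l₀ * l₁) = l₀ * (l₁ * l₀) * l₁ := by group
      _ = l₀ * l₀ * (l₁ * l₁) := by rw [← hc]; group
      _ = 1 := by rw [F.sq_eq_z D.h₀ D.n₀, F.sq_eq_z D.h₁ D.n₁, F.B.zz])
  have e : m * (l₀ * l₁) * m⁻¹ = l₀ * l₁ := F.U_conj D.m_T.1 hU
  rw [cj_mul, cj_iff.2 D.c₀, D.c₁, ← mul_assoc] at e
  exact F.A.ne1 (mul_eq_left.1 e)

theorem l01_nU : ¬ InU z a (l₀ * l₁) := fun h => F.l_ne D (by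
  have := F.U_comm h (F.E1_C D.h₀)
  exact (mul_left_cancel (a := l₀) (by rw [this]; group)))

theorem l_diff : ¬ InU z a (l₀⁻¹ * l₁) := fun h => F.l_ne D (by
  calc l₀ * l₁ = l₀ * (l₀ * (l₀⁻¹ * l₁)) := by group
    _ = l₀ * ((l₀⁻¹ * l₁) * l₀) := by rw [F.U_comm h (F.E1_C D.h₀)]
    _ = l₁ * l₀ := by group)

theorem l0_conj_l1 : l₀ * l₁ * l₀⁻¹ = l₁ * z :=
  (F.B.conjE D.h₀.1 D.h₁.1).resolve_left fun e => F.l_ne D (cj_iff.1 e)

theorem l1_conj_l0 : l₁ * l₀ * l₁⁻¹ = l₀ * z :=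
  (F.B.conjE D.h₁.1 D.h₀.1).resolve_left fun e => (Ne.symm (F.l_ne D)) (cj_iff.1 e)

theorem l1_m : l₁ * m = m * l₁ * a := by
  have h1 : m * l₁ = l₁ * a * m := by rw [← D.c₁]; group
  calc l₁ * m = l₁ * (a * a) * m := by rw [F.A.sq, mul_one]
    _ = l₁ * a * (a * m) := by group
    _ = l₁ * a * (m * a) := by rw [D.m_T.1.2]
    _ = m * l₁ * a := by rw [h1]; group

/-- The elements of `E ∩ C(a)`. -/
theorem E1_forms {q : G} (hq : InE1 a E q) :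
    ∃ w, (w = 1 ∨ w = l₀ ∨ w = l₁ ∨ w = l₀ * l₁) ∧ InU z a (w⁻¹ * q) := by
  rcases F.cosets D.h₀ D.h₁ D.n₀ D.n₁ (F.l_diff D) hq with h | h | h | h
  exacts [⟨1, Or.inl rfl, by rwa [inv_one, one_mul]⟩, ⟨l₀, Or.inr (Or.inl rfl), h⟩,
    ⟨l₁, Or.inr (Or.inr (Or.inl rfl)), h⟩, ⟨_, Or.inr (Or.inr (Or.inr rfl)), h⟩]

/-- An element of `T \ E` moves some element of `E ∩ C(a)` by `a` or `az`. -/
theorem moves {t : G} (ht : InT z a ψ t) (htE : t ∉ E) :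
    ∃ q, InE1 a E q ∧ (t * q * t⁻¹ = q * a ∨ t * q * t⁻¹ = q * (a * z)) := by
  obtain ⟨y, hy, k, hk, rfl⟩ := F.orbit D ht htE
  have hyC := F.Y_C D hy
  refine ⟨y * l₁ * y⁻¹, F.E1_conj hyC D.h₁, ?_⟩
  have e : ∀ u, InU z a u → y * (l₁ * u) * y⁻¹ = y * l₁ * y⁻¹ * u := fun u hu => by
    rw [cj_mul, F.U_conj hyC hu]
  have h1 : y * (m * k) * y⁻¹ * (y * l₁ * y⁻¹) * (y * (m * k) * y⁻¹)⁻¹ =
      y * (m * (k * l₁ * k⁻¹) * m⁻¹) * y⁻¹ := by group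
  rw [h1]
  rcases F.B.conjE hk.1 D.h₁.1 with h | h <;> rw [h]
  · left; rw [D.c₁, e a (Or.inr (Or.inr (Or.inl rfl)))]
  · right
    rw [cj_mul m l₁ z, D.c₁, cj_iff.2 D.m_T.1.1, mul_assoc l₁ a z, e (a * z) (Or.inr (Or.inr (Or.inr rfl)))]

/-- An element of `E` outside `C(a)` moves every element of `T \ E` modulo `⟨z, a⟩`. -/
theorem b_moves {b t : G} (hb : b ∈ E) (hba : b * a ≠ a * b) (ht : InT z a ψ t) (htE : t ∉ E) :
    ¬ InU z a (t⁻¹ * (b * t * b⁻¹)) := by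
  intro hu
  obtain ⟨q, hq, hmv⟩ := F.moves D ht htE
  set u := t⁻¹ * (b * t * b⁻¹) with hu'
  -- so `t` moves `b` only by an element of `⟨z, a⟩`
  have e : t * b * t⁻¹ = u⁻¹ * b := by
    have h1 : b * t * b⁻¹ = t * u := by rw [hu']; group
    have h2 : t * u = u * t := F.U_comm hu ht.1
    calc t * b * t⁻¹ = u⁻¹ * (u * t) * b * t⁻¹ := by group
      _ = u⁻¹ * (b * t * b⁻¹) * b * t⁻¹ := by rw [h1, h2]
      _ = u⁻¹ * b := by group
  have hbq := F.B.conjE hb hq.1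
  have hq' : ∃ v, InU z a v ∧ (v = a ∨ v = a * z) ∧ t * q * t⁻¹ = q * v := by
    rcases hmv with h | h
    exacts [⟨a, Or.inr (Or.inr (Or.inl rfl)), Or.inl rfl, h⟩,
      ⟨_, Or.inr (Or.inr (Or.inr rfl)), Or.inr rfl, h⟩]
  obtain ⟨v, hvU, hv, hv'⟩ := hq'
  have e1 : t * (b * q * b⁻¹) * t⁻¹ = u⁻¹ * (b * (q * v) * b⁻¹) * u := by
    calc t * (b * q * b⁻¹) * t⁻¹ = t * b * t⁻¹ * (t * q * t⁻¹) * (t * b * t⁻¹)⁻¹ := by group
      _ = _ := by rw [e, hv']; group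
  have hbv : b * v * b⁻¹ = v * z := by
    have hba' := (F.B.conjE hb F.A.mem).resolve_left fun e => hba (cj_iff.1 e)
    rcases hv with rfl | rfl
    · exact hba'
    · rw [cj_mul, hba', cj_iff.2 (F.B.Ez b hb)]
  have hcen : ∀ w, InE1 a E w → u⁻¹ * w * u = w := fun w hw => by
    rw [mul_assoc, F.U_comm hu (F.E1_C hw), ← mul_assoc, inv_mul_cancel, one_mul]
  have hzU : InU z a z := Or.inr (Or.inl rfl)
  have hvz := F.U_mul hvU hzU
  rcases hbq with h | h <;> rw [h] at e1 <;> rw [cj_mul b q v, h, hbv] at e1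
  · rw [hcen _ (F.E1_mul hq (F.U_E hvz)), hv'] at e1
    exact F.B.xz_ne (mul_left_cancel e1).symm
  · rw [hcen _ (F.E1_mul (F.E1_mul hq (F.U_E hzU)) (F.U_E hvz)), cj_mul, hv', cj_iff.2 ht.1.1] at e1
    refine F.B.z1 ?_
    have e2 : q * v * z = q * v * z * z := e1.trans (by
      rw [show q * z * (v * z) = q * (z * v) * z by group, F.U_comm hzU (F.E1_C (F.U_E hvU)) |>.symm]; group)
    exact mul_eq_left.1 e2.symm

/-- The square of `m`. -/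
theorem m_sq : m * m = a ∨ m * m = a * z := by
  obtain ⟨b, hb, hba⟩ := F.exists_b
  have hba' := (F.B.conjE hb F.A.mem).resolve_left fun e => hba (cj_iff.1 e)
  have hbm : b * m * b⁻¹ * m⁻¹ ∈ E := by
    have := E.mul_mem hb (F.B.norm m D.m_T.1.1 b⁻¹ (E.inv_mem hb))
    rwa [show b * (m * b⁻¹ * m⁻¹) = b * m * b⁻¹ * m⁻¹ by group] at this
  set d := b * m * b⁻¹ * m⁻¹ with hd
  have hbmC : InC z a (b * m * b⁻¹) := by
    refine ⟨F.B.zcj (F.B.Ez b hb) D.m_T.1.1, cj_iff.1 ?_⟩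
    rw [cj_cj (b * m) b⁻¹, cj_cj b m, show b⁻¹ * a * b⁻¹⁻¹ = a * z from
      (F.B.conjE (E.inv_mem hb) F.A.mem).resolve_left fun e => hba (by
        have h := cj_iff.1 e
        exact inv_inv b ▸ inv_comm' h),
      cj_mul m a z, cj_iff.2 D.m_T.1.2, cj_iff.2 D.m_T.1.1, cj_mul b a z, hba', cj_iff.2 (F.B.Ez b hb), F.B.z_mul_z]
  have hdE : InE1 a E d := ⟨hbm, mul_comm' hbmC.2 (inv_comm' D.m_T.1.2)⟩
  have hdU : ¬ InU z a d := fun h => F.b_moves D hb hba D.m_T D.m_E (by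
    rw [show m⁻¹ * (b * m * b⁻¹) = m⁻¹ * (d * m) by rw [hd]; group, ← F.U_comm h D.m_T.1, inv_mul_cancel_left]
    exact h)
  have hU := F.T_sq D.m_T
  have e1 : b * (m * m) * b⁻¹ = d * (m * d * m⁻¹) * (m * m) := by rw [cj_mul, hd]; group
  have hdd := F.sq_eq_z hdE hdU
  rcases hU with h | h | h | h
  · exfalso
    rw [h] at e1
    rcases D.good d hdE with g | g <;> rw [g] at e1
    · rw [hdd] at e1; exact F.B.z1 (by simpa using e1.symm)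
    · rw [← mul_assoc d d a, hdd] at e1
      exact F.A.nez (by
        have : z * a = 1 := by simpa using e1.symm
        rw [← inv_sq F.B.zz]; exact eq_inv_of_mul_eq_one_right this)
  · exfalso
    rw [h, cj_iff.2 (F.B.Ez b hb)] at e1
    rcases D.good d hdE with g | g <;> rw [g] at e1
    · rw [hdd, F.B.zz] at e1; exact F.B.z1 e1
    · rw [← mul_assoc d d a, hdd, F.az.symm] at e1
      exact F.A.nez (by rw [e1, F.B.z_mul_z])
  · exact Or.inl h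
  · exact Or.inr h

theorem sq_mul_U {w u : G} (hw : InC z a w) (hu : InU z a u) : w * u * (w * u) = w * w := by
  calc w * u * (w * u) = w * (u * w) * u := by group
    _ = w * w * (u * u) := by rw [← F.U_comm hu hw]; group
    _ = w * w := by rw [F.U_sq hu, mul_one]

theorem sq_l0 : m * l₀ * (m * l₀) = m * m * z := by
  calc m * l₀ * (m * l₀) = m * (l₀ * m) * l₀ := by group
    _ = m * m * (l₀ * l₀) := by rw [← D.c₀]; group
    _ = _ := by rw [F.sq_eq_z D.h₀ D.n₀]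

theorem sq_l1 : m * l₁ * (m * l₁) = m * m * (a * z) := by
  calc m * l₁ * (m * l₁) = m * (l₁ * m) * l₁ := by group
    _ = m * m * l₁ * (a * l₁) := by rw [F.l1_m D]; group
    _ = m * m * (l₁ * l₁) * a := by rw [← D.h₁.2]; group
    _ = _ := by rw [F.sq_eq_z D.h₁ D.n₁, F.az]; group

theorem sq_l01 : m * (l₀ * l₁) * (m * (l₀ * l₁)) = m * m * (a * z) := by
  have h01 := F.E1_mul D.h₀ D.h₁
  have e : l₀ * l₁ * m = m * (l₀ * l₁) * a := by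
    calc l₀ * l₁ * m = l₀ * (l₁ * m) := mul_assoc _ _ _
      _ = l₀ * m * (l₁ * a) := by rw [F.l1_m D]; group
      _ = _ := by rw [← D.c₀]; group
  calc m * (l₀ * l₁) * (m * (l₀ * l₁)) = m * (l₀ * l₁ * m) * (l₀ * l₁) := by group
    _ = m * m * (l₀ * l₁) * (a * (l₀ * l₁)) := by rw [e]; group
    _ = m * m * ((l₀ * l₁) * (l₀ * l₁)) * a := by rw [← h01.2]; group
    _ = _ := by rw [F.sq_eq_z h01 (F.l01_nU D), F.az]; group

/-- The involutions of `T` outside `⟨z, a⟩`. -/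
theorem invol_cases {t : G} (ht : InT z a ψ t) (h2 : t * t = 1) (hU : ¬ InU z a t) :
    m * m = a * z ∧ ∃ y, InY x y ∧ ∃ w, (w = l₁ ∨ w = l₀ * l₁) ∧ ∃ u, InU z a u ∧
      t = y * (m * w * u) * y⁻¹ := by
  have htE : t ∉ E := fun h => hU (F.B.four_of_comm F.A h ht.1.2 h2)
  obtain ⟨y, hy, q, hq, rfl⟩ := F.orbit D ht htE
  obtain ⟨w, hw, hu⟩ := F.E1_forms D hq
  have hwE : InE1 a E w := by
    rcases hw with rfl | rfl | rfl | rfl
    exacts [⟨E.one_mem, by simp⟩, D.h₀, D.h₁, F.E1_mul D.h₀ D.h₁]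
  have e : m * q = m * w * (w⁻¹ * q) := by group
  have h2' : m * w * (m * w) = 1 := by
    rw [← F.sq_mul_U D (F.C_mul D.m_T.1 (F.E1_C hwE)) hu, ← e]
    rw [← cj_mul] at h2
    exact cj_inj (a := y) (h2.trans (by group))
  have hm0 : m * m ≠ 1 := by
    intro h; rcases F.m_sq D with h' | h' <;> rw [h] at h'
    exacts [F.A.ne1 h'.symm, (F.B.nci_mul_z F.A).ne1 h'.symm]
  have hneed : (w = l₁ ∨ w = l₀ * l₁) → m * m = a * z := fun hw' => by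
    have hz' : m * m * (a * z) = 1 := by
      rcases hw' with rfl | rfl
      exacts [(F.sq_l1 D).symm.trans h2', (F.sq_l01 D).symm.trans h2']
    rw [eq_inv_of_mul_eq_one_left hz', inv_sq (F.U_sq (Or.inr (Or.inr (Or.inr rfl))))]
  rcases hw with rfl | rfl | rfl | rfl
  · rw [mul_one] at h2'; exact absurd h2' hm0
  · exfalso
    rw [F.sq_l0 D] at h2'
    have hmz : m * m = z := (eq_inv_of_mul_eq_one_left h2').trans (inv_sq F.B.zz)
    rcases F.m_sq D with h' | h' <;> rw [hmz] at h'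
    exacts [F.A.nez h'.symm, (F.B.nci_mul_z F.A).nez h'.symm]
  · exact ⟨hneed (Or.inl rfl), y, hy, _, Or.inl rfl, _, hu, by rw [e]⟩
  · exact ⟨hneed (Or.inr rfl), y, hy, _, Or.inr rfl, _, hu, by rw [e]⟩

/-- An element inverting `x` modulo `T` and fixing `m` modulo `E` exchanges the two classes of involutions. -/
theorem swap_classes {g : G} (hg : InC z a g) (h1 : InV (ψ x * (ψ g * ψ x * (ψ g)⁻¹)))
    (h2 : ψ g * ψ m * (ψ g)⁻¹ = ψ m) :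
    InU z a (m⁻¹ * (g * m * g⁻¹)) ∧ InU z a (l₀⁻¹ * (g * l₀ * g⁻¹)) ∧
      InU z a ((l₀ * l₁)⁻¹ * (g * l₁ * g⁻¹)) := by
  have hgm := F.V_conj hg D.m_T
  have hk := F.mem_mE1 D hgm.1 (by rw [F.B.ψ_conj hg.1 D.m_T.1.1, h2])
  have gU : ∀ u, InU z a u → g * u * g⁻¹ = u := fun u hu => F.U_conj hg hu
  have gA : g * a * g⁻¹ = a := gU a (Or.inr (Or.inr (Or.inl rfl)))
  have hgood : ∀ q, InE1 a E q → g * m * g⁻¹ * q * (g * m * g⁻¹)⁻¹ = q ∨
      g * m * g⁻¹ * q * (g * m * g⁻¹)⁻¹ = q * a := by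
    intro q hq
    rw [cj_cj (g * m) g⁻¹, cj_cj g m]
    rcases D.good _ (F.E1_conj (F.C_inv hg) hq) with e | e <;> rw [e]
    · left; group
    · right; rw [cj_mul g _ a, gA]; group
  have hmU : InU z a (m⁻¹ * (g * m * g⁻¹)) := F.good_unique D.m_T D.good hk fun q hq => by
    rw [mul_inv_cancel_left]; exact hgood q hq
  obtain ⟨u, hu, eu⟩ : ∃ u, InU z a u ∧ g * m * g⁻¹ = m * u := ⟨_, hmU, by group⟩
  have gl : ∀ q, InE1 a E q → m * q * m⁻¹ = g * m * g⁻¹ * q * (g * m * g⁻¹)⁻¹ := fun q hq => by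
    rw [eu, cj_cj, show u * q * u⁻¹ = q from cj_iff.2 (F.U_comm hu (F.E1_C hq)).symm]
  have forms : ∀ q, InE1 a E q → m * q * m⁻¹ = q → InU z a q ∨ InU z a (l₀⁻¹ * q) := by
    intro q hq e
    have mU : ∀ v, InU z a v → m * v * m⁻¹ = v := fun v hv => F.U_conj D.m_T.1 hv
    obtain ⟨w, hw, hv⟩ := F.E1_forms D hq
    have hq' : q = w * (w⁻¹ * q) := by group
    have key : m * w * m⁻¹ = w := by
      rw [hq', cj_mul, mU _ hv] at e
      exact mul_right_cancel e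
    rcases hw with rfl | rfl | rfl | rfl
    · left; simpa using hv
    · exact Or.inr hv
    · rw [D.c₁] at key; exact absurd (mul_eq_left.1 key) F.A.ne1
    · rw [cj_mul, cj_iff.2 D.c₀, D.c₁, ← mul_assoc] at key; exact absurd (mul_eq_left.1 key) F.A.ne1
  have hl0 : InU z a (l₀⁻¹ * (g * l₀ * g⁻¹)) := by
    refine (forms _ (F.E1_conj hg D.h₀) ?_).resolve_left fun h => D.n₀ ?_
    · rw [gl _ (F.E1_conj hg D.h₀),
        show g * m * g⁻¹ * (g * l₀ * g⁻¹) * (g * m * g⁻¹)⁻¹ = g * (m * l₀ * m⁻¹) * g⁻¹ by group,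
        cj_iff.2 D.c₀]
    · rw [show l₀ = g⁻¹ * (g * l₀ * g⁻¹) * g⁻¹⁻¹ by group, F.U_conj (F.C_inv hg) h]; exact h
  refine ⟨hmU, hl0, ?_⟩
  have hq1 := F.E1_conj hg D.h₁
  rcases F.cosets D.h₀ D.h₁ D.n₀ D.n₁ (F.l_diff D) hq1 with h | h | h | h
  · exact absurd (by
      rw [show l₁ = g⁻¹ * (g * l₁ * g⁻¹) * g⁻¹⁻¹ by group, F.U_conj (F.C_inv hg) h]; exact h) D.n₁
  · exfalso
    have := F.U_move (F.C_inv hg) (F.U_trans (F.U_symm hl0) h)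
    rw [show g⁻¹ * (g * l₀ * g⁻¹) * g⁻¹⁻¹ = l₀ by group,
      show g⁻¹ * (g * l₁ * g⁻¹) * g⁻¹⁻¹ = l₁ by group] at this
    exact F.l_diff D this
  · exfalso
    -- then `g` is trivial, so `x` and its inverse agree
    have gt : Triv z a E g := by
      intro q hq
      have st : ∀ p r, InE1 a E r → InU z a (p⁻¹ * (g * p * g⁻¹)) → InU z a (r⁻¹ * (g * r * g⁻¹)) →
          InU z a ((p * r)⁻¹ * (g * (p * r) * g⁻¹)) := by
        intro p r hr hp hr'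
        rw [cj_mul, show (p * r)⁻¹ * (g * p * g⁻¹ * (g * r * g⁻¹)) =
          r⁻¹ * (p⁻¹ * (g * p * g⁻¹)) * r * (r⁻¹ * (g * r * g⁻¹)) by group,
          show r⁻¹ * (p⁻¹ * (g * p * g⁻¹)) * r = p⁻¹ * (g * p * g⁻¹) by
            rw [mul_assoc r⁻¹, ← F.U_comm hp (F.E1_C hr)]; group]
        exact F.U_mul hp hr'
      obtain ⟨w, hw, hv⟩ := F.E1_forms D hq
      have hv' : InU z a ((w⁻¹ * q)⁻¹ * (g * (w⁻¹ * q) * g⁻¹)) := by
        rw [gU _ hv, inv_mul_cancel]; exact Or.inl rfl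
      have e := st w (w⁻¹ * q) (F.U_E hv) (by
        rcases hw with rfl | rfl | rfl | rfl
        exacts [Or.inl (by group), hl0, h, st l₀ l₁ D.h₁ hl0 h]) hv'
      rwa [mul_inv_cancel_left] at e
    set x' := g * x * g⁻¹ with hx'
    have hxx : InT z a ψ (x * x') := ⟨F.C_mul D.X.C (F.C_conj hg D.X.C), by
      rw [F.B.ψ_mul _ _ D.X.C.1 (F.C_conj hg D.X.C).1, F.B.ψ_conj hg.1 D.X.C.1]; exact h1⟩
    have hl := F.E1_conj D.X.C D.h₁
    have hl' := F.E1_conj (F.C_inv hg) D.h₁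
    -- `x * x` fixes the class of `l₁`
    have e1 : InU z a ((x * l₁ * x⁻¹)⁻¹ * (x' * l₁ * x'⁻¹)) := by
      have a1 : InU z a ((g⁻¹ * l₁ * g⁻¹⁻¹)⁻¹ * l₁) := by
        have := gt _ hl'
        rwa [show g * (g⁻¹ * l₁ * g⁻¹⁻¹) * g⁻¹ = l₁ by group] at this
      have a2 : InU z a ((x * l₁ * x⁻¹)⁻¹ * (x * (g⁻¹ * l₁ * g⁻¹⁻¹) * x⁻¹)) := F.U_move D.X.C (F.U_symm a1)
      have a3 := gt _ (F.E1_conj D.X.C hl')
      have := F.U_trans a2 a3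
      rwa [show g * (x * (g⁻¹ * l₁ * g⁻¹⁻¹) * x⁻¹) * g⁻¹ = x' * l₁ * x'⁻¹ by simp only [x']; group] at this
    have e2 := F.U_trans (F.U_move D.X.C e1)
      (by rw [← cj_cj x x' l₁]; exact F.U_symm (F.T_triv hxx l₁ D.h₁) : InU z a ((x * (x' * l₁ * x'⁻¹) * x⁻¹)⁻¹ * l₁))
    have e3 := F.U_move D.X.C e2
    rw [show x * (x * (x * l₁ * x⁻¹) * x⁻¹) * x⁻¹ = x ^ 3 * l₁ * (x ^ 3)⁻¹ by
      simp only [pow_succ, pow_zero, one_mul]; group, D.X.x3] at e3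
    simp only [one_mul, inv_one, mul_one] at e3
    exact F.x_moves D.X D.h₁ D.n₁ e3
  · exact h

/-- Some element exchanges the two classes of involutions. -/
theorem exists_g : ∃ g, InC z a g ∧ ψ g * ψ x * (ψ g)⁻¹ = (ψ x)⁻¹ ∧
    InU z a (m⁻¹ * (g * m * g⁻¹)) ∧ InU z a (l₀⁻¹ * (g * l₀ * g⁻¹)) ∧
    InU z a ((l₀ * l₁)⁻¹ * (g * l₁ * g⁻¹)) := by
  obtain ⟨γ, h1, h2⟩ := exists_swap (ψ x) (ψ m) D.X.θ3 D.X.θ1 (F.ψm D).1 (F.ψm D).2
  obtain ⟨g, hg, rfl⟩ := F.ψ_surjC γ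
  exact ⟨g, hg, h1, F.swap_classes D hg (by rw [h1, mul_inv_cancel]; decide) h2⟩

/-- The involutions of `T` outside `⟨z, a⟩` form one class. -/
theorem invol_conj {t : G} (ht : InT z a ψ t) (h2 : t * t = 1) (hU : ¬ InU z a t) :
    ∃ c, InC z a c ∧ c * (m * l₁) * c⁻¹ = t := by
  obtain ⟨hmm, y, hy, w, hw, u, hu, rfl⟩ := F.invol_cases D ht h2 hU
  have shift : ∀ u, InU z a u → ∃ c, InC z a c ∧ c * (m * l₁) * c⁻¹ = m * l₁ * u := by
    have h1 : l₁ * (m * l₁) * l₁⁻¹ = m * l₁ * a := by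
      rw [← F.l1_m D]; group
    have h0 : l₀ * (m * l₁) * l₀⁻¹ = m * l₁ * z := by
      rw [cj_mul, show l₀ * m * l₀⁻¹ = m from cj_iff.2 D.c₀.symm, F.l0_conj_l1 D, mul_assoc]
    intro u hu
    rcases hu with rfl | rfl | rfl | rfl
    · exact ⟨1, ⟨by simp, by simp⟩, by group⟩
    · exact ⟨l₀, F.E1_C D.h₀, h0⟩
    · exact ⟨l₁, F.E1_C D.h₁, h1⟩
    · refine ⟨l₀ * l₁, F.C_mul (F.E1_C D.h₀) (F.E1_C D.h₁), ?_⟩
      rw [cj_cj, h1, cj_mul, h0, show l₀ * a * l₀⁻¹ = a from cj_iff.2 D.h₀.2]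
      rw [mul_assoc (m * l₁) z, ← F.az]
  have hyC := F.Y_C D hy
  rcases hw with rfl | rfl
  · obtain ⟨c, hc, e⟩ := shift u hu
    exact ⟨y * c, F.C_mul hyC hc, by rw [cj_cj, e]⟩
  · obtain ⟨g, hg, -, hgm, hg0, hg1⟩ := F.exists_g D
    obtain ⟨v, hv, ev⟩ : ∃ v, InU z a v ∧ g * (m * l₁) * g⁻¹ = m * (l₀ * l₁) * v := by
      refine ⟨_, F.U_mul hgm hg1, ?_⟩
      have hc : (m⁻¹ * (g * m * g⁻¹)) * (l₀ * l₁) = (l₀ * l₁) * (m⁻¹ * (g * m * g⁻¹)) :=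
        (F.U_comm hgm (F.E1_C (F.E1_mul D.h₀ D.h₁))).symm
      calc g * (m * l₁) * g⁻¹ = m * ((m⁻¹ * (g * m * g⁻¹)) * (l₀ * l₁)) * ((l₀ * l₁)⁻¹ * (g * l₁ * g⁻¹)) := by group
        _ = _ := by rw [hc]; group
    obtain ⟨c, hc, e⟩ := shift (v * u) (F.U_mul hv hu)
    refine ⟨y * (g * c), F.C_mul hyC (F.C_mul hg hc), ?_⟩
    rw [cj_cj, cj_cj g c, e, cj_mul g, ev, F.U_conj hg (F.U_mul hv hu)]
    rw [show m * (l₀ * l₁) * v * (v * u) = m * (l₀ * l₁) * (v * v) * u by group, F.U_sq hv, mul_one]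

end Frame

end Cfsg.Agent.L34Aut
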