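import Cfsg.Agent.Lib.L34Aut.Action

/-!
The group `T`: a distinguished element `m` of `T \ E`, and the squares on the classes modulo `⟨z, a⟩`.
-/

set_option autoImplicit false
set_option linter.style.haveILetI false
set_option linter.unusedSectionVars false
set_option linter.unusedVariables false
set_option synthInstance.maxHeartbeats 400000
set_option synthInstance.maxSize 4000

namespace Cfsg.Agent.L34Aut

theorem exists_swap : ∀ θ σ : S4, θ ^ 3 = 1 → θ ≠ 1 → InV σ → σ ≠ 1 →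
    ∃ γ : S4, γ * θ * γ⁻¹ = θ⁻¹ ∧ γ * σ * γ⁻¹ = σ := by
  decide +kernel

universe u

variable {G : Type u} [Group G] [Finite G] {z a : G} {E : Subgroup G} {ψ : G → S4}

/-- The data of `T`. -/
structure TData (z a : G) (E : Subgroup G) (ψ : G → S4) (x m l₀ l₁ : G) : Prop where
  X : Three z a ψ x
  m_T : InT z a ψ m
  m_E : m ∉ E
  good : ∀ q, InE1 a E q → m * q * m⁻¹ = q ∨ m * q * m⁻¹ = q * a
  h₀ : InE1 a E l₀
  n₀ : ¬ InU z a l₀
  h₁ : InE1 a E l₁
  n₁ : ¬ InU z a l₁
  c₀ : m * l₀ = l₀ * m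
  c₁ : m * l₁ * m⁻¹ = l₁ * a

namespace Frame

variable (F : Frame z a E ψ)
include F

theorem good_unique {m k : G} (hm : InT z a ψ m) (g1 : ∀ q, InE1 a E q → m * q * m⁻¹ = q ∨ m * q * m⁻¹ = q * a)
    (hk : InE1 a E k) (g2 : ∀ q, InE1 a E q → m * k * q * (m * k)⁻¹ = q ∨ m * k * q * (m * k)⁻¹ = q * a) :
    InU z a k := by
  refine F.E1_center hk fun q hq => ?_
  by_contra hne
  have e := (F.B.conjE hk.1 hq.1).resolve_left fun e => hne (cj_iff.1 e)
  have e2 := g2 q hq
  rw [cj_cj, e, cj_mul, cj_iff.2 hm.1.1] at e2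
  have hza : ∀ w : G, q * w = q → w = 1 := fun w h => mul_eq_left.1 h
  rcases g1 q hq with h | h <;> rw [h] at e2 <;> rcases e2 with e2 | e2
  · exact F.B.z1 (mul_eq_left.1 e2)
  · exact F.A.nez (mul_left_cancel e2).symm
  · exact (F.B.nci_mul_z F.A).ne1 (mul_eq_left.1 ((mul_assoc q a z).symm.trans e2))
  · exact F.B.z1 (mul_eq_left.1 e2)

theorem exists_data : ∃ x m l₀ l₁, TData z a E ψ x m l₀ l₁ := by
  obtain ⟨x, hx⟩ := F.exists_x
  obtain ⟨i, hi, j, hj, hij⟩ := F.E1_nonabelian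
  have hiU : ¬ InU z a i := fun h => hij (F.U_comm h (F.E1_C hj)).symm
  have hjU : ¬ InU z a j := fun h => hij (F.U_comm h (F.E1_C hi))
  have hijU : ¬ InU z a (i⁻¹ * j) := fun h => hij (by
    have h' := F.U_comm h (F.E1_C hi)
    calc i * j = i * (i * (i⁻¹ * j)) := by group
      _ = i * ((i⁻¹ * j) * i) := by rw [h']
      _ = j * i := by group)
  obtain ⟨σ, hσ, hσ1⟩ : ∃ σ : S4, InV σ ∧ σ ≠ 1 := ⟨Equiv.swap 0 1 * Equiv.swap 2 3, by decide +kernel,
    by decide +kernel⟩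
  obtain ⟨t, htC, htσ⟩ := F.ψ_surjC σ
  have ht : InT z a ψ t := ⟨htC, htσ ▸ hσ⟩
  have htE : t ∉ E := fun h => hσ1 (htσ ▸ (F.B.ψ_ker t htC.1).2 h)
  -- adjust the values on the two generators
  have adj : ∀ s, InT z a ψ s → s ∉ E → ∀ p r, InE1 a E p → InE1 a E r → p * r ≠ r * p →
      ∃ k, (k = 1 ∨ k = r) ∧ (s * k * p * (s * k)⁻¹ = p ∨ s * k * p * (s * k)⁻¹ = p * a) := by
    intro s hs hsE p r hp hr hne
    have e : InU z a (p⁻¹ * (s * p * s⁻¹)) := F.T_triv hs p hp
    set u := p⁻¹ * (s * p * s⁻¹) with hu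
    have hu' : s * p * s⁻¹ = p * u := by rw [hu]; group
    rcases e with e | e | e | e
    · exact ⟨1, Or.inl rfl, Or.inl (by rw [mul_one, hu', e, mul_one])⟩
    · refine ⟨r, Or.inr rfl, Or.inl ?_⟩
      rw [cj_cj, (F.B.conjE hr.1 hp.1).resolve_left fun h => hne (cj_iff.1 h).symm, cj_mul, hu', e,
        cj_iff.2 hs.1.1, F.B.z_mul_z]
    · exact ⟨1, Or.inl rfl, Or.inr (by rw [mul_one, hu', e])⟩
    · refine ⟨r, Or.inr rfl, Or.inr ?_⟩
      rw [cj_cj, (F.B.conjE hr.1 hp.1).resolve_left fun h => hne (cj_iff.1 h).symm, cj_mul, hu', e,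
        cj_iff.2 hs.1.1]
      rw [show p * (a * z) * z = p * a * (z * z) by group, F.B.zz, mul_one]
  obtain ⟨k1, hk1, g1⟩ := adj t ht htE i j hi hj hij
  have hk1E : InE1 a E k1 := by rcases hk1 with rfl | rfl; exacts [⟨E.one_mem, by simp⟩, hj]
  have ht1 := F.T_mul ht (F.E1_T hk1E)
  have ht1E : t * k1 ∉ E := fun h => htE (by simpa using E.mul_mem h (E.inv_mem hk1E.1))
  obtain ⟨k2, hk2, g2⟩ := adj _ ht1 ht1E j i hj hi (Ne.symm hij)
  have hk2E : InE1 a E k2 := by rcases hk2 with rfl | rfl; exacts [⟨E.one_mem, by simp⟩, hi]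
  set m := t * k1 * k2 with hm
  have hmT : InT z a ψ m := F.T_mul ht1 (F.E1_T hk2E)
  have hmE : m ∉ E := fun h => ht1E (by simpa [hm] using E.mul_mem h (E.inv_mem hk2E.1))
  have gi : m * i * m⁻¹ = i ∨ m * i * m⁻¹ = i * a := by
    rw [hm, cj_cj, show k2 * i * k2⁻¹ = i by rcases hk2 with rfl | rfl <;> group]
    exact g1
  have mU : ∀ u, InU z a u → m * u * m⁻¹ = u := fun u hu => F.U_conj hmT.1 hu
  have good : ∀ q, InE1 a E q → m * q * m⁻¹ = q ∨ m * q * m⁻¹ = q * a := by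
    have step : ∀ p q, InE1 a E q → (m * p * m⁻¹ = p ∨ m * p * m⁻¹ = p * a) →
        (m * q * m⁻¹ = q ∨ m * q * m⁻¹ = q * a) →
        (m * (p * q) * m⁻¹ = p * q ∨ m * (p * q) * m⁻¹ = p * q * a) := by
      intro p q hq hp hq'
      rw [cj_mul]
      rcases hp with e | e <;> rcases hq' with e' | e' <;> rw [e, e']
      · exact Or.inl rfl
      · exact Or.inr (mul_assoc _ _ _).symm
      · exact Or.inr (by rw [mul_assoc p a q, ← hq.2, ← mul_assoc])
      · left
        calc p * a * (q * a) = p * (a * (q * a)) := mul_assoc _ _ _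
          _ = p * q := by rw [hq.2, ← mul_assoc a a, F.A.sq, one_mul]
    intro q hq
    rcases F.cosets hi hj hiU hjU hijU hq with h | h | h | h
    · exact Or.inl (mU q h)
    · have := step i _ (F.U_E h) gi (Or.inl (mU _ h))
      rwa [mul_inv_cancel_left] at this
    · have := step j _ (F.U_E h) g2 (Or.inl (mU _ h))
      rwa [mul_inv_cancel_left] at this
    · have := step (i * j) _ (F.U_E h) (step i j hj gi g2) (Or.inl (mU _ h))
      rwa [mul_inv_cancel_left] at this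
  -- some value is non-trivial
  have hnon : ¬ (m * i * m⁻¹ = i ∧ m * j * m⁻¹ = j) := by
    rintro ⟨ei, ej⟩
    have hc : ∀ q, InE1 a E q → m * q * m⁻¹ = q := by
      intro q hq
      rcases F.cosets hi hj hiU hjU hijU hq with h | h | h | h
      · exact mU q h
      · rw [show q = i * (i⁻¹ * q) by group, cj_mul, ei, mU _ h]
      · rw [show q = j * (j⁻¹ * q) by group, cj_mul, ej, mU _ h]
      · rw [show q = i * j * ((i * j)⁻¹ * q) by group, cj_mul, cj_mul m i j, ei, ej, mU _ h]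
    obtain ⟨b, hb, hba⟩ := F.exists_b
    have hba' := (F.B.conjE hb F.A.mem).resolve_left fun e => hba (cj_iff.1 e)
    have hbm := F.B.norm m hmT.1.1 b hb
    have hsE1 : InE1 a E (b⁻¹ * (m * b * m⁻¹)) := by
      refine ⟨E.mul_mem (E.inv_mem hb) hbm, cj_iff.1 ?_⟩
      rw [cj_cj, cj_cj (m * b), cj_cj m b, show m⁻¹ * a * m⁻¹⁻¹ = a from F.U_conj (F.C_inv hmT.1) (Or.inr (Or.inr (Or.inl rfl))),
        hba', cj_mul m a z, cj_iff.2 hmT.1.2, cj_iff.2 hmT.1.1, ← hba']
      group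
    set s := b⁻¹ * (m * b * m⁻¹) with hs
    have hbs : m * b * m⁻¹ = b * s := by rw [hs]; group
    have hsU : InU z a s := by
      refine F.E1_center hsE1 fun q hq => cj_iff.1 ?_
      have hbq := F.B.conjE hb hq.1
      have : (b * s) * q * (b * s)⁻¹ = b * q * b⁻¹ := by
        have e : m * (b * q * b⁻¹) * m⁻¹ = b * q * b⁻¹ := by
          rcases hbq with h | h <;> rw [h]
          · exact hc q hq
          · exact hc _ (F.E1_mul hq (F.U_E (Or.inr (Or.inl rfl))))
        calc b * s * q * (b * s)⁻¹ = m * b * m⁻¹ * (m * q * m⁻¹) * (m * b * m⁻¹)⁻¹ := by rw [hbs, hc q hq]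
          _ = m * (b * q * b⁻¹) * m⁻¹ := by group
          _ = _ := e
      rw [cj_cj] at this
      exact cj_inj this
    have hb2 : b * s * (b * s) = b * b := by
      rw [← hbs, ← cj_mul]
      rcases F.B.sq b hb with e | e <;> rw [e]
      · group
      · exact cj_iff.2 hmT.1.1
    have hs' : s = 1 ∨ s = z := by
      have hc' : s * b = b * s := by
        have : b * s * (b * s) * s⁻¹ = b * b * s⁻¹ := by rw [hb2]
        refine (mul_left_cancel (a := b) ?_)
        calc b * (s * b) = b * s * (b * s) * s⁻¹ := by group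
          _ = b * b * s⁻¹ := this
          _ = b * (b * s) := by rw [inv_sq (F.U_sq hsU), mul_assoc]
      rcases hsU with h | h | h | h
      exacts [Or.inl h, Or.inr h, absurd (h ▸ hc').symm hba, absurd (by
        rw [h] at hc'
        refine mul_right_cancel (b := z) ?_
        calc b * a * z = b * (a * z) := mul_assoc _ _ _
          _ = a * z * b := hc'.symm
          _ = a * b * z := by rw [mul_assoc, ← F.B.Ez b hb, ← mul_assoc]) hba]
    have hself : ∀ c, InC z a c → (∀ q, InE1 a E q → c * q * c⁻¹ = q) → c * b * c⁻¹ = b → c ∈ E := by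
      intro c hcC hcq hcb
      refine F.B.self c hcC.1 fun q hq => cj_iff.1 ?_
      by_cases hqa : q * a = a * q
      · exact hcq q ⟨hq, hqa⟩
      · have hbq : InE1 a E (b * q) := by
          refine ⟨E.mul_mem hb hq, cj_iff.1 ?_⟩
          rw [cj_cj, (F.B.conjE hq F.A.mem).resolve_left fun e => hqa (cj_iff.1 e), cj_mul, hba',
            cj_iff.2 (F.B.Ez b hb), F.B.z_mul_z]
        rw [show q = b⁻¹ * (b * q) by group, cj_mul, hcq _ hbq,
          show c * b⁻¹ * c⁻¹ = (c * b * c⁻¹)⁻¹ by group, hcb]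
    rcases hs' with e | e <;> rw [e] at hbs
    · exact hmE (hself m hmT.1 hc (hbs.trans (mul_one b)))
    · refine hmE ?_
      have hma : m * a ∈ E := hself (m * a) (F.C_mul hmT.1 (F.E1_C (F.U_E (Or.inr (Or.inr (Or.inl rfl))))))
        (fun q hq => by rw [cj_cj, cj_iff.2 hq.2.symm, hc q hq])
        (by
          rw [cj_cj, (F.B.conjE F.A.mem hb).resolve_left fun e => hba (cj_iff.1 e).symm, cj_mul, hbs,
            cj_iff.2 hmT.1.1, F.B.z_mul_z])
      simpa [mul_assoc, F.A.sq] using E.mul_mem hma F.A.mem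
  rcases gi with ei | ei
  · have ej := g2.resolve_left fun e => hnon ⟨ei, e⟩
    exact ⟨x, m, i, j, hx, hmT, hmE, good, hi, hiU, hj, hjU, cj_iff.1 ei, ej⟩
  · rcases g2 with ej | ej
    · exact ⟨x, m, j, i, hx, hmT, hmE, good, hj, hjU, hi, hiU, cj_iff.1 ej, ei⟩
    · refine ⟨x, m, i * j, i, hx, hmT, hmE, good, F.E1_mul hi hj, fun h => hijU ?_, hi, hiU, cj_iff.1 ?_, ei⟩
      · rw [show i⁻¹ = i * z from inv_eq_of_mul_eq_one_right (by rw [← mul_assoc, F.sq_eq_z hi hiU, F.B.zz]),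
          mul_assoc, ← F.B.Ez j hj.1, ← mul_assoc]
        exact F.U_mul h (Or.inr (Or.inl rfl))
      · rw [cj_mul, ei, ej]
        calc i * a * (j * a) = i * (a * (j * a)) := mul_assoc _ _ _
          _ = i * j := by rw [hj.2, ← mul_assoc a a, F.A.sq, one_mul]

end Frame

end Cfsg.Agent.L34Aut
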