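import Cfsg.Agent.Lib.L34Aut.Agrp
import Cfsg.Agent.S0111

/-!
Transfer: a normal subgroup of index four meeting the centraliser in the even part of `C(⟨z, a⟩)`.
-/

set_option autoImplicit false
set_option linter.style.haveILetI false
set_option linter.unusedSectionVars false
set_option linter.unusedVariables false
set_option synthInstance.maxHeartbeats 400000
set_option synthInstance.maxSize 4000

namespace Cfsg.Agent.L34Aut

open Equiv

theorem inD_xor : ∀ γ σ : S4, γ * γ = 1 → ¬ InV γ → InD γ σ → InV σ ∨ InV (σ * γ) := by decide +kernel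

universe u

variable {G : Type u} [Group G] [Finite G] {z a x m l₀ l₁ y g e : G} {E : Subgroup G} {ψ : G → S4}

/-- What transfer gives. -/
structure Res (z a : G) (E : Subgroup G) (ψ : G → S4) (g e : G) (G0 : Subgroup G) : Prop where
  eE : e ∈ E
  e2 : e * e = 1
  ea : e * a ≠ a * e
  eg : g * e = e * g
  normal : G0.Normal
  index : G0.index = 4
  odd : ∀ k, Odd (orderOf k) → k ∈ G0
  mem : ∀ h, h * z = z * h → (h ∈ G0 ↔ InC z a h ∧ Perm.sign (ψ h) = 1)

theorem mem_of_index_two_odd {H : Type u} [Group H] {N : Subgroup H} (hN : N.index = 2) {k : H}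
    (hk : Odd (orderOf k)) : k ∈ N := by
  obtain ⟨j, hj⟩ := hk
  have h : (k ^ (j + 1)) ^ 2 = k := by
    rw [← pow_mul, show (j + 1) * 2 = orderOf k + 1 by omega, pow_succ, pow_orderOf_eq_one, one_mul]
  rw [← h]; exact Subgroup.sq_mem_of_index_two hN _

theorem index_two_ncm {H : Type u} [Group H] {N : Subgroup H} (hN : N.index = 2) (p q : H) :
    p * q * p⁻¹ * q⁻¹ ∈ N := by
  simp only [Subgroup.mul_mem_iff_of_index_two hN, inv_mem_iff]
  tauto

namespace Frame

variable (F : Frame z a E ψ) (D : TData z a E ψ x m l₀ l₁) (P : Pair z a x ψ y g)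
include F D P

theorem gψ2 : ψ g * ψ g = 1 ∧ ¬ InV (ψ g) ∧ Perm.sign (ψ g) = -1 := inv_sq_one _ _ D.X.θ3 D.X.θ1 P.gψ

theorem exists_e : ∃ e, e ∈ E ∧ e * e = 1 ∧ e * a ≠ a * e ∧ g * e = e * g := by
  obtain ⟨e, u, he, he2, hea, hge, -⟩ := F.outer_pair P.gC.1 P.g2 (F.gψ2 D P).2.1
  exact ⟨e, he, he2.resolve_right (fun h => h P.gC.2), hea, hge⟩

/-- An element of `H` lies in `C` or becomes one after multiplication by `e`. -/
theorem e_shift (he : e ∈ E) (hea : e * a ≠ a * e) {h : G} (hh : h * z = z * h) (hC : ¬ InC z a h) :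
    InC z a (h * e) := by
  refine ⟨mul_comm' hh (F.B.Ez e he), cj_iff.1 ?_⟩
  have h1 : h * a * h⁻¹ = a * z := (F.fix h hh).resolve_left (fun e' => hC ⟨hh, cj_iff.1 e'⟩)
  have h2 : e * a * e⁻¹ = a * z := (F.B.conjE he F.A.mem).resolve_left (fun e' => hea (cj_iff.1 e'))
  rw [cj_cj, h2, cj_mul, h1, cj_iff.2 hh, F.B.z_mul_z]

/-- `e` has no conjugate in `C`. -/
theorem e_lone (hza : ∃ k, k * z * k⁻¹ = a) (he : e ∈ E) (he2 : e * e = 1) (hea : e * a ≠ a * e) (k : G) :
    ¬ InC z a (k * e * k⁻¹) := by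
  refine F.lone D hza (F.B.Ez e he) ?_ k
  intro j hj hje
  set t := j * z * j⁻¹ with ht
  have ht2 : t * t = 1 := by simp only [t]; rw [← cj_mul, F.B.zz]; group
  by_cases hU : InU z a t
  · rcases hU with h | h | h | h
    · exact absurd (conj_eq_one_iff.1 h) F.B.z1
    · exact h
    · exact absurd (by rw [← h]; exact hje.symm) hea
    · exfalso
      rw [h] at hje
      refine hea (mul_right_cancel (b := z) ?_)
      rw [mul_assoc, mul_assoc a e z, F.B.Ez e he, ← mul_assoc a z e]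
      exact hje.symm
  · exfalso
    have htE : t ∉ E := fun h => by
      have := F.sq_eq_z ⟨h, hj.1.2⟩ hU
      rw [ht2] at this; exact F.B.z1 this.symm
    exact F.b_moves D he hea hj htE (by rw [← hje, mul_inv_cancel_right, inv_mul_cancel]; exact Or.inl rfl)

/-- All conjugates of `z` in `T` outside `⟨z, a⟩` occur at once. -/
theorem no_z (hza : ∃ k, k * z * k⁻¹ = a) {j : G} (hj : InT z a ψ (j * z * j⁻¹))
    (hjU : ¬ InU z a (j * z * j⁻¹)) {t : G} (ht : InT z a ψ t) (ht2 : t * t = 1) :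
    t = 1 ∨ ∃ k, t = k * z * k⁻¹ := by
  obtain ⟨b, hbz, hba⟩ := F.exists_conj_az
  obtain ⟨k, hk⟩ := hza
  by_cases hU : InU z a t
  · rcases hU with rfl | rfl | rfl | rfl
    exacts [Or.inl rfl, Or.inr ⟨1, by group⟩, Or.inr ⟨k, hk.symm⟩, Or.inr ⟨b * k, by rw [cj_cj, hk, hba]⟩]
  · have hj2 : j * z * j⁻¹ * (j * z * j⁻¹) = 1 := by rw [← cj_mul, F.B.zz]; group
    obtain ⟨c, hc, e1⟩ := F.invol_conj D hj hj2 hjU
    obtain ⟨c', hc', e2⟩ := F.invol_conj D ht ht2 hU
    refine Or.inr ⟨c' * c⁻¹ * j, ?_⟩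
    rw [cj_cj (c' * c⁻¹) j, ← e1, cj_cj c', ← e2]
    group

/-- `g`, with centraliser in `C` of order `24`, is not conjugate to an element of `T` inside an odd-index part. -/
theorem g_notin_T (hm : m * m = a * z) (hza : ∃ k, k * z * k⁻¹ = a) {M : Subgroup G} (hM : M.Normal)
    (hT : ∀ t, InT z a ψ t → t ∈ M) (hy : y ∈ M) (hMH : ∀ h, h * z = z * h → h ∈ M → InC z a h)
    {k : G} (hk : InT z a ψ (k * g * k⁻¹)) : False := by
  classical
  haveI : Fact (Nat.Prime 2) := ⟨Nat.prime_two⟩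
  obtain ⟨hγ, hγV, -⟩ := F.gψ2 D P
  have hgT : ¬ InT z a ψ g := fun h => hγV h.2
  have gnz : ∀ j, g ≠ j * z * j⁻¹ := fun j e => hgT (by rw [e]; exact F.fused_T D (by rw [← e]; exact P.gC.1))
  obtain ⟨b, hbz, hba⟩ := F.exists_conj_az
  obtain ⟨j₀, hj₀⟩ := hza
  set t := k * g * k⁻¹ with ht
  have ht2 : t * t = 1 := by simp only [t]; rw [← cj_mul, P.g2]; group
  have htnz : ∀ j, t ≠ j * z * j⁻¹ := fun j e => gnz (k⁻¹ * j) (by
    rw [cj_cj, ← e]; simp only [t]; group)
  have htU : ¬ InU z a t := by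
    rintro (h | h | h | h)
    · refine hγV ?_
      have : g = 1 := by rwa [ht, conj_eq_one_iff] at h
      rw [this, F.B.ψ_one]; exact ⟨by simp, by simp⟩
    · exact htnz 1 (by rw [h]; group)
    · exact htnz j₀ (by rw [h, hj₀])
    · exact htnz (b * j₀) (by rw [h, cj_cj, hj₀, hba])
  obtain ⟨c, hc, ec⟩ := F.invol_conj D hk ht2 htU
  obtain ⟨hvT, hv2, hvE⟩ := F.v_facts D hm
  set v := m * l₁
  -- an elementary group of order sixteen centralising `g`
  obtain ⟨A, hA16, hA⟩ := F.exists_A D hm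
  set d := k⁻¹ * c with hd
  have egv : d * v * d⁻¹ = g := by rw [hd, cj_cj, ec]; simp only [t]; group
  let L : Subgroup G := M ⊓ Subgroup.centralizer ({g} : Set G)
  have hAL : A.map (MulAut.conj d).toMonoidHom ≤ L := by
    rintro _ ⟨w, hw, rfl⟩
    obtain ⟨hwT, -, hwv⟩ := F.InA_T D hm ((hA w).1 hw)
    refine ⟨hM.conj_mem _ (hT w hwT) d, mem_cent.2 ?_⟩
    show d * w * d⁻¹ * g = g * (d * w * d⁻¹)
    rw [← egv, ← cj_mul, ← cj_mul, hwv]
  have h16 : Nat.card (A.map (MulAut.conj d).toMonoidHom) = 16 := by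
    rw [Subgroup.card_map_of_injective (MulAut.conj d).injective, hA16]
  -- the two-group of `C` centralising `g`
  let Q : Subgroup G :=
    { carrier := {h | InC z a h ∧ InD (ψ g) (ψ h) ∧ h * g = g * h}
      one_mem' := ⟨⟨by simp, by simp⟩, by rw [F.B.ψ_one]; exact Or.inl (by decide), by simp⟩
      mul_mem' := fun {p q} hp hq => ⟨F.C_mul hp.1 hq.1, by
        rw [F.B.ψ_mul _ _ hp.1.1 hq.1.1]; exact inD_mul _ _ _ hγ hp.2.1 hq.2.1, mul_comm' hp.2.2 hq.2.2⟩
      inv_mem' := fun {p} hp => ⟨F.C_inv hp.1, by rw [F.B.ψ_inv hp.1.1]; exact inD_inv _ _ hγ hp.2.1,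
        inv_comm' hp.2.2⟩ }
  have hQU : ∀ h ∈ Q, InU z a h ∨ InU z a (g * h) := by
    rintro h ⟨hC, hD, hg⟩
    rcases inD_xor _ _ hγ hγV hD with hV | hV
    · exact Or.inl (P.gT h ⟨hC, hV⟩ hg.symm)
    · refine Or.inr (P.gT _ ⟨F.C_mul P.gC hC, ?_⟩ (comm_mul rfl hg.symm))
      rw [← hg, F.B.ψ_mul _ _ hC.1 P.gC.1]; exact hV
  have hQL : Q ≤ L → ∀ R : Subgroup G, R ≤ L → IsPGroup 2 R → Q ≤ R → Nat.card R ≤ 8 := by
    intro hle R hR hp hQR
    have hQ8 : Nat.card Q ≤ 8 := by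
      haveI := Fintype.ofFinite G
      let f : {u : G // InU z a u} ⊕ {u : G // InU z a u} → G := Sum.elim (fun u => u.1) (fun u => g * u.1)
      have hs : (Q : Set G) ⊆ Set.range f := by
        intro h hh
        rcases hQU h hh with h1 | h1
        · exact ⟨Sum.inl ⟨h, h1⟩, rfl⟩
        · exact ⟨Sum.inr ⟨g * h, h1⟩, by show g * (g * h) = h; rw [← mul_assoc, P.g2, one_mul]⟩
      refine (Nat.card_mono (Set.toFinite _) hs).trans ?_
      refine (Finite.card_range_le f).trans ?_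
      rw [Nat.card_sum, F.card_U]
    suffices R ≤ Q from (Subgroup.card_le_of_le this).trans hQ8
    by_contra hne
    have hlt : Q.subgroupOf R < ⊤ := lt_top_iff_ne_top.2 fun e => hne (Subgroup.subgroupOf_eq_top.1 e)
    haveI := hp.isNilpotent
    obtain ⟨⟨r, hrR⟩, hr, hrn⟩ := SetLike.exists_of_lt (Group.normalizerCondition_of_isNilpotent (G := R) _ hlt)
    refine hrn ?_
    rw [Subgroup.mem_subgroupOf]
    have hconj : ∀ q ∈ Q, r * q * r⁻¹ ∈ Q := fun q hq => by
      have := (Subgroup.mem_normalizer_iff.1 hr ⟨q, hQR hq⟩).1 (Subgroup.mem_subgroupOf.2 hq)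
      exact Subgroup.mem_subgroupOf.1 this
    obtain ⟨hrM, hrg⟩ := hR hrR
    have hrg' := mem_cent.1 hrg
    -- fixing one of `z, a, az` forces membership
    have fixz : ∀ s, s ∈ M → s * g = g * s → s * z = z * s → s ∈ Q := by
      intro s hsM hsg hsz
      have hsC := hMH s hsz hsM
      refine ⟨hsC, ?_, hsg⟩
      exact cent_swap _ _ _ D.X.θ3 D.X.θ1 P.gψ (by
        rw [← F.B.ψ_mul _ _ hsz P.gC.1, hsg, F.B.ψ_mul _ _ P.gC.1 hsz])
    have hyU : ∀ u, InU z a u → InU z a (y * u * y⁻¹) := by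
      rintro u (rfl | rfl | rfl | rfl)
      · left; group
      · rw [P.yz]; exact Or.inr (Or.inr (Or.inl rfl))
      · rw [P.ya]; exact Or.inr (Or.inr (Or.inr rfl))
      · rw [cj_mul, P.yz, P.ya, F.az, mul_assoc, F.A.sq, mul_one]; exact Or.inr (Or.inl rfl)
    have toz : ∀ u, InU z a u → u ≠ 1 → ∃ i : ℕ, y ^ i * u * (y ^ i)⁻¹ = z := by
      rintro u (rfl | rfl | rfl | rfl) h
      · exact absurd rfl h
      · exact ⟨0, by group⟩
      · refine ⟨2, ?_⟩
        rw [pow_two, cj_cj, P.ya, cj_mul, P.yz, P.ya, F.az, mul_assoc, F.A.sq, mul_one]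
      · refine ⟨1, ?_⟩
        rw [pow_one, cj_mul, P.yz, P.ya, F.az, mul_assoc, F.A.sq, mul_one]
    have fixu : ∀ s, s ∈ M → s * g = g * s → ∀ u, InU z a u → u ≠ 1 → s * u = u * s →
        ∀ w, InU z a w → s * w = w * s := by
      intro s hsM hsg u hu hu1 hsu w hw
      obtain ⟨i, hi⟩ := toz u hu hu1
      have hyi : y ^ i * g = g * y ^ i := ((show Commute g y from P.gy).symm.pow_left i).eq
      have hs' : y ^ i * s * (y ^ i)⁻¹ ∈ Q := by
        refine fixz _ (M.mul_mem (M.mul_mem (M.pow_mem hy i) hsM) (M.inv_mem (M.pow_mem hy i))) ?_ ?_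
        · exact mul_comm' (mul_comm' hyi hsg) (inv_comm' hyi)
        · rw [← hi, ← cj_mul, ← cj_mul, hsu]
      have hw' : InU z a (y ^ i * w * (y ^ i)⁻¹) := by
        clear hi hs'
        induction i with
        | zero => rwa [pow_zero, inv_one, one_mul, mul_one]
        | succ n ih => rw [pow_succ', cj_cj]; exact hyU _ (ih ((show Commute g y from P.gy).symm.pow_left n).eq)
      have := F.U_comm hw' hs'.1
      rw [← cj_mul, ← cj_mul] at this
      exact cj_inj this
    -- where `r` sends `z` and `a`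
    have img : ∀ u, InU z a u → u ≠ 1 → InU z a (r * u * r⁻¹) := by
      intro u hu hu1
      have huC := F.E1_C (F.U_E hu)
      have huQ : u ∈ Q := ⟨huC, by rw [(F.B.ψ_ker u huC.1).2 (F.U_E hu).1]; exact Or.inl (by decide),
        (F.U_comm hu P.gC).symm⟩
      obtain ⟨i, hi⟩ := toz u hu hu1
      have h3 := hconj u huQ
      have e : r * (y ^ i)⁻¹ * z * (r * (y ^ i)⁻¹)⁻¹ = r * u * r⁻¹ := by rw [← hi]; group
      exact P.gT _ (e ▸ F.fused_T D (by rw [e]; exact h3.1.1)) h3.2.2.symm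
    suffices hrz : r * z = z * r from fixz r hrM hrg' hrz
    by_contra hrz
    have nofix : ∀ u, InU z a u → u ≠ 1 → r * u * r⁻¹ ≠ u := fun u hu hu1 e =>
      hrz (fixu r hrM hrg' u hu hu1 (cj_iff.1 e) z (Or.inr (Or.inl rfl)))
    have haz1 : a * z ≠ 1 := (F.B.nci_mul_z F.A).ne1
    obtain ⟨n, hn⟩ := hp ⟨r, hrR⟩
    have hn' : r ^ 2 ^ n = 1 := by simpa using congrArg Subtype.val hn
    -- the three points are permuted without fixed point
    have cyc : ∀ u w v' : G, InU z a u → u ≠ 1 → r * u * r⁻¹ = w → r * w * r⁻¹ = v' →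
        r * v' * r⁻¹ = u → False := by
      intro u w v' hu hu1 e1 e2 e3
      have h3 : r ^ 3 * u * (r ^ 3)⁻¹ = u := by
        rw [show r ^ 3 = r * r * r by simp [pow_succ], cj_cj, e1, cj_cj, e2, e3]
      have hr3Q : r ^ 3 ∈ Q := fixz _ (M.pow_mem hrM 3) ((show Commute r g from hrg').pow_left 3).eq
        (fixu _ (M.pow_mem hrM 3) ((show Commute r g from hrg').pow_left 3).eq u hu hu1 (cj_iff.1 h3) z
          (Or.inr (Or.inl rfl)))
      have h6 : r ^ 6 = 1 := by
        rw [show r ^ 6 = r ^ 3 * r ^ 3 from pow_add r 3 3]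
        rcases hQU _ hr3Q with h | h
        · exact F.U_sq h
        · have e : r ^ 3 = g * (g * r ^ 3) := by rw [← mul_assoc, P.g2, one_mul]
          rw [e, F.sq_mul_U D P.gC h, P.g2]
      have h2 : r ^ 2 = 1 := by
        refine orderOf_dvd_iff_pow_eq_one.1 ?_
        have d1 := orderOf_dvd_iff_pow_eq_one.2 h6
        have d2 := orderOf_dvd_iff_pow_eq_one.2 hn'
        have : Nat.gcd 6 (2 ^ n) ∣ 2 := by
          rcases n with _ | n
          · simp
          · have : Nat.Coprime 3 (2 ^ n) := (Nat.coprime_primes Nat.prime_three Nat.prime_two).2 (by omega) |>.pow_right n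
            rw [pow_succ', show (6 : ℕ) = 2 * 3 from rfl, Nat.gcd_mul_left, this.gcd_eq_one]
        exact (Nat.dvd_gcd d1 d2).trans this
      have : v' = u := by rw [← e2, ← e1, ← cj_cj, ← pow_two, h2]; group
      rw [this] at e3
      exact nofix u hu hu1 e3
    have hazA : InU z a (a * z) := Or.inr (Or.inr (Or.inr rfl))
    have ne_one : ∀ u, u ≠ 1 → r * u * r⁻¹ ≠ 1 := fun u hu e => hu (conj_eq_one_iff.1 e)
    have i1 := img z (Or.inr (Or.inl rfl)) F.B.z1
    have i2 := img a (Or.inr (Or.inr (Or.inl rfl))) F.A.ne1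
    have n1 := nofix z (Or.inr (Or.inl rfl)) F.B.z1
    have n2 := nofix a (Or.inr (Or.inr (Or.inl rfl))) F.A.ne1
    have n3 := nofix _ hazA haz1
    rcases i1 with h | h | h | h
    · exact ne_one z F.B.z1 h
    · exact n1 h
    · rcases i2 with h' | h' | h' | h'
      · exact ne_one a F.A.ne1 h'
      · exact n3 (by rw [cj_mul, h', h, F.az])
      · exact n2 h'
      · exact cyc z a (a * z) (Or.inr (Or.inl rfl)) F.B.z1 h h'
          (by rw [cj_mul, h, h', F.az, mul_assoc, F.A.sq, mul_one])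
    · rcases i2 with h' | h' | h' | h'
      · exact ne_one a F.A.ne1 h'
      · exact cyc a z (a * z) (Or.inr (Or.inr (Or.inl rfl))) F.A.ne1 h' h
          (by rw [cj_mul, h', h, F.az, ← mul_assoc, F.B.zz, one_mul])
      · exact n2 h'
      · exact F.A.nez (cj_inj (h'.trans h.symm))
  have hQle : Q ≤ L := by
    intro h hh
    refine ⟨?_, mem_cent.2 hh.2.2⟩
    rcases hQU h hh with h1 | h1
    · exact hT _ (F.U_T h1)
    · have hgM : g ∈ M := by
        rw [← egv]; exact hM.conj_mem _ (hT v hvT) d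
      have := M.mul_mem (M.inv_mem hgM) (hT _ (F.U_T h1))
      rwa [inv_mul_cancel_left] at this
  -- compare with a Sylow subgroup
  have two : ∀ R : Subgroup G, R ≤ L → IsPGroup 2 R → ∀ S : Sylow 2 L, Nat.card R ∣ Nat.card (S : Subgroup L) := by
    intro R hR hp S
    obtain ⟨S', hS'⟩ := (hp.comap_of_injective L.subtype L.subtype_injective).exists_le_sylow
    rw [Nat.card_congr (Sylow.equiv S S').toEquiv, ← Nat.card_congr (Subgroup.subgroupOfEquivOfLe hR).toEquiv]
    exact Subgroup.card_dvd_of_le hS'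
  have hQp : IsPGroup 2 Q := by
    intro ⟨q, hq⟩
    refine ⟨1, Subtype.ext ?_⟩
    show q ^ 2 ^ 1 = 1
    rw [pow_one, pow_two]
    rcases hQU q hq with h | h
    · exact F.U_sq h
    · have e : q = g * (g * q) := by rw [← mul_assoc, P.g2, one_mul]
      rw [e, F.sq_mul_U D P.gC h, P.g2]
  obtain ⟨S, hS⟩ := (hQp.comap_of_injective L.subtype L.subtype_injective).exists_le_sylow
  have hR := hQL hQle ((S : Subgroup L).map L.subtype) (by rintro _ ⟨q, -, rfl⟩; exact q.2) (S.isPGroup'.map _)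
    (fun q hq => ⟨⟨q, hQle hq⟩, hS (Subgroup.mem_subgroupOf.2 hq), rfl⟩)
  rw [Subgroup.card_map_of_injective L.subtype_injective] at hR
  have hd2 := two _ hAL (IsPGroup.of_card (n := 4) h16) S
  rw [h16] at hd2
  have := Nat.le_of_dvd Nat.card_pos hd2
  omega

/-- The subgroup of index four. -/
theorem exists_res (hm : m * m = a * z) (hza : ∃ k, k * z * k⁻¹ = a) :
    ∃ e G0, Res z a E ψ g e G0 := by
  classical
  haveI : Fact (Nat.Prime 2) := ⟨Nat.prime_two⟩
  obtain ⟨hγ, hγV, hγs⟩ := F.gψ2 D P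
  obtain ⟨e, he, he2, hea, hge⟩ := F.exists_e D P
  have hez := F.B.Ez e he
  have heC : ¬ InC z a e := fun h => hea h.2
  have hψe : ψ e = 1 := (F.B.ψ_ker e hez).2 he
  have he1 : e ≠ 1 := fun h => hea (by rw [h]; simp)
  obtain ⟨S, hS256, hS⟩ := F.exists_S D hγ hγV
  obtain ⟨T, hT64, hT⟩ := F.exists_T D
  have heS : e ∈ (S : Subgroup G) := (hS e).2 ⟨hez, by rw [hψe]; exact Or.inl (by decide)⟩
  have hgS : g ∈ (S : Subgroup G) := (hS g).2 ⟨P.gC.1, Or.inr (by rw [hγ]; decide)⟩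
  have hTS : T ≤ (S : Subgroup G) := fun t ht => (hS t).2 ⟨((hT t).1 ht).1.1, Or.inl ((hT t).1 ht).2⟩
  -- first step
  obtain ⟨M, hMn, hM, heM⟩ : ∃ M : Subgroup G, M.Normal ∧ M.index = 2 ∧ e ∉ M := by
    let K : Subgroup G :=
      { carrier := {h | h ∈ (S : Subgroup G) ∧ InC z a h}
        one_mem' := ⟨one_mem _, by simp, by simp⟩
        mul_mem' := fun hp hq => ⟨mul_mem hp.1 hq.1, F.C_mul hp.2 hq.2⟩
        inv_mem' := fun hp => ⟨inv_mem hp.1, F.C_inv hp.2⟩ }
    have hK : K.relIndex (S : Subgroup G) = 2 := by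
      refine Subgroup.relIndex_eq_two_iff.2 ⟨e, heS, fun h hh => ?_⟩
      by_cases hC : InC z a h
      · refine Or.inr ⟨⟨hh, hC⟩, fun h' => heC ?_⟩
        have := F.C_mul (F.C_inv hC) h'.2
        rwa [inv_mul_cancel_left] at this
      · exact Or.inl ⟨⟨mul_mem hh heS, F.e_shift D P he hea ((hS h).1 hh).1 hC⟩, fun h' => hC h'.2⟩
    rcases Cfsg.Agent.S0111.result S K (fun _ h => h.1) hK e
      (orderOf_eq_prime (by rw [pow_two, he2]) he1) heS (fun h => heC h.2) with h | ⟨k, hk⟩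
    · exact h
    · exact absurd hk.2 (F.e_lone D P hza he he2 hea k)
  have three_mem : ∀ {N : Subgroup G}, N.index = 2 → ∀ w : G, w ^ 3 = 1 → w ∈ N := fun hN w hw =>
    mem_of_index_two_odd hN (Odd.of_dvd_nat (by decide) (orderOf_dvd_of_pow_eq_one hw))
  have hxM : x ∈ M := three_mem hM x D.X.x3
  have hyM : y ∈ M := three_mem hM y P.y3
  have hzM : z ∈ M := by
    have h1 := index_two_ncm hM l₀ l₁
    rw [F.l0_conj_l1 D, mul_assoc, F.B.Ez _ (E.inv_mem D.h₁.1) |>.symm, ← mul_assoc, mul_inv_cancel, one_mul] at h1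
    exact h1
  have hTM : ∀ t, InT z a ψ t → t ∈ M := fun t ht => F.T_le D hMn hza hxM hzM ht
  -- the involution to remove
  obtain ⟨w, hwM, hwz, hw2, hψw, hwT, hwe⟩ : ∃ w, w ∈ M ∧ w * z = z * w ∧ w * w = 1 ∧ ψ w = ψ g ∧
      (∀ k, k ∈ M → ¬ InT z a ψ (k * w * k⁻¹)) ∧ (w = g ∨ w = g * e ∧ g ∉ M) := by
    by_cases hgM : g ∈ M
    · refine ⟨g, hgM, P.gC.1, P.g2, rfl, ?_, Or.inl rfl⟩
      refine fun k _ hk => F.g_notin_T D P hm hza hMn hTM hyM ?_ hk
      intro h hh hhM
      by_contra hC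
      refine heM ?_
      have hheC := F.e_shift D P he hea hh hC
      have : h * e ∈ M := by
        set s := h * e
        have hp : ∀ p, p ∈ M → InC z a p → InV (ψ s * ψ p) → s ∈ M := fun p hpM hpC hV => by
          have := M.mul_mem (hTM (s * p) ⟨F.C_mul hheC hpC, by rw [F.B.ψ_mul _ _ hheC.1 hpC.1]; exact hV⟩)
            (M.inv_mem hpM)
          rwa [mul_inv_cancel_right] at this
        have hxC := D.X.C
        have hxxC := F.C_mul hxC hxC
        have exx : ψ (x * x) = ψ x * ψ x := F.B.ψ_mul _ _ hxC.1 hxC.1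
        rcases even_three (ψ x) (ψ g) (ψ s) D.X.θ3 D.X.θ1 hγs with h | h | h | h | h | h
        · exact hTM s ⟨hheC, h⟩
        · exact hp x hxM hxC h
        · exact hp _ (M.mul_mem hxM hxM) hxxC (by rw [exx]; exact h)
        · exact hp g hgM P.gC h
        · exact hp _ (M.mul_mem hgM hxM) (F.C_mul P.gC hxC) (by rw [F.B.ψ_mul _ _ P.gC.1 hxC.1]; exact h)
        · exact hp _ (M.mul_mem hgM (M.mul_mem hxM hxM)) (F.C_mul P.gC hxxC) (by
            rw [F.B.ψ_mul _ _ P.gC.1 hxxC.1, exx]; exact h)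
      have := M.mul_mem (M.inv_mem hhM) this
      rwa [inv_mul_cancel_left] at this
    · set φ := g * e with hφ
      have hφz : φ * z = z * φ := mul_comm' P.gC.1 hez
      have hφ2 : φ * φ = 1 := by
        rw [hφ, show g * e * (g * e) = g * (e * g) * e by group, ← hge,
          show g * (g * e) * e = g * g * (e * e) by group, P.g2, he2, one_mul]
      have hφψ : ψ φ = ψ g := by rw [hφ, F.B.ψ_mul _ _ P.gC.1 hez, hψe, mul_one]
      have hφa : φ * a ≠ a * φ := fun h => heC ⟨hez, by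
        have := mul_comm' (inv_comm' P.gC.2) h
        rwa [hφ, inv_mul_cancel_left] at this⟩
      refine ⟨φ, (Subgroup.mul_mem_iff_of_index_two hM).2 (iff_of_false hgM heM), hφz, hφ2, hφψ, ?_,
        Or.inr ⟨rfl, hgM⟩⟩
      intro k _ hk
      refine F.lone D hza hφz ?_ k hk.1
      intro j hj hjφ
      by_cases hU : InU z a (j * z * j⁻¹)
      · rcases hU with h | h | h | h
        · exact absurd (conj_eq_one_iff.1 h) F.B.z1
        · exact h
        · exact absurd (by rw [← h]; exact hjφ.symm) hφa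
        · exfalso
          rw [h] at hjφ
          refine hφa (mul_right_cancel (b := z) ?_)
          rw [mul_assoc, mul_assoc a φ z, hφz, ← mul_assoc a z φ]
          exact hjφ.symm
      · exfalso
        rcases F.no_z D P hza hj hU hk (by rw [← cj_mul, hφ2]; group) with h | ⟨i, hi⟩
        · refine hγV ?_
          rw [← hφψ, conj_eq_one_iff.1 h, F.B.ψ_one]; exact ⟨by simp, by simp⟩
        · refine hγV ?_
          have e' : φ = k⁻¹ * i * z * (k⁻¹ * i)⁻¹ := by
            rw [cj_cj, ← hi]; group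
          rw [← hφψ, e']
          exact (F.fused_T D (by rw [← e']; exact hφz)).2
  -- second step
  have hw1 : w ≠ 1 := fun h => hγV (by rw [← hψw, h, F.B.ψ_one]; exact ⟨by simp, by simp⟩)
  set P1 : Subgroup G := (S : Subgroup G) ⊓ M with hP1
  have hwP : w ∈ P1 := ⟨(hS w).2 ⟨hwz, by rw [hψw]; exact Or.inr (by rw [hγ]; decide)⟩, hwM⟩
  have hTP : T ≤ P1 := fun t ht => ⟨hTS ht, hTM t ((hT t).1 ht)⟩
  have hMS : M.relIndex (S : Subgroup G) = 2 := by
    have hd : M.relIndex (S : Subgroup G) ∣ 2 := (M.relIndex_dvd_index_of_normal _).trans (dvd_of_eq hM)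
    rcases (Nat.dvd_prime Nat.prime_two).1 hd with h | h
    · exact absurd (Subgroup.relIndex_eq_one.1 h heS) heM
    · exact h
  have hP128 : Nat.card P1 = 128 := by
    have h := Subgroup.relIndex_mul_relIndex ⊥ P1 (S : Subgroup G) bot_le inf_le_left
    rw [Subgroup.relIndex_bot_left, Subgroup.relIndex_bot_left, hS256, Subgroup.inf_relIndex_left, hMS] at h
    omega
  have hM128 : Nat.card M = 128 * (S : Subgroup G).index := by
    have h1 := M.card_mul_index
    have h2 := (S : Subgroup G).card_mul_index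
    rw [hM] at h1; rw [hS256] at h2
    omega
  have hPp : IsPGroup 2 (P1.subgroupOf M) := IsPGroup.of_card (n := 7)
    ((Nat.card_congr (Subgroup.subgroupOfEquivOfLe inf_le_right).toEquiv).trans hP128)
  have hPi : ¬ 2 ∣ (P1.subgroupOf M).index := by
    intro h
    have h1 := (P1.subgroupOf M).card_mul_index
    rw [Nat.card_congr (Subgroup.subgroupOfEquivOfLe inf_le_right).toEquiv, hP128, hM128] at h1
    have : (P1.subgroupOf M).index = (S : Subgroup G).index := by omega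
    exact S.not_dvd_index (this ▸ h)
  have hTrel : (T.subgroupOf M).relIndex (P1.subgroupOf M) = 2 := by
    rw [Subgroup.relIndex_subgroupOf inf_le_right]
    have h := Subgroup.relIndex_mul_relIndex ⊥ T P1 bot_le hTP
    rw [Subgroup.relIndex_bot_left, Subgroup.relIndex_bot_left, hT64, hP128] at h
    show T.relIndex P1 = 2
    omega
  obtain ⟨N, hNn, hN, hwN⟩ : ∃ N : Subgroup M, N.Normal ∧ N.index = 2 ∧ (⟨w, hwM⟩ : M) ∉ N := by
    rcases Cfsg.Agent.S0111.result (hPp.toSylow hPi) (T.subgroupOf M)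
      (fun t ht => by rw [IsPGroup.toSylow_coe]; exact hTP ht)
      (by rw [IsPGroup.toSylow_coe]; exact hTrel) ⟨w, hwM⟩
      (orderOf_eq_prime (by rw [pow_two]; exact Subtype.ext hw2) (fun h => hw1 (congrArg Subtype.val h)))
      (by rw [IsPGroup.toSylow_coe]; exact hwP)
      (fun h => hγV (hψw ▸ ((hT w).1 h).2)) with h | ⟨k, hk⟩
    · exact h
    · exact absurd ((hT _).1 hk) (hwT (k : G) k.2)
  set M2 : Subgroup G := N.map M.subtype with hM2
  set G0 : Subgroup G := M2.normalCore with hG0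
  have hG0M2 : G0 ≤ M2 := Subgroup.normalCore_le _
  have hM2M : M2 ≤ M := Subgroup.map_subtype_le N
  have hG0n : G0.Normal := Subgroup.normalCore_normal _
  have hodd : ∀ k : G, Odd (orderOf k) → k ∈ G0 := by
    intro k hk
    show ∀ b : G, b * k * b⁻¹ ∈ M2
    intro b
    have hk' : Odd (orderOf (b * k * b⁻¹)) := by
      rw [show b * k * b⁻¹ = MulAut.conj b k from rfl, MulEquiv.orderOf_eq]; exact hk
    have hbM := mem_of_index_two_odd hM hk'
    exact ⟨⟨_, hbM⟩, mem_of_index_two_odd hN (by rwa [← Subgroup.orderOf_coe]), rfl⟩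
  have three' : ∀ q : G, q ^ 3 = 1 → q ∈ G0 := fun q hq =>
    hodd q (Odd.of_dvd_nat (by decide) (orderOf_dvd_of_pow_eq_one hq))
  have hxG : x ∈ G0 := three' x D.X.x3
  have hzN : z ∈ G0 := by
    show ∀ b : G, b * z * b⁻¹ ∈ M2
    intro b
    have hl0 : l₀ ∈ M := hTM _ (F.E1_T D.h₀)
    have hl1 : l₁ ∈ M := hTM _ (F.E1_T D.h₁)
    have h1 := index_two_ncm hN ⟨b * l₀ * b⁻¹, hMn.conj_mem _ hl0 b⟩ ⟨b * l₁ * b⁻¹, hMn.conj_mem _ hl1 b⟩
    refine ⟨_, h1, ?_⟩
    show b * l₀ * b⁻¹ * (b * l₁ * b⁻¹) * (b * l₀ * b⁻¹)⁻¹ * (b * l₁ * b⁻¹)⁻¹ = b * z * b⁻¹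
    have h2 : l₀ * l₁ * l₀⁻¹ * l₁⁻¹ = z := by
      rw [F.l0_conj_l1 D, mul_assoc, F.B.Ez _ (E.inv_mem D.h₁.1) |>.symm, ← mul_assoc, mul_inv_cancel, one_mul]
    rw [← h2]; group
  have hTG : ∀ t, InT z a ψ t → t ∈ G0 := fun t ht => F.T_le D hG0n hza hxG hzN ht
  have hwG : w ∉ G0 := by
    intro h
    obtain ⟨q, hq, e'⟩ := hG0M2 h
    exact hwN (by rwa [← show q = ⟨w, hwM⟩ from Subtype.ext e'])
  have heG : e ∉ G0 := fun h => heM (hM2M (hG0M2 h))
  have hgG : g ∉ G0 := by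
    rcases hwe with rfl | ⟨-, hgM⟩
    · exact hwG
    · exact fun h => hgM (hM2M (hG0M2 h))
  have hgeG : g * e ∉ G0 := by
    rcases hwe with rfl | ⟨rfl, -⟩
    · exact fun h => heM (((Subgroup.mul_mem_iff_of_index_two hM).1 (hM2M (hG0M2 h))).1 hwM)
    · exact hwG
  have heven : ∀ h, InC z a h → Perm.sign (ψ h) = 1 → h ∈ G0 := by
    intro h hC hs
    have hxC := D.X.C
    have hxxC := F.C_mul hxC hxC
    have exx : ψ (x * x) = ψ x * ψ x := F.B.ψ_mul _ _ hxC.1 hxC.1
    have hsx : Perm.sign (ψ x) = 1 := by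
      have h3 := congrArg Perm.sign D.X.θ3
      rw [map_pow, map_one] at h3
      rcases Int.units_eq_one_or (Perm.sign (ψ x)) with h | h
      · exact h
      · rw [h] at h3; exact absurd h3 (by decide)
    have hp : ∀ p, p ∈ G0 → InC z a p → InV (ψ h * ψ p) → h ∈ G0 := fun p hpM hpC hV => by
      have := G0.mul_mem (hTG (h * p) ⟨F.C_mul hC hpC, by rw [F.B.ψ_mul _ _ hC.1 hpC.1]; exact hV⟩)
        (G0.inv_mem hpM)
      rwa [mul_inv_cancel_right] at this
    have odd' : ∀ p, Perm.sign (ψ h * p) = 1 → Perm.sign p = -1 → False := fun p h1 h2 => by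
      rw [map_mul, hs, h2] at h1; exact absurd h1 (by decide)
    rcases even_three (ψ x) (ψ g) (ψ h) D.X.θ3 D.X.θ1 hγs with h' | h' | h' | h' | h' | h'
    · exact hTG h ⟨hC, h'⟩
    · exact hp x hxG hxC h'
    · exact hp _ (G0.mul_mem hxG hxG) hxxC (by rw [exx]; exact h')
    · exact (odd' _ h'.2 hγs).elim
    · exact (odd' _ h'.2 (by rw [map_mul, hγs, hsx]; decide)).elim
    · exact (odd' _ h'.2 (by rw [map_mul, map_mul, hγs, hsx]; decide)).elim
  have hmem : ∀ h, h * z = z * h → (h ∈ G0 ↔ InC z a h ∧ Perm.sign (ψ h) = 1) := by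
    intro h hh
    refine ⟨fun hG => ?_, fun h' => heven h h'.1 h'.2⟩
    by_cases hC : InC z a h
    · refine ⟨hC, ?_⟩
      rcases Int.units_eq_one_or (Perm.sign (ψ h)) with hs | hs
      · exact hs
      · exfalso
        have := G0.mul_mem (G0.inv_mem hG) (heven (h * g) (F.C_mul hC P.gC) (by
          rw [F.B.ψ_mul _ _ hh P.gC.1, map_mul, hs, hγs]; decide))
        exact hgG (by rwa [inv_mul_cancel_left] at this)
    · exfalso
      have hC' := F.e_shift D P he hea hh hC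
      have hψ : ψ (h * e) = ψ h := by rw [F.B.ψ_mul _ _ hh hez, hψe, mul_one]
      rcases Int.units_eq_one_or (Perm.sign (ψ h)) with hs | hs
      · have := G0.mul_mem (G0.inv_mem hG) (heven _ hC' (by rw [hψ]; exact hs))
        exact heG (by rwa [inv_mul_cancel_left] at this)
      · have := G0.mul_mem (G0.inv_mem hG) (heven (h * e * g) (F.C_mul hC' P.gC) (by
          rw [F.B.ψ_mul _ _ hC'.1 P.gC.1, map_mul, hψ, hs, hγs]; decide))
        rw [mul_assoc h, inv_mul_cancel_left] at this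
        rw [← hge] at this
        exact hgeG this
  refine ⟨e, G0, ⟨he, he2, hea, hge, hG0n, ?_, hodd, hmem⟩⟩
  -- the index
  haveI := hG0n
  have hq : IsPGroup 2 (G ⧸ G0) := by
    intro q
    obtain ⟨k, rfl⟩ := QuotientGroup.mk'_surjective G0 q
    obtain ⟨i, j, hj, e'⟩ := Nat.exists_eq_two_pow_mul_odd (orderOf_pos k).ne'
    refine ⟨i, ?_⟩
    rw [← map_pow]
    refine (QuotientGroup.eq_one_iff _).2 (hodd _ ?_)
    rw [orderOf_pow_of_dvd (by positivity) (e' ▸ dvd_mul_right _ _), e', Nat.mul_div_cancel_left _ (by positivity)]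
    exact hj
  obtain ⟨n, hn⟩ := IsPGroup.iff_card.1 hq
  have hn' : G0.index = 2 ^ n := hn
  have hT4 : G0.relIndex (S : Subgroup G) = 4 := by
    have hinf : G0 ⊓ (S : Subgroup G) = T := by
      ext h
      rw [Subgroup.mem_inf, hS, hT]
      constructor
      · rintro ⟨hG, hh, hD⟩
        obtain ⟨hC, hs⟩ := (hmem h hh).1 hG
        exact ⟨hC, inD_even _ _ hγ hγs hD hs⟩
      · rintro ⟨hC, hV⟩
        exact ⟨heven h hC hV.2, hC.1, Or.inl hV⟩
    have h := Subgroup.relIndex_mul_relIndex ⊥ T (S : Subgroup G) bot_le hTS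
    rw [Subgroup.relIndex_bot_left, Subgroup.relIndex_bot_left, hT64, hS256] at h
    rw [← Subgroup.inf_relIndex_right, hinf]
    omega
  have h1 := Subgroup.relIndex_mul_index (le_sup_right : G0 ≤ (S : Subgroup G) ⊔ G0)
  rw [Subgroup.relIndex_sup_right, hT4] at h1
  have hd1 : ((S : Subgroup G) ⊔ G0).index ∣ (S : Subgroup G).index := Subgroup.index_dvd_of_le le_sup_left
  have hd2 : ((S : Subgroup G) ⊔ G0).index ∣ 2 ^ n := hn' ▸ Subgroup.index_dvd_of_le le_sup_right
  obtain ⟨i, -, hi⟩ := (Nat.dvd_prime_pow Nat.prime_two).1 hd2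
  rcases i with _ | i
  · rw [hi, pow_zero, mul_one] at h1; exact h1.symm
  · exact absurd (dvd_trans (by rw [hi, pow_succ]; exact dvd_mul_left 2 _) hd1) S.not_dvd_index

end Frame

end Cfsg.Agent.L34Aut
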